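import Cfsg.Agent.Omega.EH3.ETwo.F4
import Mathlib.LinearAlgebra.BilinearForm.Orthogonal
import Mathlib.LinearAlgebra.Dual.Lemmas
import Cfsg.Agent.Omega.EH3.Cons
import Cfsg.Agent.Mrg.Omega.EH3.Irr.Main
import Cfsg.Agent.SignalizersComponents.QsBasic
import Mathlib
import Cfsg.Agent.Mrg.Omega.EH3.Kf.InL
import Cfsg.Agent.Omega.EH3.Row
import Cfsg.Prelude.Def_LieTypeChar

-- merged: Cfsg.Agent.Omega.EH3.ETwo.Base
section

/-!
# THEOREM E2, step (1): the structure `Pt` at a point `c ∈ a^H`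
-/

set_option autoImplicit false
set_option linter.unusedSectionVars false

namespace Cfsg.Agent.Omega.EH3.ETwo.Base

open Module

variable {H V : Type*} [Group H] [AddCommGroup V] [Module (ZMod 2) V] [Module F4 V]

theorem z2 (c : ZMod 2) : c = 0 ∨ c = 1 := by revert c; decide

/-- multiplication by `l` as a `ZMod 2`-linear map -/
def sm (l : F4) : V →ₗ[ZMod 2] V where
  toFun v := l • v
  map_add' u v := smul_add l u v
  map_smul' c v := by
    rcases z2 c with rfl | rfl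
    · simp
    · simp

@[simp] theorem sm_apply (l : F4) (v : V) : sm l v = l • v := rfl

/-- `h` is `F4`-linear -/
def Lin (ρ : H →* (V ≃ₗ[ZMod 2] V)) (h : H) : Prop := ∀ (l : F4) (v : V), ρ h (l • v) = l • ρ h v

/-- `h` is semilinear -/
def Sem (ρ : H →* (V ≃ₗ[ZMod 2] V)) (h : H) : Prop := ∀ (l : F4) (v : V), ρ h (l • v) = l ^ 2 • ρ h v

/-- the ambient data, no bound on `w` -/
structure Amb0 (ρ : H →* (V ≃ₗ[ZMod 2] V)) (b : LinearMap.BilinForm (ZMod 2) V) (q : V → ZMod 2)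
    (w : ℕ) : Prop where
  fin : Finite V
  dim : finrank (ZMod 2) V = 2 * w
  b_self : ∀ v, b v v = 0
  nondeg : ∀ v, (∀ u, b v u = 0) → v = 0
  q_add : ∀ u v, q (u + v) = q u + q v + b u v
  q_inv : ∀ h v, q (ρ h v) = q v
  adj : (∀ (l : F4) u v, b (l • u) v = b u (l • v)) ∨ (∀ (l : F4), l ≠ 0 → ∀ u v, b (l • u) (l • v) = b u v)

/-- the ambient data, `7 ≤ w` -/
structure Amb (ρ : H →* (V ≃ₗ[ZMod 2] V)) (b : LinearMap.BilinForm (ZMod 2) V) (q : V → ZMod 2)
    (w : ℕ) : Prop extends Amb0 ρ b q w where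
  seven : 7 ≤ w

instance {ρ : H →* (V ≃ₗ[ZMod 2] V)} {b : LinearMap.BilinForm (ZMod 2) V} {q : V → ZMod 2} {w : ℕ} :
    Coe (Amb ρ b q w) (Amb0 ρ b q w) := ⟨Amb.toAmb0⟩

/-- the data at the point `c` -/
structure Pt (ρ : H →* (V ≃ₗ[ZMod 2] V)) (b : LinearMap.BilinForm (ZMod 2) V) (q : V → ZMod 2)
    (w : ℕ) (c : V) (D : Submodule (ZMod 2) V) (X : Subgroup H) : Prop where
  ne : c ≠ 0
  fmem : ∀ l : F4, l • c ∈ D
  qD : ∀ d ∈ D, q d = 0
  bD : ∀ d ∈ D, ∀ d' ∈ D, b d d' = 0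
  lin : ∀ y ∈ X, Lin ρ y
  sq : ∀ y ∈ X, y * y = 1
  fix : ∀ y ∈ X, ρ y c = c
  onD : ∀ y ∈ X, ∀ d ∈ D, ρ y d = d ∨ ρ y d = d + c
  rich : ∀ φ : V →ₗ[ZMod 2] ZMod 2, (∀ l : F4, φ (l • c) = 0) → ∃ y ∈ X, ∀ d ∈ D, ρ y d = d + φ d • c
  per : ∀ y ∈ X, ∀ v, b c v = 0 → ρ y v + v ∈ D
  semi : ∀ y ∈ X, ∀ v, b c v = 1 → ρ y v + v ∈ D → y = 1
  nD : ∀ h, Lin ρ h → ρ h c = c → ∀ d ∈ D, ρ h d ∈ D
  nX : ∀ h, Lin ρ h → ρ h c = c → ∀ y ∈ X, h * y * h⁻¹ ∈ X
  cen : ∀ v, (∀ y ∈ X, ρ y v = v) → ∃ l : F4, v = l • c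
  dim : finrank (ZMod 2) D = w

variable {ρ : H →* (V ≃ₗ[ZMod 2] V)} {b : LinearMap.BilinForm (ZMod 2) V} {q : V → ZMod 2} {w : ℕ}

theorem ρ_mul (g h : H) (v : V) : ρ (g * h) v = ρ g (ρ h v) := by rw [map_mul]; rfl

theorem ρ_one (v : V) : ρ 1 v = v := by rw [map_one]; rfl

theorem ρ_inv (g : H) (v : V) : ρ g⁻¹ (ρ g v) = v := by
  rw [← ρ_mul, inv_mul_cancel, ρ_one]

theorem ρ_inv' (g : H) (v : V) : ρ g (ρ g⁻¹ v) = v := by
  rw [← ρ_mul, mul_inv_cancel, ρ_one]

theorem Lin.mul {g h : H} (hg : Lin ρ g) (hh : Lin ρ h) : Lin ρ (g * h) := by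
  intro l v
  rw [ρ_mul, hh, hg, ← ρ_mul]

theorem Lin.inv {g : H} (hg : Lin ρ g) : Lin ρ g⁻¹ := by
  intro l v
  apply (ρ g).injective
  rw [hg, ρ_inv', ρ_inv']

theorem Lin.one : Lin ρ 1 := by
  intro l v
  rw [ρ_one, ρ_one]

/-- `v ⊥ F c` -/
def Perp (b : LinearMap.BilinForm (ZMod 2) V) (c v : V) : Prop := ∀ l : F4, b (l • c) v = 0

/-- `(F c)^⊥` -/
def perp (b : LinearMap.BilinForm (ZMod 2) V) (c : V) : Submodule (ZMod 2) V where
  carrier := {v | Perp b c v}
  zero_mem' l := map_zero _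
  add_mem' {u v} hu hv l := by rw [map_add, hu l, hv l, add_zero]
  smul_mem' k v hv l := by rw [map_smul, hv l, smul_zero]

theorem mem_perp {c v : V} : v ∈ perp b c ↔ Perp b c v := Iff.rfl

section Amb

variable (A : Amb0 ρ b q w)
include A

theorem Amb0.comm (u v : V) : b u v = b v u := by
  have h := A.b_self (u + v)
  rw [map_add, map_add, LinearMap.add_apply, LinearMap.add_apply, A.b_self, A.b_self, zero_add,
    add_zero] at h
  exact (CharTwo.add_eq_zero.1 h).symm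

theorem Amb0.b_inv (h : H) (u v : V) : b (ρ h u) (ρ h v) = b u v := by
  have h1 := A.q_add (ρ h u) (ρ h v)
  rw [← map_add, A.q_inv, A.q_inv, A.q_inv, A.q_add] at h1
  exact (add_left_cancel h1).symm

/-- `(F c)^⊥` is `F4`-invariant -/
theorem Amb0.perp_smul {c v : V} (h : Perp b c v) (k : F4) : Perp b c (k • v) := by
  intro l
  by_cases hk : k = 0
  · rw [hk, zero_smul, map_zero]
  rcases A.adj with ha | ha
  · rw [← ha, smul_smul]
    exact h _
  · have e : l • c = k • ((k⁻¹ * l) • c) := by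
      rw [smul_smul, mul_inv_cancel_left₀ hk]
    rw [e, ha k hk]
    exact h _

theorem Amb0.perp_symm {c v : V} (h : Perp b c v) : Perp b v c := by
  intro l
  rw [A.comm]
  have := A.perp_smul h l 1
  rwa [one_smul] at this

theorem Amb0.smul_perp {c v : V} (h : Perp b c v) (k : F4) : Perp b (k • c) v := by
  intro l
  rw [smul_smul]
  exact h _

theorem Amb0.perp_of_smul {c v : V} {k : F4} (hk : k ≠ 0) (h : Perp b c (k • v)) : Perp b c v := by
  have := A.perp_smul h k⁻¹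
  rwa [inv_smul_smul₀ hk] at this

omit A in
theorem perp_add {c u v : V} (h : Perp b c u) (h' : Perp b c v) : Perp b c (u + v) :=
  (perp b c).add_mem h h'

/-- `Perp c v` from two values -/
theorem perp_of_two {c v : V} (h1 : b c v = 0) (h2 : b (F4.w • c) v = 0) : Perp b c v := by
  have _ := A
  intro l
  cases l
  · have : (F4.o : F4) • c = 0 := zero_smul F4 c
    rw [this, map_zero, LinearMap.zero_apply]
  · have : (F4.i : F4) • c = c := one_smul F4 c
    rw [this, h1]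
  · exact h2
  · have : (F4.z : F4) • c = F4.w • c + c := by
      have e : (F4.z : F4) = F4.w + 1 := rfl
      rw [e, add_smul, one_smul]
    rw [this, map_add, LinearMap.add_apply, h1, h2, add_zero]

end Amb

section Pt

variable {c : V} {D : Submodule (ZMod 2) V} {X : Subgroup H}

theorem Pt.mem (P : Pt ρ b q w c D X) : c ∈ D := by
  have := P.fmem 1
  rwa [one_smul] at this

theorem Pt.fixF (P : Pt ρ b q w c D X) {y : H} (hy : y ∈ X) (l : F4) : ρ y (l • c) = l • c := by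
  rw [P.lin y hy, P.fix y hy]

theorem Pt.comm (P : Pt ρ b q w c D X) {x y : H} (hx : x ∈ X) (hy : y ∈ X) : x * y = y * x := by
  have h1 := P.sq _ (X.mul_mem hx hy)
  have hx' : x⁻¹ = x := inv_eq_of_mul_eq_one_left (P.sq x hx)
  have hy' : y⁻¹ = y := inv_eq_of_mul_eq_one_left (P.sq y hy)
  have h2 : (x * y)⁻¹ = x * y := inv_eq_of_mul_eq_one_left h1
  rw [mul_inv_rev, hx', hy'] at h2
  exact h2.symm

/-- `l • c ∈ {0, c}` only for `l ∈ {0, 1}` -/
theorem Pt.smul_eq (P : Pt ρ b q w c D X) {l k : F4} (h : l • c = k • c) : l = k := by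
  by_contra hne
  have h1 : (l - k) • c = 0 := by rw [sub_smul, h, sub_self]
  have h2 : l - k ≠ 0 := sub_ne_zero.2 hne
  rcases smul_eq_zero.1 h1 with h3 | h3
  · exact h2 h3
  · exact P.ne h3

/-- **L1** `D ∩ l⁻¹ D = F c` -/
theorem Pt.inf (P : Pt ρ b q w c D X) {l : F4} (h0 : l ≠ 0) (h1 : l ≠ 1) {d : V} (hd : d ∈ D)
    (hl : l • d ∈ D) : ∃ k : F4, d = k • c := by
  apply P.cen
  intro y hy
  rcases P.onD y hy d hd with h | h
  · exact h
  · exfalso
    have h2 := P.lin y hy l d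
    rw [h, smul_add] at h2
    rcases P.onD y hy _ hl with h3 | h3
    · rw [h3] at h2
      have h4 : l • c = (0 : F4) • c := by
        rw [zero_smul]
        exact (left_eq_add.1 h2)
      exact h0 (P.smul_eq h4)
    · rw [h3] at h2
      have h4 : l • c = (1 : F4) • c := by
        rw [one_smul]
        exact (add_left_cancel h2).symm
      exact h1 (P.smul_eq h4)

/-- **L3** -/
theorem Pt.perpD (P : Pt ρ b q w c D X) {d : V} (hd : d ∈ D) : Perp b c d :=
  fun l => P.bD _ (P.fmem l) _ hd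

theorem Pt.perp_self (P : Pt ρ b q w c D X) : Perp b c c := P.perpD P.mem

/-- **L4** `[(F c)^⊥, X] ≤ F c` -/
theorem Pt.delta (P : Pt ρ b q w c D X) (A : Amb0 ρ b q w) {v : V} (hv : Perp b c v) {y : H} (hy : y ∈ X) :
    ∃ l : F4, ρ y v = v + l • c := by
  have h1 : ρ y v + v ∈ D := P.per y hy v (by have := hv 1; rwa [one_smul] at this)
  have h2 : ρ y (F4.w • v) + F4.w • v ∈ D :=
    P.per y hy _ (by have := A.perp_smul hv F4.w 1; rwa [one_smul] at this)
  rw [P.lin y hy, ← smul_add] at h2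
  obtain ⟨k, hk⟩ := P.inf (l := F4.w) (by decide) (by decide) h1 h2
  exact ⟨k, by rw [add_eq_iff] at hk; rw [hk, add_comm]⟩

theorem Pt.inv_eq (P : Pt ρ b q w c D X) {y : H} (hy : y ∈ X) : y⁻¹ = y :=
  inv_eq_of_mul_eq_one_left (P.sq y hy)

/-- `ρ y (ρ y v) = v` -/
theorem Pt.twice (P : Pt ρ b q w c D X) {y : H} (hy : y ∈ X) (v : V) : ρ y (ρ y v) = v := by
  rw [← ρ_mul, P.sq y hy, ρ_one]

/-- **L6** double annihilator -/
theorem Pt.double (P : Pt ρ b q w c D X) (A : Amb0 ρ b q w) {W : Submodule (ZMod 2) V}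
    (hF : ∀ l : F4, l • c ∈ W) {d : V} (hd : d ∈ D)
    (h : ∀ y ∈ X, (∀ u ∈ W, u ∈ D → ρ y u = u) → ρ y d = d) : d ∈ W := by
  have _ := A.fin
  by_contra hdW
  obtain ⟨φ, h1, h2⟩ := Submodule.exists_le_ker_of_notMem hdW
  obtain ⟨y, hy, h3⟩ := P.rich φ (fun l => h2 (hF l))
  have h4 : ρ y d = d := h y hy (fun u hu huD => by
    have : φ u = 0 := h2 hu
    rw [h3 u huD, this, zero_smul, add_zero])
  rw [h3 d hd] at h4
  have h5 : φ d • c = 0 := left_eq_add.1 h4.symm
  rcases z2 (φ d) with h6 | h6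
  · exact h1 h6
  · rw [h6, one_smul] at h5
    exact P.ne h5

/-- an element of `X` moving `d ∈ D`, `d ∉ F c` -/
theorem Pt.exists_move (P : Pt ρ b q w c D X) {d : V} (hd : d ∈ D) (h : ∀ l : F4, d ≠ l • c) :
    ∃ y ∈ X, ρ y d = d + c := by
  by_contra hcon
  push Not at hcon
  obtain ⟨l, hl⟩ := P.cen d (fun y hy => (P.onD y hy d hd).resolve_right (hcon y hy))
  exact h l hl

/-! ### dimensions -/

/-- the `F4`-line -/
def line (c : V) : Submodule (ZMod 2) V := Submodule.span (ZMod 2) {c, F4.w • c}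

theorem mem_line {c v : V} : v ∈ line c ↔ ∃ l : F4, v = l • c := by
  rw [line, Submodule.mem_span_pair]
  constructor
  · rintro ⟨x, y, rfl⟩
    rcases z2 x with rfl | rfl <;> rcases z2 y with rfl | rfl
    · exact ⟨0, by simp⟩
    · exact ⟨F4.w, by simp⟩
    · exact ⟨1, by simp⟩
    · exact ⟨F4.z, by
        have e : (F4.z : F4) = 1 + F4.w := rfl
        rw [e, add_smul]; simp⟩
  · rintro ⟨l, rfl⟩
    cases l
    · exact ⟨0, 0, by rw [zero_smul, zero_smul, add_zero]; exact (zero_smul F4 c).symm⟩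
    · exact ⟨1, 0, by rw [zero_smul, one_smul, add_zero]; exact (one_smul F4 c).symm⟩
    · exact ⟨0, 1, by simp⟩
    · exact ⟨1, 1, by
        have e : (F4.z : F4) = 1 + F4.w := rfl
        rw [e, add_smul]; simp⟩

theorem finrank_line_le (c : V) : finrank (ZMod 2) (line c) ≤ 2 := by
  classical
  have h := finrank_span_le_card (R := ZMod 2) ({c, F4.w • c} : Set V)
  refine h.trans ?_
  rw [Set.toFinset_insert, Set.toFinset_singleton]
  exact Finset.card_le_two

theorem finrank_line {c : V} (hc : c ≠ 0) : finrank (ZMod 2) (line c) = 2 := by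
  have hli : LinearIndependent (ZMod 2) ![c, F4.w • c] := by
    rw [LinearIndependent.pair_iff]
    intro x y h
    have hw : (F4.w • c) ≠ 0 := by
      intro h'
      rcases smul_eq_zero.1 h' with h1 | h1
      · exact absurd h1 (by decide)
      · exact hc h1
    rcases z2 x with rfl | rfl <;> rcases z2 y with rfl | rfl
    · exact ⟨rfl, rfl⟩
    · simp only [zero_smul, one_smul, zero_add] at h
      exact absurd h hw
    · simp only [zero_smul, one_smul, add_zero] at h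
      exact absurd h hc
    · simp only [one_smul] at h
      have h2 : (F4.z : F4) • c = 0 := by
        have e : (F4.z : F4) = 1 + F4.w := rfl
        rw [e, add_smul, one_smul, h]
      rcases smul_eq_zero.1 h2 with h1 | h1
      · exact absurd h1 (by decide)
      · exact absurd h1 hc
  have h := finrank_span_eq_card hli
  have e : Set.range ![c, F4.w • c] = {c, F4.w • c} := by
    rw [Matrix.range_cons, Matrix.range_cons, Matrix.range_empty, Set.union_empty]
    rfl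
  rw [e] at h
  rw [line, h]; rfl

/-- `l • D` -/
def sD (l : F4) (D : Submodule (ZMod 2) V) : Submodule (ZMod 2) V := D.map (sm l)

theorem mem_sD {l : F4} {D : Submodule (ZMod 2) V} {v : V} : v ∈ sD l D ↔ ∃ d ∈ D, l • d = v := by
  rw [sD, Submodule.mem_map]; rfl

theorem finrank_sD {l : F4} (hl : l ≠ 0) (D : Submodule (ZMod 2) V) :
    finrank (ZMod 2) (sD l D) = finrank (ZMod 2) D := by
  have hinj : Function.Injective (sm l : V →ₗ[ZMod 2] V) := by
    intro u v h
    have := congrArg (fun x => l⁻¹ • x) h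
    simpa [inv_smul_smul₀ hl] using this
  exact (LinearEquiv.finrank_eq (Submodule.equivMapOfInjective _ hinj D)).symm

theorem Pt.inf_sD (P : Pt ρ b q w c D X) : D ⊓ sD F4.w D = line c := by
  apply le_antisymm
  · rintro v ⟨h1, h2⟩
    obtain ⟨d, hd, rfl⟩ := mem_sD.1 h2
    obtain ⟨k, rfl⟩ := P.inf (l := F4.w) (by decide) (by decide) hd h1
    exact mem_line.2 ⟨F4.w * k, by rw [smul_smul]⟩
  · intro v hv
    obtain ⟨l, rfl⟩ := mem_line.1 hv
    refine ⟨P.fmem l, mem_sD.2 ⟨(F4.w⁻¹ * l) • c, P.fmem _, ?_⟩⟩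
    rw [smul_smul, mul_inv_cancel_left₀ (by decide : F4.w ≠ 0)]

/-- the dimension of `(F c)^⊥` -/
theorem Amb0.finrank_perp (A : Amb0 ρ b q w) {c : V} (hc : c ≠ 0) :
    finrank (ZMod 2) (perp b c) ≤ 2 * w - 2 := by
  have _ := A.fin
  have hr : b.IsRefl := by
    intro u v h
    rw [A.comm]; exact h
  have hn : b.Nondegenerate := by
    refine ⟨fun v h => A.nondeg v h, fun v h => A.nondeg v fun u => ?_⟩
    rw [A.comm]; exact h u
  have h1 : perp b c = b.orthogonal (line c) := by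
    ext v
    rw [mem_perp, LinearMap.BilinForm.mem_orthogonal_iff]
    constructor
    · intro h u hu
      obtain ⟨l, rfl⟩ := mem_line.1 hu
      exact h l
    · intro h l
      exact h _ (mem_line.2 ⟨l, rfl⟩)
  rw [h1, LinearMap.BilinForm.finrank_orthogonal hn, finrank_line hc, A.dim]

/-- **L5** `(F c)^⊥ = D + w D` -/
theorem Pt.decomp (P : Pt ρ b q w c D X) (A : Amb0 ρ b q w) {v : V} (hv : Perp b c v) :
    ∃ d ∈ D, ∃ d' ∈ D, v = d + F4.w • d' := by
  have _ := A.fin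
  have h1 : D ⊔ sD F4.w D ≤ perp b c := by
    refine sup_le (fun d hd => P.perpD hd) ?_
    intro v hv
    obtain ⟨d, hd, rfl⟩ := mem_sD.1 hv
    exact A.perp_smul (P.perpD hd) _
  have h2 := Submodule.finrank_sup_add_finrank_inf_eq D (sD F4.w D)
  rw [P.inf_sD, finrank_line P.ne, finrank_sD (by decide), P.dim] at h2
  have h3 := A.finrank_perp P.ne
  have h4 : D ⊔ sD F4.w D = perp b c :=
    Submodule.eq_of_le_of_finrank_le h1 (by omega)
  have h5 : v ∈ D ⊔ sD F4.w D := by rw [h4]; exact hv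
  obtain ⟨d, hd, x, hx, rfl⟩ := Submodule.mem_sup.1 h5
  obtain ⟨d', hd', rfl⟩ := mem_sD.1 hx
  exact ⟨d, hd, d', hd', rfl⟩

end Pt

end Cfsg.Agent.Omega.EH3.ETwo.Base

end

-- merged: Cfsg.Agent.Omega.EH3.ETwo.Type
section

/-!
# THEOREM E2, steps (2), (3)
-/

set_option autoImplicit false
set_option linter.unusedSectionVars false

namespace Cfsg.Agent.Omega.EH3.ETwo.Type

open Module Cfsg.Agent.Omega.EH3.ETwo.Base

variable {H V : Type*} [Group H] [AddCommGroup V] [Module (ZMod 2) V] [Module F4 V]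
  {ρ : H →* (V ≃ₗ[ZMod 2] V)} {b : LinearMap.BilinForm (ZMod 2) V} {q : V → ZMod 2} {w : ℕ}
  {a e : V} {D E : Submodule (ZMod 2) V} {X Y : Subgroup H}

/-- `D ∩ (F e)^⊥` has codimension at most 2 in `D` -/
theorem finrank_inf (A : Amb0 ρ b q w) (P : Pt ρ b q w a D X) (e : V) :
    w ≤ finrank (ZMod 2) ((D ⊓ perp b e : Submodule (ZMod 2) V)) + 2 := by
  have _ := A.fin
  have key : ∀ (U : Submodule (ZMod 2) V) (φ : V →ₗ[ZMod 2] ZMod 2),
      finrank (ZMod 2) U ≤ finrank (ZMod 2) (U ⊓ LinearMap.ker φ : Submodule (ZMod 2) V) + 1 := by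
    intro U φ
    have h := LinearMap.finrank_range_add_finrank_ker (φ.domRestrict U)
    have h1 : finrank (ZMod 2) (LinearMap.range (φ.domRestrict U)) ≤ 1 := by
      have := Submodule.finrank_le (LinearMap.range (φ.domRestrict U))
      rwa [finrank_self] at this
    have h2 : finrank (ZMod 2) (LinearMap.ker (φ.domRestrict U)) =
        finrank (ZMod 2) (U ⊓ LinearMap.ker φ : Submodule (ZMod 2) V) := by
      have e1 : (LinearMap.ker (φ.domRestrict U)).map U.subtype = U ⊓ LinearMap.ker φ := by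
        ext v
        rw [Submodule.mem_map, Submodule.mem_inf, LinearMap.mem_ker]
        constructor
        · rintro ⟨⟨x, hx⟩, h1, rfl⟩
          exact ⟨hx, h1⟩
        · rintro ⟨hx, h1⟩
          exact ⟨⟨v, hx⟩, h1, rfl⟩
      rw [← e1]
      exact (LinearEquiv.finrank_eq (Submodule.equivMapOfInjective _ U.injective_subtype _))
    omega
  have e1 : D ⊓ perp b e = D ⊓ LinearMap.ker (b e) ⊓ LinearMap.ker (b (F4.w • e)) := by
    ext v
    simp only [Submodule.mem_inf, LinearMap.mem_ker, mem_perp]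
    constructor
    · rintro ⟨h1, h2⟩
      refine ⟨⟨h1, ?_⟩, h2 _⟩
      have := h2 1
      rwa [one_smul] at this
    · rintro ⟨⟨h1, h2⟩, h3⟩
      exact ⟨h1, perp_of_two A h2 h3⟩
  have h1 := key D (b e)
  have h2 := key (D ⊓ LinearMap.ker (b e)) (b (F4.w • e))
  rw [← e1] at h2
  have := P.dim
  omega

/-- **(2)** every `e ∈ a^H`, `e ⊥ F a`, `e ∉ F a` lies in some `l⁻¹ D(a)` -/
theorem type_one (A : Amb ρ b q w) (P : Pt ρ b q w a D X) (Q : Pt ρ b q w e E Y)
    (hp : Perp b a e) (hne : ∀ l : F4, e ≠ l • a) : ∃ l : F4, l ≠ 0 ∧ l • e ∈ D := by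
  have _ := A.fin
  by_contra hcon
  push Not at hcon
  have hpe := A.perp_symm hp
  obtain ⟨d1, hd1, d2, hd2, ha⟩ := Q.decomp A hpe
  -- the elements of `Y` fixing `a`
  have hS : ∀ y ∈ Y, ρ y a = a → ∀ v ∈ D, Perp b e v → ρ y v = v := by
    intro y hy hya v hv hev
    obtain ⟨l, hl⟩ := Q.delta A hev hy
    have h1 := P.nD y (Q.lin y hy) hya v hv
    rw [hl] at h1
    have h2 : l • e ∈ D := by
      have := D.add_mem hv h1
      rwa [← add_assoc, self_add, zero_add] at this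
    by_cases h0 : l = 0
    · rw [hl, h0, zero_smul, add_zero]
    · exact absurd h2 (hcon l h0)
  set W : Submodule (ZMod 2) V := line e ⊔ Submodule.span (ZMod 2) {d1, d2} with hW
  have hWF : ∀ l : F4, l • e ∈ W := fun l => Submodule.mem_sup_left (mem_line.2 ⟨l, rfl⟩)
  have hW1 : d1 ∈ W := Submodule.mem_sup_right (Submodule.subset_span (by simp))
  have hW2 : d2 ∈ W := Submodule.mem_sup_right (Submodule.subset_span (by simp))
  set Z : Submodule (ZMod 2) V := W ⊔ sD F4.w W with hZ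
  set D1 : Submodule (ZMod 2) V := D ⊓ perp b e with hD1
  have h1 : D1 ≤ Z := by
    rintro v ⟨hv, hev⟩
    obtain ⟨d, hd, d', hd', hdec⟩ := Q.decomp A hev
    have key : ∀ y ∈ Y, (∀ u ∈ W, u ∈ E → ρ y u = u) → ρ y d = d ∧ ρ y d' = d' := by
      intro y hy hfix
      have hya : ρ y a = a := by
        rw [ha, map_add, Q.lin y hy, hfix d1 hW1 hd1, hfix d2 hW2 hd2]
      have h2 := hS y hy hya v hv hev
      rw [hdec, map_add, Q.lin y hy] at h2
      rcases Q.onD y hy d hd with h3 | h3 <;> rcases Q.onD y hy d' hd' with h4 | h4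
      · exact ⟨h3, h4⟩
      · exfalso
        rw [h3, h4, smul_add, add_right_inj] at h2
        have h5 : F4.w • e = (0 : F4) • e := by rw [zero_smul]; exact left_eq_add.1 h2.symm
        exact absurd (Q.smul_eq h5) (by decide)
      · exfalso
        rw [h3, h4, add_left_inj] at h2
        exact Q.ne (left_eq_add.1 h2.symm)
      · exfalso
        rw [h3, h4, smul_add] at h2
        have h6 : e + F4.w • e = 0 := by
          have h7 : d + F4.w • d' + (e + F4.w • e) = d + e + (F4.w • d' + F4.w • e) := by abel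
          rw [h2] at h7
          exact left_eq_add.1 h7.symm
        have h7 : (F4.z : F4) • e = (0 : F4) • e := by
          have e1 : (F4.z : F4) = 1 + F4.w := rfl
          rw [e1, add_smul, one_smul, zero_smul, h6]
        exact absurd (Q.smul_eq h7) (by decide)
    have hdW : d ∈ W := Q.double A hWF hd fun y hy hfix => (key y hy hfix).1
    have hdW' : d' ∈ W := Q.double A hWF hd' fun y hy hfix => (key y hy hfix).2
    rw [hdec]
    exact Submodule.add_mem_sup hdW (mem_sD.2 ⟨d', hdW', rfl⟩)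
  have h2 : sD F4.w D1 ≤ Z := by
    rintro _ hx0
    obtain ⟨v, hv, rfl⟩ := mem_sD.1 hx0
    obtain ⟨x, hx, y, hy, rfl⟩ := Submodule.mem_sup.1 (h1 hv)
    obtain ⟨z, hz, rfl⟩ := mem_sD.1 hy
    have e1 : F4.w • (x + F4.w • z) = z + F4.w • (x + z) := by
      rw [smul_add, smul_smul]
      have : (F4.w * F4.w : F4) = 1 + F4.w := rfl
      rw [this, add_smul, one_smul, smul_add]
      abel
    rw [e1]
    exact Submodule.add_mem_sup hz (mem_sD.2 ⟨_, W.add_mem hx hz, rfl⟩)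
  -- dimension of `Z`
  have hZ6 : finrank (ZMod 2) Z ≤ 6 := by
    classical
    have h3 : Z ≤ Submodule.span (ZMod 2)
        (({e, F4.w • e, d1, d2, F4.w • d1, F4.w • d2} : Finset V) : Set V) := by
      have hWs : ∀ l : F4, l = 1 ∨ l = F4.w → ∀ x ∈ W, l • x ∈ Submodule.span (ZMod 2)
          (({e, F4.w • e, d1, d2, F4.w • d1, F4.w • d2} : Finset V) : Set V) := by
        intro l hl x hx
        set T := Submodule.span (ZMod 2)
          (({e, F4.w • e, d1, d2, F4.w • d1, F4.w • d2} : Finset V) : Set V) with hT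
        have he1 : e ∈ T := Submodule.subset_span (by simp)
        have he2 : F4.w • e ∈ T := Submodule.subset_span (by simp)
        have hd1T : d1 ∈ T := Submodule.subset_span (by simp)
        have hd2T : d2 ∈ T := Submodule.subset_span (by simp)
        have hd3T : F4.w • d1 ∈ T := Submodule.subset_span (by simp)
        have hd4T : F4.w • d2 ∈ T := Submodule.subset_span (by simp)
        have hlT : W ≤ T.comap (sm l) := by
          refine sup_le ?_ ?_
          · rw [line, Submodule.span_le]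
            intro x hx
            simp only [Set.mem_insert_iff, Set.mem_singleton_iff] at hx
            rcases hx with hx | hx
            · rw [hx]
              rcases hl with rfl | rfl
              · change (1 : F4) • e ∈ T
                rw [one_smul]; exact he1
              · exact he2
            · rw [hx]
              rcases hl with rfl | rfl
              · change (1 : F4) • (F4.w • e) ∈ T
                rw [one_smul]; exact he2
              · change F4.w • (F4.w • e) ∈ T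
                rw [smul_smul]
                have : (F4.w * F4.w : F4) = 1 + F4.w := rfl
                rw [this, add_smul, one_smul]
                exact T.add_mem he1 he2
          · rw [Submodule.span_le]
            intro x hx
            simp only [Set.mem_insert_iff, Set.mem_singleton_iff] at hx
            rcases hx with hx | hx
            · rw [hx]
              rcases hl with rfl | rfl
              · change (1 : F4) • d1 ∈ T
                rw [one_smul]; exact hd1T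
              · exact hd3T
            · rw [hx]
              rcases hl with rfl | rfl
              · change (1 : F4) • d2 ∈ T
                rw [one_smul]; exact hd2T
              · exact hd4T
        exact hlT hx
      refine sup_le (fun x hx => ?_) ?_
      · have := hWs 1 (Or.inl rfl) x hx
        rwa [one_smul] at this
      · intro x hx
        obtain ⟨z, hz, rfl⟩ := mem_sD.1 hx
        exact hWs _ (Or.inr rfl) z hz
    refine (Submodule.finrank_mono h3).trans ((finrank_span_finset_le_card _).trans ?_)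
    exact Finset.card_le_six
  have h3 := Submodule.finrank_sup_add_finrank_inf_eq D1 (sD F4.w D1)
  have h4 : D1 ⊓ sD F4.w D1 ≤ line a := by
    rw [← P.inf_sD]
    exact inf_le_inf inf_le_left (Submodule.map_mono inf_le_left)
  have h5 := Submodule.finrank_mono h4
  have h6 := finrank_line_le a
  rw [finrank_sD (by decide)] at h3
  have h7 := Submodule.finrank_mono (sup_le h1 h2)
  have h8 := finrank_inf A P e
  have h9 := A.seven
  rw [← hD1] at h8
  omega

/-- the commutator computation of (3) -/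
theorem beta_mem (A : Amb0 ρ b q w) (P : Pt ρ b q w a D X) (Q : Pt ρ b q w e E Y)
    (hp : Perp b a e) {l : F4} (hl0 : l ≠ 0) (hl : l • e ∈ D) (hne : ∀ l : F4, e ≠ l • a)
    {s : H} (hs : s ∈ Y) (hsa : ρ s a = a) {v : V} (hv : v ∈ D) (hev : Perp b e v) :
    ∃ k : F4, ρ s v = v + k • e ∧ (k * l⁻¹ = 0 ∨ k * l⁻¹ = 1) := by
  have _ := hp
  have hne' : ∀ k : F4, l • e ≠ k • a := by
    intro k h
    apply hne (l⁻¹ * k)
    rw [mul_smul, ← h, inv_smul_smul₀ hl0]
  obtain ⟨y, hy, hye⟩ := P.exists_move hl hne'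
  obtain ⟨k, hk⟩ := Q.delta A hev hs
  refine ⟨k, hk, ?_⟩
  have hye' : ρ y e = e + l⁻¹ • a := by
    have h1 := P.lin y hy l⁻¹ (l • e)
    rw [inv_smul_smul₀ hl0, hye, smul_add, inv_smul_smul₀ hl0] at h1
    exact h1
  have ht := P.nX s (Q.lin s hs) hsa y hy
  -- `v + δ_y v`
  have hv' : v ∈ D := hv
  obtain ⟨c1, hc1⟩ : ∃ c1 : F4, ρ y v = v + c1 • a := by
    rcases P.onD y hy v hv with h | h
    · exact ⟨0, by rw [h, zero_smul, add_zero]⟩
    · exact ⟨1, by rw [h, one_smul]⟩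
  have hs1 : ρ s⁻¹ v = v + k • e := by rw [Q.inv_eq hs, hk]
  have hs2 : ρ s e = e := Q.fix s hs
  have h1 : ρ (s * y * s⁻¹ * y⁻¹) v = v + (k * l⁻¹) • a := by
    have hyi : y⁻¹ = y := P.inv_eq hy
    have hsa' : ρ s⁻¹ a = a := by rw [Q.inv_eq hs, hsa]
    have e0 : ρ (s * y * s⁻¹ * y⁻¹) v = ρ s (ρ y (ρ s⁻¹ (ρ y⁻¹ v))) := by
      rw [ρ_mul, ρ_mul, ρ_mul]
    rw [e0, hyi, hc1, map_add (ρ s⁻¹), hs1, (Q.lin s hs).inv, hsa', map_add (ρ y), map_add (ρ y), hc1,
      P.lin y hy k, hye', P.fixF hy, map_add (ρ s), map_add (ρ s), map_add (ρ s), hk, Q.lin s hs,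
      hsa, Q.lin s hs, map_add (ρ s), hs2, Q.lin s hs, hsa, smul_add, smul_smul]
    have h2 := self_add (k • e)
    have h3 := self_add (c1 • a)
    calc v + k • e + c1 • a + (k • e + (k * l⁻¹) • a) + c1 • a
        = v + (k * l⁻¹) • a + (k • e + k • e) + (c1 • a + c1 • a) := by abel
      _ = _ := by rw [h2, h3, add_zero, add_zero]
  have hmem : s * y * s⁻¹ * y⁻¹ ∈ X := X.mul_mem ht (X.inv_mem hy)
  rcases P.onD _ hmem v hv with h2 | h2
  · left
    rw [h1] at h2
    have h3 : (k * l⁻¹) • a = (0 : F4) • a := by rw [zero_smul]; exact left_eq_add.1 h2.symm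
    exact P.smul_eq h3
  · right
    rw [h1] at h2
    have h3 : (k * l⁻¹) • a = (1 : F4) • a := by rw [one_smul]; exact add_left_cancel h2
    exact P.smul_eq h3

/-- one half of (3): `l⁻¹ v ∈ E + F a` for `v ∈ D`, `v ⊥ F e` -/
theorem half (A : Amb0 ρ b q w) (P : Pt ρ b q w a D X) (Q : Pt ρ b q w e E Y)
    (hp : Perp b a e) {l : F4} (hl0 : l ≠ 0) (hl : l • e ∈ D) (hne : ∀ l : F4, e ≠ l • a)
    {k : F4} (hk0 : k ≠ 0) (hk : k • a ∈ E) {v : V} (hv : v ∈ D) (hev : Perp b e v) :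
    ∃ d ∈ E, ∃ t : F4, l⁻¹ • v = d + t • a := by
  obtain ⟨d, hd, d', hd', hdec⟩ := Q.decomp A (A.perp_smul hev l⁻¹)
  set W : Submodule (ZMod 2) V := line e ⊔ Submodule.span (ZMod 2) {k • a} with hW
  have hWF : ∀ l : F4, l • e ∈ W := fun l => Submodule.mem_sup_left (mem_line.2 ⟨l, rfl⟩)
  have hWa : k • a ∈ W := Submodule.mem_sup_right (Submodule.subset_span rfl)
  have hdW : d' ∈ W := by
    refine Q.double A hWF hd' fun s hs hfix => ?_
    have hsa : ρ s a = a := by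
      have h1 := hfix _ hWa hk
      rw [Q.lin s hs] at h1
      have h2 := congrArg (fun x => k⁻¹ • x) h1
      simpa [inv_smul_smul₀ hk0] using h2
    obtain ⟨t, ht, ht'⟩ := beta_mem A P Q hp hl0 hl hne hs hsa hv hev
    have h3 : ρ s (l⁻¹ • v) = l⁻¹ • v + (t * l⁻¹) • e := by
      rw [Q.lin s hs, ht, smul_add, smul_smul, mul_comm]
    rw [hdec, map_add, Q.lin s hs] at h3
    rcases Q.onD s hs d' hd' with h5 | h5
    · exact h5
    exfalso
    have h6 : ∃ c : F4, (c = 0 ∨ c = 1) ∧ F4.w • e = c • e := by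
      rcases Q.onD s hs d hd with h4 | h4
      · refine ⟨t * l⁻¹, ht', ?_⟩
        rw [h4, h5, smul_add, ← add_assoc] at h3
        exact add_left_cancel h3
      · refine ⟨t * l⁻¹ + 1, ?_, ?_⟩
        · rcases ht' with h | h
          · right; rw [h]; rfl
          · left; rw [h]; rfl
        · rw [h4, h5, smul_add] at h3
          rw [add_smul, one_smul]
          have h7 : d + F4.w • d' + (e + F4.w • e) = d + F4.w • d' + (t * l⁻¹) • e := by
            rw [← h3]; abel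
          have h8 := add_left_cancel h7
          rw [← h8, add_comm e, add_self_add]
    obtain ⟨c, hc, hce⟩ := h6
    have := Q.smul_eq hce
    rcases hc with rfl | rfl
    · exact absurd this (by decide)
    · exact absurd this (by decide)
  obtain ⟨x, hx, y, hy, hxy⟩ := Submodule.mem_sup.1 hdW
  obtain ⟨c, rfl⟩ := mem_line.1 hx
  obtain ⟨t, rfl⟩ := Submodule.mem_span_singleton.1 hy
  refine ⟨d + F4.w • (c • e), ?_, F4.w * ((if t = 0 then 0 else 1) * k), ?_⟩
  · refine E.add_mem hd ?_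
    rw [smul_smul]; exact Q.fmem _
  · rw [hdec, ← hxy, smul_add, ← add_assoc]
    congr 1
    rcases z2 t with rfl | rfl
    · simp
    · simp [smul_smul]

/-- **(3)** `ν(a, e) ν(e, a) = 1` -/
theorem inv_type (A : Amb ρ b q w) (P : Pt ρ b q w a D X) (Q : Pt ρ b q w e E Y)
    (hp : Perp b a e) (hne : ∀ l : F4, e ≠ l • a) {l k : F4} (hl0 : l ≠ 0) (hl : l • e ∈ D)
    (hk0 : k ≠ 0) (hk : k • a ∈ E) : l * k = 1 := by
  have _ := A.fin
  have hpe := A.perp_symm hp
  have hne' : ∀ t : F4, a ≠ t • e := by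
    intro t h
    by_cases ht : t = 0
    · rw [ht, zero_smul] at h; exact P.ne h
    · apply hne t⁻¹
      rw [h, inv_smul_smul₀ ht]
  by_contra hcon
  set κ : F4 := k⁻¹ * l⁻¹ with hκ
  have hκ0 : κ ≠ 0 := mul_ne_zero (inv_ne_zero hk0) (inv_ne_zero hl0)
  have hκ1 : κ ≠ 1 := by
    intro h
    apply hcon
    have : (l * k)⁻¹ = 1 := by rw [mul_inv_rev, ← hκ, h]
    rw [← inv_inv (l * k), this, inv_one]
  have key : D ⊓ perp b e ≤ line a ⊔ Submodule.span (ZMod 2) {l • e} := by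
    rintro v ⟨hv, hev⟩
    obtain ⟨d, hd, t, h1⟩ := half A P Q hp hl0 hl hne hk0 hk hv hev
    have hpd : Perp b a d := by
      have h2 : d = l⁻¹ • v + t • a := by rw [h1, add_self_add]
      rw [h2]
      exact perp_add (A.perp_smul (P.perpD hv) _) (A.perp_smul P.perp_self _)
    obtain ⟨d3, hd3, t', h3⟩ := half A Q P hpe hk0 hk hne' hl0 hl hd hpd
    -- `κ v = d₄ + γ (l e)`
    have h4 : κ • v = (d3 + (k⁻¹ * t) • a) + (t' * l⁻¹) • (l • e) := by
      rw [hκ, mul_smul, h1, smul_add, h3, smul_smul, smul_smul, mul_assoc, inv_mul_cancel₀ hl0, mul_one]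
      abel
    have hdec : ∀ κ γ : F4, κ ≠ 0 → κ ≠ 1 → ∃ g0 g1 : ZMod 2, γ = (if g0 = 0 then 0 else 1) +
        κ * (if g1 = 0 then 0 else 1) := by decide
    obtain ⟨g0, g1, hg⟩ := hdec κ (t' * l⁻¹) hκ0 hκ1
    have h5 : κ • (v + (if g1 = 0 then (0 : F4) else 1) • (l • e)) =
        (d3 + (k⁻¹ * t) • a) + (if g0 = 0 then (0 : F4) else 1) • (l • e) := by
      rw [smul_add, h4, hg, add_smul, smul_smul κ]
      have := self_add ((κ * (if g1 = 0 then (0 : F4) else 1)) • (l • e))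
      calc _ = (d3 + (k⁻¹ * t) • a) + (if g0 = 0 then (0 : F4) else 1) • (l • e) +
          ((κ * (if g1 = 0 then (0 : F4) else 1)) • (l • e) +
            (κ * (if g1 = 0 then (0 : F4) else 1)) • (l • e)) := by abel
        _ = _ := by rw [this, add_zero]
    have hif : ∀ g : ZMod 2, (if g = 0 then (0 : F4) else 1) • (l • e) ∈ D := by
      intro g
      rcases z2 g with rfl | rfl
      · simp
      · simpa using hl
    have h6 : v + (if g1 = 0 then (0 : F4) else 1) • (l • e) ∈ D := D.add_mem hv (hif g1)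
    have h7 : κ • (v + (if g1 = 0 then (0 : F4) else 1) • (l • e)) ∈ D := by
      rw [h5]
      exact D.add_mem (D.add_mem hd3 (P.fmem _)) (hif g0)
    obtain ⟨c, hc⟩ := P.inf hκ0 hκ1 h6 h7
    have h8 : v = c • a + g1 • (l • e) := by
      rw [← hc]
      rcases z2 g1 with rfl | rfl
      · simp
      · simp [add_self_add]
    rw [h8]
    exact Submodule.add_mem_sup (mem_line.2 ⟨c, rfl⟩) (Submodule.smul_mem _ _ (Submodule.subset_span rfl))
  have h1 := Submodule.finrank_mono key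
  have h2 := Submodule.finrank_sup_add_finrank_inf_eq (line a) (Submodule.span (ZMod 2) {l • e})
  have h3 := finrank_line_le a
  have h4 : finrank (ZMod 2) (Submodule.span (ZMod 2) {l • e}) ≤ 1 := by
    classical
    have := finrank_span_finset_le_card (R := ZMod 2) ({l • e} : Finset V)
    rw [Finset.card_singleton] at this
    rwa [Finset.coe_singleton] at this
  have h5 := finrank_inf A P e
  have h6 := A.seven
  omega

end Cfsg.Agent.Omega.EH3.ETwo.Type

end

-- merged: Cfsg.Agent.Omega.EH3.ETwo.Map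
section

/-!
# THEOREM E2: transport of `Pt` by elements of `H`
-/

set_option autoImplicit false
set_option linter.unusedSectionVars false

namespace Cfsg.Agent.Omega.EH3.ETwo.Map

open Module Cfsg.Agent.Omega.EH3.ETwo.Base

variable {H V : Type*} [Group H] [AddCommGroup V] [Module (ZMod 2) V] [Module F4 V]
  {ρ : H →* (V ≃ₗ[ZMod 2] V)} {b : LinearMap.BilinForm (ZMod 2) V} {q : V → ZMod 2} {w : ℕ}
  {c : V} {D : Submodule (ZMod 2) V} {X : Subgroup H}

theorem exists_t {h : H} (hh : Lin ρ h ∨ Sem ρ h) :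
    ∃ t : F4 → F4, (∀ l (v : V), ρ h (l • v) = t l • ρ h v) ∧ (∀ l (v : V), l • ρ h v = ρ h (t l • v)) := by
  rcases hh with h1 | h1
  · exact ⟨id, h1, fun l v => (h1 l v).symm⟩
  · refine ⟨fun l => l ^ 2, h1, fun l v => ?_⟩
    rw [h1]
    have : ∀ l : F4, (l ^ 2) ^ 2 = l := by decide
    rw [this]

/-- conjugates of linear elements are linear -/
theorem lin_conj {h y : H} (hh : Lin ρ h ∨ Sem ρ h) (hy : Lin ρ y) : Lin ρ (h * y * h⁻¹) := by
  obtain ⟨t, h1, h2⟩ := exists_t hh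
  intro l v
  have e : ∀ v, ρ (h * y * h⁻¹) v = ρ h (ρ y (ρ h⁻¹ v)) := fun v => by rw [ρ_mul, ρ_mul]
  rw [e, e]
  have h3 : ρ h⁻¹ (l • v) = t l • ρ h⁻¹ v := by
    apply (ρ h).injective
    rw [ρ_inv', ← h2, ρ_inv']
  rw [h3, hy, ← h2]

theorem map (A : Amb0 ρ b q w) (P : Pt ρ b q w c D X) (h : H) (hh : Lin ρ h ∨ Sem ρ h) :
    Pt ρ b q w (ρ h c) (D.map (ρ h : V →ₗ[ZMod 2] V)) (X.map (MulAut.conj h).toMonoidHom) := by
  obtain ⟨t, h1, h2⟩ := exists_t hh
  have hconj : ∀ y v, ρ (h * y * h⁻¹) (ρ h v) = ρ h (ρ y v) := fun y v => by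
    rw [← ρ_mul, ← ρ_mul]; congr 2; group
  have hmem : ∀ d : V, ρ h d ∈ D.map (ρ h : V →ₗ[ZMod 2] V) ↔ d ∈ D := fun d => by
    rw [Submodule.mem_map]
    constructor
    · rintro ⟨x, hx, e⟩
      rwa [← (ρ h).injective e]
    · intro hd; exact ⟨d, hd, rfl⟩
  refine ⟨?_, ?_, ?_, ?_, ?_, ?_, ?_, ?_, ?_, ?_, ?_, ?_, ?_, ?_, ?_⟩
  · intro h3
    exact P.ne ((ρ h).map_eq_zero_iff.1 h3)
  · intro l
    rw [h2, hmem]
    exact P.fmem _
  · rintro _ ⟨d, hd, rfl⟩
    exact (A.q_inv h d).trans (P.qD d hd)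
  · rintro _ ⟨d, hd, rfl⟩ _ ⟨d', hd', rfl⟩
    exact (A.b_inv h d d').trans (P.bD d hd d' hd')
  · rintro _ ⟨y, hy, rfl⟩
    exact lin_conj hh (P.lin y hy)
  · rintro _ ⟨y, hy, rfl⟩
    change h * y * h⁻¹ * (h * y * h⁻¹) = 1
    have : h * y * h⁻¹ * (h * y * h⁻¹) = h * (y * y) * h⁻¹ := by group
    rw [this, P.sq y hy, mul_one, mul_inv_cancel]
  · rintro _ ⟨y, hy, rfl⟩
    change ρ (h * y * h⁻¹) (ρ h c) = ρ h c
    rw [hconj, P.fix y hy]
  · rintro _ ⟨y, hy, rfl⟩ _ ⟨d, hd, rfl⟩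
    change ρ (h * y * h⁻¹) (ρ h d) = ρ h d ∨ ρ (h * y * h⁻¹) (ρ h d) = ρ h d + ρ h c
    rw [hconj]
    rcases P.onD y hy d hd with h3 | h3
    · left; rw [h3]
    · right; rw [h3, map_add]
  · intro φ hφ
    obtain ⟨y, hy, h3⟩ := P.rich (φ ∘ₗ (ρ h : V →ₗ[ZMod 2] V)) (fun l => by
      change φ (ρ h (l • c)) = 0
      rw [h1]; exact hφ _)
    refine ⟨_, ⟨y, hy, rfl⟩, ?_⟩
    rintro _ ⟨d, hd, rfl⟩
    change ρ (h * y * h⁻¹) (ρ h d) = ρ h d + φ (ρ h d) • ρ h c
    rw [hconj, h3 d hd, map_add, map_smul]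
    rfl
  · rintro _ ⟨y, hy, rfl⟩ v hv
    change ρ (h * y * h⁻¹) v + v ∈ _
    have e : v = ρ h (ρ h⁻¹ v) := (ρ_inv' h v).symm
    have h3 : b c (ρ h⁻¹ v) = 0 := by
      rw [← A.b_inv h, ρ_inv']; exact hv
    rw [e, hconj, ← map_add, hmem]
    exact P.per y hy _ h3
  · rintro _ ⟨y, hy, rfl⟩ v hv h3
    change h * y * h⁻¹ = 1
    change ρ (h * y * h⁻¹) v + v ∈ _ at h3
    have e : v = ρ h (ρ h⁻¹ v) := (ρ_inv' h v).symm
    have h4 : b c (ρ h⁻¹ v) = 1 := by
      rw [← A.b_inv h, ρ_inv']; exact hv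
    rw [e, hconj, ← map_add, hmem] at h3
    rw [P.semi y hy _ h4 h3, mul_one, mul_inv_cancel]
  · intro g hg hgc
    rintro _ ⟨d, hd, rfl⟩
    have hg' : Lin ρ (h⁻¹ * g * h) := by
      have h5 : Lin ρ h⁻¹ ∨ Sem ρ h⁻¹ := by
        rcases hh with h6 | h6
        · exact Or.inl h6.inv
        · right
          intro l v
          apply (ρ h).injective
          have e2 : ∀ l : F4, (l ^ 2) ^ 2 = l := by decide
          rw [ρ_inv', h6, e2, ρ_inv']
      have := lin_conj h5 hg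
      rwa [inv_inv] at this
    have h3 : ρ (h⁻¹ * g * h) c = c := by
      rw [ρ_mul, ρ_mul, hgc, ρ_inv]
    have h4 := P.nD _ hg' h3 d hd
    change ρ g (ρ h d) ∈ _
    have e : ρ g (ρ h d) = ρ h (ρ (h⁻¹ * g * h) d) := by
      rw [← ρ_mul, ← ρ_mul]; congr 2; group
    rw [e, hmem]
    exact h4
  · intro g hg hgc
    rintro _ ⟨y, hy, rfl⟩
    have hg' : Lin ρ (h⁻¹ * g * h) := by
      have h5 : Lin ρ h⁻¹ ∨ Sem ρ h⁻¹ := by
        rcases hh with h6 | h6
        · exact Or.inl h6.inv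
        · right
          intro l v
          apply (ρ h).injective
          have e2 : ∀ l : F4, (l ^ 2) ^ 2 = l := by decide
          rw [ρ_inv', h6, e2, ρ_inv']
      have := lin_conj h5 hg
      rwa [inv_inv] at this
    have h3 : ρ (h⁻¹ * g * h) c = c := by
      rw [ρ_mul, ρ_mul, hgc, ρ_inv]
    have h4 := P.nX _ hg' h3 y hy
    refine ⟨_, h4, ?_⟩
    change h * (h⁻¹ * g * h * y * (h⁻¹ * g * h)⁻¹) * h⁻¹ = g * (h * y * h⁻¹) * g⁻¹
    group
  · intro v hv
    have h3 : ∀ y ∈ X, ρ y (ρ h⁻¹ v) = ρ h⁻¹ v := by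
      intro y hy
      have h4 := hv _ ⟨y, hy, rfl⟩
      change ρ (h * y * h⁻¹) v = v at h4
      apply (ρ h).injective
      rw [ρ_inv', ← hconj, ρ_inv']
      exact h4
    obtain ⟨l, hl⟩ := P.cen _ h3
    refine ⟨t l, ?_⟩
    rw [← h1, ← hl, ρ_inv']
  · rw [← P.dim]
    exact LinearEquiv.finrank_eq (Submodule.equivMapOfInjective _ (ρ h).injective D).symm

end Cfsg.Agent.Omega.EH3.ETwo.Map

end

-- merged: Cfsg.Agent.Omega.EH3.ETwo.Opp
section

/-!
# THEOREM E2, step (4): opposite points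
-/

set_option autoImplicit false
set_option linter.unusedSectionVars false

namespace Cfsg.Agent.Omega.EH3.ETwo.Opp

open Module Cfsg.Agent.Omega.EH3.ETwo.Base Cfsg.Agent.Omega.EH3.ETwo.Type
  Cfsg.Agent.Omega.EH3.ETwo.Map

variable {H V : Type*} [Group H] [AddCommGroup V] [Module (ZMod 2) V] [Module F4 V]
  {ρ : H →* (V ≃ₗ[ZMod 2] V)} {b : LinearMap.BilinForm (ZMod 2) V} {q : V → ZMod 2} {w : ℕ}
  {a c : V} {D E : Submodule (ZMod 2) V} {X Y : Subgroup H} {m : F4}

/-- two opposite points -/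
structure Op (ρ : H →* (V ≃ₗ[ZMod 2] V)) (b : LinearMap.BilinForm (ZMod 2) V) (q : V → ZMod 2) (w : ℕ)
    (a c : V) (D E : Submodule (ZMod 2) V) (X Y : Subgroup H) (m : F4) : Prop where
  A : Amb ρ b q w
  P : Pt ρ b q w a D X
  Q : Pt ρ b q w c E Y
  one : b a c = 1
  m0 : m ≠ 0
  m1 : m ≠ 1
  hm : b a (m • c) = 0

theorem add_one_smul (v : V) : F4.z • v = v + F4.w • v := by
  have e : (F4.z : F4) = 1 + F4.w := rfl
  rw [e, add_smul, one_smul]

theorem exists_m (h : b a c = 1) : ∃ m : F4, m ≠ 0 ∧ m ≠ 1 ∧ b a (m • c) = 0 := by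
  have h1 : b a (F4.z • c) = b a c + b a (F4.w • c) := by rw [add_one_smul, map_add]
  rcases z2 (b a (F4.w • c)) with h2 | h2
  · exact ⟨F4.w, by decide, by decide, h2⟩
  · refine ⟨F4.z, by decide, by decide, ?_⟩
    rw [h1, h, h2]; rfl

/-- the coefficient in `{0, 1}` -/
def cf (k : ZMod 2) : F4 := if k = 0 then 0 else 1

theorem cf_smul (k : ZMod 2) (v : V) : cf k • v = k • v := by
  rcases z2 k with rfl | rfl
  · simp [cf]
  · simp [cf]

theorem cf_add (k l : ZMod 2) : cf (k + l) = cf k + cf l := by revert k l; decide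

theorem cf_inj {k l : ZMod 2} (h : cf k = cf l) : k = l := by revert k l; decide

namespace Op

variable (O : Op ρ b q w a c D E X Y m)
include O

theorem perp_ac {k : F4} (h : Perp b a (k • c)) : k = 0 := by
  by_contra hk
  have h1 := O.A.perp_of_smul hk h 1
  rw [one_smul, O.one] at h1
  exact one_ne_zero h1

theorem perp_ca {k : F4} (h : Perp b c (k • a)) : k = 0 := by
  by_contra hk
  have h1 := O.A.perp_of_smul hk h 1
  rw [one_smul, O.A.comm, O.one] at h1
  exact one_ne_zero h1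

/-- projection along `F a` -/
theorem proj (v : V) : ∃ l : F4, Perp b c (v + l • a) := by
  let f : F4 → ZMod 2 × ZMod 2 := fun l => (b c (l • a), b (F4.w • c) (l • a))
  have hf : Function.Injective f := by
    intro l k h
    have h1 : b c (l • a) = b c (k • a) := congrArg Prod.fst h
    have h2 : b (F4.w • c) (l • a) = b (F4.w • c) (k • a) := congrArg Prod.snd h
    have h3 : Perp b c ((l - k) • a) := by
      refine perp_of_two O.A.toAmb0 ?_ ?_
      · rw [sub_smul, map_sub, h1, sub_self]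
      · rw [sub_smul, map_sub, h2, sub_self]
    exact sub_eq_zero.1 (O.perp_ca h3)
  have hs : Function.Surjective f :=
    ((Fintype.bijective_iff_injective_and_card f).2 ⟨hf, by decide⟩).2
  obtain ⟨l, hl⟩ := hs (b c v, b (F4.w • c) v)
  have h1 : b c (l • a) = b c v := congrArg Prod.fst hl
  have h2 : b (F4.w • c) (l • a) = b (F4.w • c) v := congrArg Prod.snd hl
  refine ⟨l, perp_of_two O.A.toAmb0 ?_ ?_⟩
  · rw [map_add, h1, CharTwo.add_self_eq_zero]
  · rw [map_add, h2, CharTwo.add_self_eq_zero]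

omit O in
/-- `δ_y c` -/
def dl (ρ : H →* (V ≃ₗ[ZMod 2] V)) (c : V) (y : H) : V := ρ y c + c

theorem dl_mem {y : H} (hy : y ∈ X) : m • dl ρ c y ∈ D := by
  have := O.P.per y hy (m • c) O.hm
  rwa [O.P.lin y hy, ← smul_add] at this

theorem ρ_c (y : H) : ρ y c = c + dl ρ c y := by
  rw [dl, add_comm, add_self_add]

/-- the splitting `m δ_y c = u + κ a` -/
theorem split {y : H} (hy : y ∈ X) : ∃ k : ZMod 2, Perp b c (m • dl ρ c y + cf k • a) := by
  obtain ⟨l, hl⟩ := O.proj (m • dl ρ c y)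
  have hd := O.dl_mem hy
  -- `b (m c) (m δ) = 0`
  have h1 : b (m • c) (m • dl ρ c y) = 0 := by
    have h2 := O.A.q_inv y (m • c)
    have h3 : ρ y (m • c) = m • c + m • dl ρ c y := by
      rw [O.P.lin y hy, O.ρ_c y, smul_add]
    rw [h3, O.A.q_add, O.P.qD _ hd, add_zero] at h2
    exact left_eq_add.1 h2.symm
  have h2 : b (m • c) (l • a) = 0 := by
    have := hl m
    rwa [map_add, h1, zero_add] at this
  have h3 : b (m • c) a = 0 := by rw [O.A.comm]; exact O.hm
  by_cases h4 : l = 0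
  · exact ⟨0, by rw [h4] at hl; exact hl⟩
  by_cases h5 : l = 1
  · exact ⟨1, by rw [h5] at hl; exact hl⟩
  exfalso
  have hex : ∀ l : F4, l ≠ 0 → l ≠ 1 → F4.w = l ∨ F4.w = l + 1 := by decide
  have h6 : b (m • c) (F4.w • a) = 0 := by
    rcases hex l h4 h5 with h | h
    · rw [h]; exact h2
    · rw [h, add_smul, one_smul, map_add, h2, h3, add_zero]
  have h7 : Perp b a (m • c) := by
    refine perp_of_two O.A.toAmb0 O.hm ?_
    rw [O.A.comm]; exact h6
  exact O.m0 (O.perp_ac h7)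

omit O in
/-- `κ(y)` -/
noncomputable def kap (b : LinearMap.BilinForm (ZMod 2) V) (ρ : H →* (V ≃ₗ[ZMod 2] V)) (a c : V) (m : F4) (y : H) :
    ZMod 2 := by
  classical
  exact if Perp b c (m • dl ρ c y) then 0 else 1

theorem kap_spec {y : H} (hy : y ∈ X) : Perp b c (m • dl ρ c y + cf (kap b ρ a c m y) • a) := by
  classical
  obtain ⟨k, hk⟩ := O.split hy
  have h : kap b ρ a c m y = k := by
    rw [kap]
    split_ifs with h1
    · rcases z2 k with rfl | rfl
      · rfl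
      · exfalso
        have h2 := perp_add h1 hk
        rw [self_add_add] at h2
        exact absurd (O.perp_ca h2) (by decide)
    · rcases z2 k with rfl | rfl
      · exfalso
        apply h1
        have : cf 0 • a = 0 := by rw [cf_smul, zero_smul]
        rwa [this, add_zero] at hk
      · rfl
  rw [h]
  exact hk

theorem kap_unique {y : H} (hy : y ∈ X) {k : ZMod 2} (h : Perp b c (m • dl ρ c y + cf k • a)) :
    kap b ρ a c m y = k := by
  have h1 := perp_add h (O.kap_spec hy)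
  have h2 : m • dl ρ c y + cf k • a + (m • dl ρ c y + cf (kap b ρ a c m y) • a) =
      (cf k + cf (kap b ρ a c m y)) • a := by
    rw [add_smul]
    have := self_add (m • dl ρ c y)
    calc _ = (m • dl ρ c y + m • dl ρ c y) + (cf k • a + cf (kap b ρ a c m y) • a) := by abel
      _ = _ := by rw [this, zero_add]
  rw [h2] at h1
  have h3 := O.perp_ca h1
  have h4 : ∀ k l : ZMod 2, cf k + cf l = 0 → l = k := by decide
  exact h4 _ _ h3

omit O in
/-- `β(y, z)` : `ρ y (m δ_z) = m δ_z + β a` -/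
noncomputable def bet (ρ : H →* (V ≃ₗ[ZMod 2] V)) (c : V) (m : F4) (y z : H) : ZMod 2 := by
  classical
  exact if ρ y (m • dl ρ c z) = m • dl ρ c z then 0 else 1

theorem bet_spec {y z : H} (hy : y ∈ X) (hz : z ∈ X) :
    ρ y (m • dl ρ c z) = m • dl ρ c z + bet ρ c m y z • a := by
  classical
  rw [bet]
  split_ifs with h
  · rw [h, zero_smul, add_zero]
  · rw [one_smul]
    exact (O.P.onD y hy _ (O.dl_mem hz)).resolve_left h

theorem a_cancel {v : V} {k l : ZMod 2} (h : v + k • a = v + l • a) : k = l := by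
  have h1 := add_left_cancel h
  rcases z2 k with rfl | rfl <;> rcases z2 l with rfl | rfl
  · rfl
  · rw [zero_smul, one_smul] at h1; exact absurd h1.symm O.P.ne
  · rw [zero_smul, one_smul] at h1; exact absurd h1 O.P.ne
  · rfl

/-- `m δ_{yz} = m δ_y + m δ_z + β a` -/
theorem dl_mul {y z : H} (hy : y ∈ X) (hz : z ∈ X) :
    m • dl ρ c (y * z) = m • dl ρ c y + m • dl ρ c z + bet ρ c m y z • a := by
  have h1 : m • ρ (y * z) c = m • c + m • dl ρ c y + (m • dl ρ c z + bet ρ c m y z • a) := by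
    rw [← O.bet_spec hy hz, ← smul_add, ← O.ρ_c y, O.P.lin y hy, ← smul_add, ρ_mul, O.ρ_c z, map_add]
  rw [dl, smul_add, h1]
  have := self_add (m • c)
  calc _ = (m • c + m • c) + (m • dl ρ c y + m • dl ρ c z + bet ρ c m y z • a) := by abel
    _ = _ := by rw [this, zero_add]

theorem bet_symm {y z : H} (hy : y ∈ X) (hz : z ∈ X) : bet ρ c m y z = bet ρ c m z y := by
  have h1 := O.dl_mul hy hz
  have h2 := O.dl_mul hz hy
  rw [O.P.comm hy hz, h2, add_comm (m • dl ρ c z)] at h1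
  exact (O.a_cancel h1).symm

theorem bet_mul {y z z' : H} (hy : y ∈ X) (hz : z ∈ X) (hz' : z' ∈ X) :
    bet ρ c m y (z * z') = bet ρ c m y z + bet ρ c m y z' := by
  have h1 := O.bet_spec hy (X.mul_mem hz hz')
  have hfa : ∀ k : ZMod 2, ρ y (k • a) = k • a := fun k => by rw [map_smul, O.P.fix y hy]
  rw [O.dl_mul hz hz', map_add, map_add, O.bet_spec hy hz, O.bet_spec hy hz', hfa] at h1
  have h2 : m • dl ρ c z + m • dl ρ c z' + bet ρ c m z z' • a + (bet ρ c m y z + bet ρ c m y z') • a =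
      m • dl ρ c z + m • dl ρ c z' + bet ρ c m z z' • a + bet ρ c m y (z * z') • a := by
    rw [← h1, add_smul]; abel
  exact (O.a_cancel h2).symm

theorem kap_mul {y z : H} (hy : y ∈ X) (hz : z ∈ X) :
    kap b ρ a c m (y * z) = kap b ρ a c m y + kap b ρ a c m z + bet ρ c m y z := by
  apply O.kap_unique (X.mul_mem hy hz)
  have h1 := perp_add (O.kap_spec hy) (O.kap_spec hz)
  rw [O.dl_mul hy hz, cf_add, cf_add, add_smul, add_smul]
  have e : bet ρ c m y z • a = cf (bet ρ c m y z) • a := (cf_smul _ _).symm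
  rw [e]
  have h2 := self_add (cf (bet ρ c m y z) • a)
  have h3 : m • dl ρ c y + m • dl ρ c z + cf (bet ρ c m y z) • a +
      (cf (kap b ρ a c m y) • a + cf (kap b ρ a c m z) • a + cf (bet ρ c m y z) • a) =
      m • dl ρ c y + cf (kap b ρ a c m y) • a + (m • dl ρ c z + cf (kap b ρ a c m z) • a) := by
    calc _ = m • dl ρ c y + cf (kap b ρ a c m y) • a + (m • dl ρ c z + cf (kap b ρ a c m z) • a) +
          (cf (bet ρ c m y z) • a + cf (bet ρ c m y z) • a) := by abel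
      _ = _ := by rw [h2, add_zero]
  rw [h3]
  exact h1

/-- `m δ_z ∈ F a` only for `z = 1` -/
theorem dl_line {z : H} (hz : z ∈ X) {l : F4} (h : m • dl ρ c z = l • a) : z = 1 := by
  apply O.P.semi z hz c O.one
  have h1 : dl ρ c z = (m⁻¹ * l) • a := by
    rw [mul_smul, ← h, inv_smul_smul₀ O.m0]
  change dl ρ c z ∈ D
  rw [h1]
  exact O.P.fmem _

theorem bet_rich {φ : V →ₗ[ZMod 2] ZMod 2} (hφ : ∀ l : F4, φ (l • a) = 0) :
    ∃ y ∈ X, (∀ d ∈ D, ρ y d = d + φ d • a) ∧ ∀ z ∈ X, bet ρ c m y z = φ (m • dl ρ c z) := by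
  obtain ⟨y, hy, h⟩ := O.P.rich φ hφ
  refine ⟨y, hy, h, fun z hz => ?_⟩
  have h1 := O.bet_spec hy hz
  rw [h _ (O.dl_mem hz)] at h1
  exact (O.a_cancel h1).symm

/-- **(4d)** `κ(y) = 0` implies `δ_y c ∈ D(c)` -/
theorem good_mem {y : H} (hy : y ∈ X) (hk : kap b ρ a c m y = 0) : dl ρ c y ∈ E := by
  have h0 := O.kap_spec hy
  rw [hk] at h0
  have h1 : Perp b c (m • dl ρ c y) := by
    have : cf 0 • a = 0 := by rw [cf_smul, zero_smul]
    rwa [this, add_zero] at h0
  have h2 : Perp b c (dl ρ c y) := O.A.perp_of_smul O.m0 h1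
  have h3 : Perp b c (ρ y c) := by
    rw [O.ρ_c y]
    exact perp_add O.Q.perp_self h2
  by_cases hne : ∀ l : F4, ρ y c ≠ l • c
  · have Q' := Map.map O.A O.Q y (Or.inl (O.P.lin y hy))
    obtain ⟨l, hl0, hl⟩ := type_one O.A O.Q Q' h3 hne
    have h4 : l • c ∈ E.map (ρ y : V →ₗ[ZMod 2] V) := by
      refine ⟨_, hl, ?_⟩
      change ρ y (l • ρ y c) = l • c
      rw [O.P.lin y hy, O.P.twice hy]
    have h5 := inv_type O.A O.Q Q' h3 hne hl0 hl hl0 h4
    have h6 : ∀ l : F4, l * l = 1 → l = 1 := by decide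
    rw [h6 l h5, one_smul] at hl
    exact E.add_mem hl O.Q.mem
  · push Not at hne
    obtain ⟨l, hl⟩ := hne
    have h4 : dl ρ c y = (l + 1) • c := by rw [dl, hl, add_smul, one_smul]
    have h5 := O.dl_mem hy
    rw [h4, smul_smul] at h5
    have h6 := O.perp_ac (O.P.perpD h5)
    have h7 : l + 1 = 0 := (mul_eq_zero.1 h6).resolve_left O.m0
    rw [h4, h7, zero_smul]
    exact E.zero_mem

/-- **(4e)** -/
theorem exists_gen {y : H} (hy : y ∈ X) (hk : kap b ρ a c m y = 1) :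
    ∃ z ∈ X, kap b ρ a c m z = 0 ∧ bet ρ c m y z = 1 := by
  have _ := O.A.fin
  by_contra hcon
  push Not at hcon
  have hcon' : ∀ z ∈ X, bet ρ c m y z = 1 → kap b ρ a c m z = 1 := by
    intro z hz h
    rcases z2 (kap b ρ a c m z) with h1 | h1
    · exact absurd h (hcon z hz h1)
    · exact h1
  set W0 : Submodule (ZMod 2) V := line a ⊔ Submodule.span (ZMod 2) {m • dl ρ c y} with hW0
  have hW0F : ∀ l : F4, l • a ∈ W0 := fun l => Submodule.mem_sup_left (mem_line.2 ⟨l, rfl⟩)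
  have hW0y : m • dl ρ c y ∈ W0 := Submodule.mem_sup_right (Submodule.subset_span rfl)
  have hsp : ∀ v : V, finrank (ZMod 2) (Submodule.span (ZMod 2) {v}) ≤ 1 := by
    intro v
    classical
    have := finrank_span_finset_le_card (R := ZMod 2) ({v} : Finset V)
    rw [Finset.card_singleton] at this
    rwa [Finset.coe_singleton] at this
  have hsup : ∀ U W : Submodule (ZMod 2) V,
      finrank (ZMod 2) (U ⊔ W : Submodule (ZMod 2) V) ≤ finrank (ZMod 2) U + finrank (ZMod 2) W := by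
    intro U W
    have := Submodule.finrank_sup_add_finrank_inf_eq U W
    omega
  have hW0r : finrank (ZMod 2) W0 ≤ 3 := by
    have h1 := hsup (line a) (Submodule.span (ZMod 2) {m • dl ρ c y})
    have h2 := finrank_line_le a
    have h3 := hsp (m • dl ρ c y)
    rw [hW0]
    omega
  have hex : ∀ U : Submodule (ZMod 2) V, finrank (ZMod 2) U ≤ 6 → ∃ d ∈ D, d ∉ U := by
    intro U hU
    by_contra hc
    push Not at hc
    have h1 := Submodule.finrank_mono (show D ≤ U from hc)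
    have h2 := O.P.dim
    have h3 := O.A.seven
    omega
  -- `m δ_y ∉ F a`
  have hy1 : ∀ l : F4, m • dl ρ c y ≠ l • a := by
    intro l h
    have := O.dl_line hy h
    rw [this] at hk
    have h2 : kap b ρ a c m (1 : H) = 0 := by
      apply O.kap_unique X.one_mem
      have h3 : dl ρ c (1 : H) = 0 := by rw [dl, ρ_one, self_add]
      rw [h3, smul_zero, zero_add, cf_smul, zero_smul]
      exact (perp b c).zero_mem
    rw [h2] at hk
    exact zero_ne_one hk
  -- `z'` with `β(y, z') = 1`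
  obtain ⟨z', hz', hyz'⟩ : ∃ z' ∈ X, bet ρ c m y z' = 1 := by
    have h1 : m • dl ρ c y ∉ line a := fun h => by
      obtain ⟨l, hl⟩ := mem_line.1 h
      exact hy1 l hl
    obtain ⟨φ, h2, h3⟩ := Submodule.exists_le_ker_of_notMem h1
    obtain ⟨z', hz', -, h4⟩ := O.bet_rich (φ := φ) (fun l => h3 (mem_line.2 ⟨l, rfl⟩))
    refine ⟨z', hz', ?_⟩
    rw [O.bet_symm hy hz', h4 y hy]
    exact (z2 _).resolve_left h2
  -- on `y^⊥`: `κ(t) = β(z', t)`
  have h1 : ∀ t ∈ X, bet ρ c m y t = 0 → kap b ρ a c m t = bet ρ c m z' t := by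
    intro t ht h0
    have h2 := hcon' (z' * t) (X.mul_mem hz' ht) (by rw [O.bet_mul hy hz' ht, hyz', h0, add_zero])
    rw [O.kap_mul hz' ht, hcon' z' hz' hyz', add_assoc] at h2
    have h3 : kap b ρ a c m t + bet ρ c m z' t = 0 := left_eq_add.1 h2.symm
    exact CharTwo.add_eq_zero.1 h3
  have h2 : ∀ t ∈ X, ∀ t' ∈ X, bet ρ c m y t = 0 → bet ρ c m y t' = 0 → bet ρ c m t t' = 0 := by
    intro t ht t' ht' h3 h4
    have h5 := h1 (t * t') (X.mul_mem ht ht') (by rw [O.bet_mul hy ht ht', h3, h4, add_zero])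
    rw [O.kap_mul ht ht', O.bet_mul hz' ht ht', h1 t ht h3, h1 t' ht' h4] at h5
    exact left_eq_add.1 h5.symm
  -- `t ∈ y^⊥`, `t ≠ 1, y`
  obtain ⟨d0, hd0, hd0'⟩ := hex W0 (by omega)
  obtain ⟨d1, hd1, hd1'⟩ := hex (W0 ⊔ Submodule.span (ZMod 2) {d0}) (by
    have := hsup W0 (Submodule.span (ZMod 2) {d0})
    have := hsp d0
    omega)
  have hd01 : d0 ∉ W0 ⊔ Submodule.span (ZMod 2) {d1} := by
    intro h
    obtain ⟨x, hx, z, hz, hxz⟩ := Submodule.mem_sup.1 h
    obtain ⟨k, rfl⟩ := Submodule.mem_span_singleton.1 hz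
    rcases z2 k with rfl | rfl
    · rw [zero_smul, add_zero] at hxz
      exact hd0' (hxz ▸ hx)
    · rw [one_smul] at hxz
      apply hd1'
      have : d1 = x + d0 := by rw [← hxz, self_add_add]
      rw [this]
      exact Submodule.add_mem_sup hx (Submodule.subset_span rfl)
  obtain ⟨t, ht, ht0, ht1, hty⟩ : ∃ t ∈ X, bet ρ c m y t = 0 ∧ t ≠ 1 ∧ t ≠ y := by
    obtain ⟨φ1, h3, h4⟩ := Submodule.exists_le_ker_of_notMem hd1'
    obtain ⟨φ2, h5, h6⟩ := Submodule.exists_le_ker_of_notMem hd01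
    obtain ⟨t1, ht1, ht1D, ht1b⟩ := O.bet_rich (φ := φ1) (fun l => h4 (Submodule.mem_sup_left (hW0F l)))
    obtain ⟨t2, ht2, ht2D, ht2b⟩ := O.bet_rich (φ := φ2) (fun l => h6 (Submodule.mem_sup_left (hW0F l)))
    have h1y : bet ρ c m y t1 = 0 := by
      rw [O.bet_symm hy ht1, ht1b y hy]; exact h4 (Submodule.mem_sup_left hW0y)
    have h2y : bet ρ c m y t2 = 0 := by
      rw [O.bet_symm hy ht2, ht2b y hy]; exact h6 (Submodule.mem_sup_left hW0y)
    have h7 : φ1 d1 = 1 := (z2 _).resolve_left h3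
    have h8 : φ2 d0 = 1 := (z2 _).resolve_left h5
    have h9 : φ1 d0 = 0 := h4 (Submodule.mem_sup_right (Submodule.subset_span rfl))
    by_cases h10 : t1 = y
    · refine ⟨t2, ht2, h2y, ?_, ?_⟩
      · rintro rfl
        have := ht2D d0 hd0
        rw [ρ_one, h8, one_smul] at this
        exact O.P.ne (left_eq_add.1 this)
      · intro h11
        have h12 := ht2D d0 hd0
        have h13 := ht1D d0 hd0
        rw [h11, h8, one_smul] at h12
        rw [h10, h9, zero_smul, add_zero, h12] at h13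
        exact O.P.ne (left_eq_add.1 h13.symm)
    · refine ⟨t1, ht1, h1y, ?_, h10⟩
      rintro rfl
      have := ht1D d1 hd1
      rw [ρ_one, h7, one_smul] at this
      exact O.P.ne (left_eq_add.1 this)
  -- `m δ_t ∉ W0`
  have htW : m • dl ρ c t ∉ W0 := by
    intro h
    obtain ⟨x, hx, z, hz, hxz⟩ := Submodule.mem_sup.1 h
    obtain ⟨k, rfl⟩ := Submodule.mem_span_singleton.1 hz
    obtain ⟨l, rfl⟩ := mem_line.1 hx
    rcases z2 k with rfl | rfl
    · rw [zero_smul, add_zero] at hxz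
      exact ht1 (O.dl_line ht hxz.symm)
    · rw [one_smul] at hxz
      have h3 := O.dl_mul ht hy
      rw [← hxz, add_self_add, ← cf_smul, ← add_smul] at h3
      have h4 := O.dl_line (X.mul_mem ht hy) h3
      apply hty
      have h5 := O.P.sq y hy
      calc t = t * (y * y) := by rw [h5, mul_one]
        _ = t * y * y := by rw [mul_assoc]
        _ = y := by rw [h4, one_mul]
  obtain ⟨φ, h3, h4⟩ := Submodule.exists_le_ker_of_notMem htW
  obtain ⟨t', ht', -, ht'b⟩ := O.bet_rich (φ := φ) (fun l => h4 (hW0F l))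
  have h5 : bet ρ c m y t' = 0 := by
    rw [O.bet_symm hy ht', ht'b y hy]; exact h4 hW0y
  have h6 := h2 t ht t' ht' ht0 h5
  rw [O.bet_symm ht ht', ht'b t ht] at h6
  exact h3 h6

/-- **(4e)** `δ_y c ∈ D(c) + {0, m⁻¹ a}` -/
theorem mem_E {y : H} (hy : y ∈ X) : ∃ k : ZMod 2, dl ρ c y + (cf k * m⁻¹) • a ∈ E := by
  rcases z2 (kap b ρ a c m y) with h | h
  · refine ⟨0, ?_⟩
    have : cf 0 = 0 := rfl
    rw [this, zero_mul, zero_smul, add_zero]
    exact O.good_mem hy h
  · obtain ⟨z, hz, h1, h2⟩ := O.exists_gen hy h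
    refine ⟨1, ?_⟩
    have h3 : kap b ρ a c m (y * z) = 0 := by
      rw [O.kap_mul hy hz, h, h1, h2]; rfl
    have h4 := O.good_mem (X.mul_mem hy hz) h3
    have h5 := O.good_mem hz h1
    have h6 := O.dl_mul hy hz
    rw [h2, one_smul] at h6
    have h7 : dl ρ c (y * z) = dl ρ c y + dl ρ c z + m⁻¹ • a := by
      have := congrArg (fun x => m⁻¹ • x) h6
      simp only [smul_add, inv_smul_smul₀ O.m0] at this
      exact this
    have h8 := E.add_mem h4 h5
    have h9 : dl ρ c (y * z) + dl ρ c z = dl ρ c y + (cf 1 * m⁻¹) • a := by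
      have e : cf 1 = 1 := rfl
      rw [h7, e, one_mul]
      have := self_add (dl ρ c z)
      calc _ = dl ρ c y + m⁻¹ • a + (dl ρ c z + dl ρ c z) := by abel
        _ = _ := by rw [this, add_zero]
    rwa [h9] at h8

/-- **(4f)** surjectivity -/
theorem surj {u : V} (hu : u ∈ D) (hp : Perp b c u) :
    ∃ y ∈ X, m • dl ρ c y = u + kap b ρ a c m y • a := by
  have _ := O.A.fin
  let I : Submodule (ZMod 2) V :=
    { carrier := {d | ∃ y ∈ X, ∃ l : F4, d = m • dl ρ c y + l • a}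
      zero_mem' := ⟨1, X.one_mem, 0, by rw [dl, ρ_one, self_add, smul_zero, zero_smul, add_zero]⟩
      add_mem' := by
        rintro _ _ ⟨y, hy, l, rfl⟩ ⟨z, hz, k, rfl⟩
        refine ⟨y * z, X.mul_mem hy hz, cf (bet ρ c m y z) + l + k, ?_⟩
        rw [O.dl_mul hy hz, add_smul, add_smul, cf_smul]
        have := self_add (bet ρ c m y z • a)
        calc _ = m • dl ρ c y + m • dl ρ c z + (l • a + k • a) := by abel
          _ = m • dl ρ c y + m • dl ρ c z + (l • a + k • a) + (bet ρ c m y z • a + bet ρ c m y z • a) := by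
            rw [this, add_zero]
          _ = _ := by abel
      smul_mem' := by
        rintro k _ ⟨y, hy, l, rfl⟩
        rcases z2 k with rfl | rfl
        · rw [zero_smul]
          exact ⟨1, X.one_mem, 0, by rw [dl, ρ_one, self_add, smul_zero, zero_smul, add_zero]⟩
        · rw [one_smul]; exact ⟨y, hy, l, rfl⟩ }
  have hI : u ∈ I := by
    by_contra hc
    obtain ⟨φ, h1, h2⟩ := Submodule.exists_le_ker_of_notMem hc
    have hIa : ∀ l : F4, l • a ∈ I := fun l =>
      ⟨1, X.one_mem, l, by rw [dl, ρ_one, self_add, smul_zero, zero_add]⟩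
    obtain ⟨z, hz, h3, h4⟩ := O.bet_rich (φ := φ) (fun l => h2 (hIa l))
    have h5 : ∀ y ∈ X, ρ y (m • dl ρ c z) = m • dl ρ c z := by
      intro y hy
      rw [O.bet_spec hy hz, O.bet_symm hy hz, h4 y hy]
      have : φ (m • dl ρ c y) = 0 := h2 ⟨y, hy, 0, by rw [zero_smul, add_zero]⟩
      rw [this, zero_smul, add_zero]
    obtain ⟨l, hl⟩ := O.P.cen _ h5
    have h6 := O.dl_line hz hl
    rw [h6] at h3
    have h7 := h3 u hu
    rw [ρ_one, (z2 _).resolve_left h1, one_smul] at h7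
    exact O.P.ne (left_eq_add.1 h7)
  obtain ⟨y, hy, l, h⟩ := hI
  refine ⟨y, hy, ?_⟩
  have h1 : m • dl ρ c y = u + l • a := by rw [h, add_self_add]
  have h2 := O.kap_spec hy
  rw [h1, add_assoc, ← add_smul] at h2
  have h3 := perp_add hp h2
  rw [self_add_add] at h3
  have h4 := O.perp_ca h3
  have h5 : l = cf (kap b ρ a c m y) := by
    have h6 : ∀ l k : F4, l + k = 0 → l = k := by decide
    exact h6 _ _ h4
  rw [h1, h5, cf_smul]

/-- **(4g)** `m⁻¹ u ∈ D(c)` for `u ∈ U_a = D(a) ∩ (F c)^⊥` -/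
theorem inv_mem {u : V} (hu : u ∈ D) (hp : Perp b c u) : m⁻¹ • u ∈ E := by
  obtain ⟨y, hy, h⟩ := O.surj hu hp
  obtain ⟨k, hk⟩ := O.mem_E hy
  have h1 : dl ρ c y = m⁻¹ • u + (cf (kap b ρ a c m y) * m⁻¹) • a := by
    have := congrArg (fun x => m⁻¹ • x) h
    simp only [smul_add, inv_smul_smul₀ O.m0] at this
    rw [this, ← cf_smul, smul_smul, mul_comm]
  rw [h1, add_assoc, ← add_smul] at hk
  have h2 := O.Q.perpD hk
  have h3 := perp_add (O.A.perp_smul hp m⁻¹) h2
  rw [self_add_add] at h3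
  have h4 := O.perp_ca h3
  rw [h4, zero_smul, add_zero] at hk
  exact hk

/-- the number `m'` of the opposite pair `(c, a)` -/
theorem symm_B (hB : ∀ (l : F4) (u v : V), b (l • u) v = b u (l • v)) : Op ρ b q w c a E D Y X m where
  A := O.A
  P := O.Q
  Q := O.P
  one := by rw [O.A.comm]; exact O.one
  m0 := O.m0
  m1 := O.m1
  hm := by rw [← hB, O.A.comm]; exact O.hm

theorem symm_U (hU : ∀ (l : F4), l ≠ 0 → ∀ (u v : V), b (l • u) (l • v) = b u v) :
    Op ρ b q w c a E D Y X m⁻¹ where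
  A := O.A
  P := O.Q
  Q := O.P
  one := by rw [O.A.comm]; exact O.one
  m0 := inv_ne_zero O.m0
  m1 := by
    intro h
    apply O.m1
    rw [← inv_inv m, h, inv_one]
  hm := by
    rw [← hU m O.m0, smul_smul, mul_inv_cancel₀ O.m0, one_smul, O.A.comm]
    exact O.hm

/-- `D(a) ∩ (F c)^⊥ ≠ 0` -/
theorem exists_U : ∃ u ∈ D, Perp b c u ∧ u ≠ 0 := by
  have _ := O.A.fin
  by_contra hc
  push Not at hc
  have h1 : D ⊓ perp b c = ⊥ := by
    rw [eq_bot_iff]
    rintro u ⟨hu, hp⟩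
    exact hc u hu hp
  have h2 := finrank_inf O.A O.P c
  rw [h1, finrank_bot] at h2
  have := O.A.seven
  omega

/-- the bilinear case is impossible -/
theorem not_B (hB : ∀ (l : F4) (u v : V), b (l • u) v = b u (l • v)) : False := by
  obtain ⟨u, hu, hp, hu0⟩ := O.exists_U
  have h1 := O.inv_mem hu hp
  have hpa : Perp b a (m⁻¹ • u) := O.A.perp_smul (O.P.perpD hu) _
  have h2 := (O.symm_B hB).inv_mem h1 hpa
  rw [smul_smul] at h2
  have hm2 : ∀ m : F4, m ≠ 0 → m ≠ 1 → m⁻¹ * m⁻¹ ≠ 0 ∧ m⁻¹ * m⁻¹ ≠ 1 := by decide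
  obtain ⟨h3, h4⟩ := hm2 m O.m0 O.m1
  obtain ⟨k, hk⟩ := O.P.inf h3 h4 hu h2
  rw [hk] at hp
  have := O.perp_ca hp
  rw [this, zero_smul] at hk
  exact hu0 hk

/-- `b` is hermitian -/
theorem isU : ∀ (l : F4), l ≠ 0 → ∀ (u v : V), b (l • u) (l • v) = b u v :=
  O.A.adj.resolve_left fun h => O.not_B h

theorem symm : Op ρ b q w c a E D Y X m⁻¹ := O.symm_U O.isU

end Op

end Cfsg.Agent.Omega.EH3.ETwo.Opp

end

-- merged: Cfsg.Agent.Omega.EH3.ETwo.Inst
section

/-!
# THEOREM E2, step (7): the input side (helper924)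

From helper888's `Cfg ρ b q a D X w`, `7 ≤ w`, and `om ∈ End(V)`, `om² + om + 1 = 0`, normalised by `H`, self-adjoint or
isometric for `b`, not centralised by `X`: `Amb ρ b q w`, `Pt ρ b q w a D X0` (`X0 = C_X(om)`), the points `a^h`, and an
opposite pair `Op`.
-/

set_option autoImplicit false
set_option linter.unusedSectionVars false
set_option linter.style.haveILetI false

namespace Cfsg.Agent.Omega.EH3.ETwo.Inst

open Module Cfsg.Agent.Omega.EH3.ETwo.Base Cfsg.Agent.Omega.EH3.ETwo.Map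
  Cfsg.Agent.Omega.EH3.ETwo.Opp

variable {H V : Type*} [Group H] [AddCommGroup V] [Module (ZMod 2) V]
  {ρ : H →* (V ≃ₗ[ZMod 2] V)} {b : LinearMap.BilinForm (ZMod 2) V} {q : V → ZMod 2}
  {a : V} {D : Submodule (ZMod 2) V} {X : Subgroup H} {w : ℕ} {om : V →ₗ[ZMod 2] V}

/-- the hypotheses on `om` -/
structure Om (ρ : H →* (V ≃ₗ[ZMod 2] V)) (b : LinearMap.BilinForm (ZMod 2) V) (X : Subgroup H)
    (om : V →ₗ[ZMod 2] V) : Prop where
  hom : ∀ v, om (om v) = om v + v
  norm : ∀ h, (∀ v, ρ h (om v) = om (ρ h v)) ∨ (∀ v, ρ h (om v) = om (om (ρ h v)))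
  form : (∀ u v, b (om u) v = b u (om v)) ∨ (∀ u v, b (om u) (om v) = b u v)
  ne : ∃ x ∈ X, ¬ ∀ v, ρ x (om v) = om (ρ x v)

theorem rm (g h : H) (v : V) : ρ (g * h) v = ρ g (ρ h v) := by rw [map_mul]; rfl

theorem r1 (v : V) : ρ 1 v = v := by rw [map_one]; rfl

theorem ri (g : H) (v : V) : ρ g (ρ g⁻¹ v) = v := by
  rw [← rm, mul_inv_cancel, r1]

theorem om3 (hom : ∀ v, om (om v) = om v + v) (v : V) : om (om (om v)) = v := by
  rw [hom, hom, add_right_comm, self_add, zero_add]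

/-- `X_0 = C_X(om)` -/
def Xo (ρ : H →* (V ≃ₗ[ZMod 2] V)) (X : Subgroup H) (om : V →ₗ[ZMod 2] V) : Subgroup H where
  carrier := {x | x ∈ X ∧ ∀ v, ρ x (om v) = om (ρ x v)}
  one_mem' := ⟨X.one_mem, fun v => by rw [r1, r1]⟩
  mul_mem' := by
    rintro g h ⟨hg, hg'⟩ ⟨hh, hh'⟩
    exact ⟨X.mul_mem hg hh, fun v => by rw [rm, hh', hg', rm]⟩
  inv_mem' := by
    rintro g ⟨hg, hg'⟩
    refine ⟨X.inv_mem hg, fun v => ?_⟩
    apply (ρ g).injective
    rw [hg', ri, ri]

theorem mem_Xo {x : H} : x ∈ Xo ρ X om ↔ x ∈ X ∧ ∀ v, ρ x (om v) = om (ρ x v) := Iff.rfl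

section act

variable (hom : ∀ v, om (om v) = om v + v)

theorem o_smul (v : V) : letI := modOf om hom; (F4.o : F4) • v = 0 := rfl
theorem i_smul (v : V) : letI := modOf om hom; (F4.i : F4) • v = v := rfl
theorem w_smul (v : V) : letI := modOf om hom; (F4.w : F4) • v = om v := rfl
theorem z_smul (v : V) : letI := modOf om hom; (F4.z : F4) • v = om v + v := rfl

theorem lin_of {h : H} (h1 : ∀ v, ρ h (om v) = om (ρ h v)) :
    letI := modOf om hom; Lin ρ h := by
  letI := modOf om hom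
  intro l v
  cases l
  · rw [o_smul, o_smul, map_zero]
  · rw [i_smul, i_smul]
  · rw [w_smul, w_smul, h1]
  · rw [z_smul, z_smul, map_add, h1]

theorem of_lin {h : H} (h1 : letI := modOf om hom; Lin ρ h) : ∀ v, ρ h (om v) = om (ρ h v) := by
  letI := modOf om hom
  intro v
  exact h1 F4.w v

theorem sem_of {h : H} (h1 : ∀ v, ρ h (om v) = om (om (ρ h v))) :
    letI := modOf om hom; Sem ρ h := by
  letI := modOf om hom
  intro l v
  cases l
  · rw [show (F4.o : F4) ^ 2 = F4.o by decide, o_smul, o_smul, map_zero]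
  · rw [show (F4.i : F4) ^ 2 = F4.i by decide, i_smul, i_smul]
  · rw [show (F4.w : F4) ^ 2 = F4.z by decide, w_smul, z_smul, h1, hom]
  · rw [show (F4.z : F4) ^ 2 = F4.w by decide, z_smul, w_smul, map_add, h1, hom, add_self_add]

end act

namespace Om

variable (O : Om ρ b X om)
include O

theorem lin_or (h : H) : letI := modOf om O.hom; Lin ρ h ∨ Sem ρ h := by
  rcases O.norm h with h1 | h1
  · exact Or.inl (lin_of O.hom h1)
  · exact Or.inr (sem_of O.hom h1)

/-- the ambient data -/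
theorem amb0 (C : Cfg ρ b q a D X w) : letI := modOf om O.hom; Amb0 ρ b q w := by
  letI := modOf om O.hom
  have := C.finite_V
  refine ⟨C.finite_V, ?_, C.b_self, C.nondeg, C.q_add, C.q_inv, ?_⟩
  · have : Module.Finite (ZMod 2) V := Module.Finite.of_finite
    have h1 := Module.natCard_eq_pow_finrank (K := ZMod 2) (V := V)
    rw [C.card_V, Nat.card_zmod] at h1
    exact (Nat.pow_right_injective (le_refl 2) h1).symm
  · rcases O.form with h1 | h1
    · left
      intro l u v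
      cases l
      · rw [o_smul, o_smul, map_zero, map_zero, LinearMap.zero_apply]
      · rw [i_smul, i_smul]
      · rw [w_smul, w_smul, h1]
      · rw [z_smul, z_smul, map_add, map_add, LinearMap.add_apply, h1]
    · right
      intro l hl u v
      cases l
      · exact absurd rfl hl
      · rw [i_smul, i_smul]
      · rw [w_smul, w_smul, h1]
      · rw [z_smul, z_smul, ← O.hom, ← O.hom, h1, h1]

/-- the ambient data -/
theorem amb (C : Cfg ρ b q a D X w) (h7 : 7 ≤ w) : letI := modOf om O.hom; Amb ρ b q w := by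
  letI := modOf om O.hom
  exact { O.amb0 C with seven := h7 }

/-- `[om a, x] ∈ {0, a}` -/
theorem om_a (C : Cfg ρ b q a D X w) {x : H} (hx : x ∈ X) :
    (x ∈ Xo ρ X om ∧ ρ x (om a) = om a) ∨ (x ∉ Xo ρ X om ∧ ρ x (om a) = om a + a) := by
  by_cases h1 : x ∈ Xo ρ X om
  · left
    refine ⟨h1, ?_⟩
    rw [h1.2, C.X_a hx]
  · right
    refine ⟨h1, ?_⟩
    rcases O.norm x with h2 | h2
    · exact absurd ⟨hx, h2⟩ h1
    · rw [h2, C.X_a hx, O.hom]

theorem om_a_mem (C : Cfg ρ b q a D X w) : om a ∈ D := by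
  apply C.mem_D_of_fix_mod
  intro x hx
  rcases O.om_a C hx with ⟨-, h1⟩ | ⟨-, h1⟩
  · exact ⟨0, by rw [h1, zero_smul, self_add]⟩
  · exact ⟨1, by rw [h1, one_smul, add_right_comm, self_add, zero_add]⟩

/-- the product of two elements outside `X_0` -/
theorem mul_mem {x y : H} (hx : x ∈ X) (hx' : x ∉ Xo ρ X om) (hy : y ∈ X)
    (hy' : y ∉ Xo ρ X om) : x * y ∈ Xo ρ X om := by
  refine ⟨X.mul_mem hx hy, fun v => ?_⟩
  rcases O.norm x with h1 | h1
  · exact absurd ⟨hx, h1⟩ hx'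
  rcases O.norm y with h2 | h2
  · exact absurd ⟨hy, h2⟩ hy'
  rw [rm, h2, h1, h1, om3 O.hom, rm]

/-- `C_V(X_0) = {0, a, om a, om a + a}` -/
theorem cen (C : Cfg ρ b q a D X w) {v : V} (hv : ∀ y ∈ Xo ρ X om, ρ y v = v) :
    v = 0 ∨ v = a ∨ v = om a ∨ v = om a + a := by
  obtain ⟨x, hx, hx1⟩ := O.ne
  have hx0 : x ∉ Xo ρ X om := fun h => hx1 h.2
  have hx2 : ∀ u, ρ x (om u) = om (om (ρ x u)) := by
    rcases O.norm x with h1 | h1
    · exact absurd h1 hx1
    · exact h1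
  -- vectors `u + u^x` for `u` fixed by `X_0`
  have key : ∀ u, (∀ y ∈ Xo ρ X om, ρ y u = u) → ρ x u + u = 0 ∨ ρ x u + u = a := by
    intro u hu
    apply C.fix_X
    intro z hz
    by_cases h1 : z ∈ Xo ρ X om
    · rw [map_add, hu z h1, ← rm, C.X_comm hz hx, rm, hu z h1]
    · have h2 := hu _ (O.mul_mem hz h1 hx hx0)
      rw [rm] at h2
      have h3 : ρ z u = ρ x u := by
        have h4 : ρ z (ρ z (ρ x u)) = ρ x u := by
          rw [← rm z z, C.X_sq z hz, r1]
        rw [← h4, h2]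
      rw [map_add, h2, h3, add_comm]
  have h1 := key v hv
  have h2 := key (om v) (fun y hy => by rw [hy.2, hv y hy])
  rw [hx2, O.hom] at h2
  -- `om (ρ x v) + ρ x v + om v`
  have e : om (ρ x v) + ρ x v + om v = om (ρ x v + v) + (ρ x v + v) + v := by
    rw [map_add]
    have : om (ρ x v) + om v + (ρ x v + v) + v = om (ρ x v) + ρ x v + om v + (v + v) := by abel
    rw [this, self_add, add_zero]
  rw [e] at h2
  rcases h1 with h1 | h1 <;> rcases h2 with h2 | h2 <;> rw [h1] at h2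
  · left
    rw [map_zero, zero_add, zero_add] at h2
    exact h2
  · right; left
    rw [map_zero, zero_add, zero_add] at h2
    exact h2
  · right; right; right
    exact (eq_of_add h2).symm
  · right; right; left
    have h3 : om a + a + v + (om a + a) = a + (om a + a) := by rw [h2]
    have h4 : om a + a + v + (om a + a) = v := by
      have : om a + a + v + (om a + a) = (om a + om a) + (a + a) + v := by abel
      rw [this, self_add, self_add, zero_add, zero_add]
    rw [h4] at h3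
    rw [h3, add_left_comm, self_add, add_zero]

/-- the data at `a` -/
theorem pt (C : Cfg ρ b q a D X w) : letI := modOf om O.hom; Pt ρ b q w a D (Xo ρ X om) := by
  letI := modOf om O.hom
  have := C.finite_V
  have hD := O.om_a_mem C
  refine ⟨C.a_ne, ?_, C.q_D, fun d hd d' hd' => C.b_D hd hd', ?_, fun y hy => C.X_sq y hy.1,
    fun y hy => C.X_a hy.1, fun y hy d hd => C.X_D y hy.1 d hd, ?_,
    fun y hy v hv => C.X_perp y hy.1 v hv, fun y hy v hv h => C.X_semi y hy.1 v hv h,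
    fun h _ ha d hd => C.D_inv h ha d hd, ?_, ?_, ?_⟩
  · intro l
    cases l
    · rw [o_smul]; exact D.zero_mem
    · rw [i_smul]; exact C.a_mem
    · rw [w_smul]; exact hD
    · rw [z_smul]; exact D.add_mem hD C.a_mem
  · intro y hy
    exact lin_of O.hom hy.2
  · intro φ hφ
    have h1 : φ a = 0 := hφ F4.i
    have h2 : φ (om a) = 0 := hφ F4.w
    obtain ⟨x, hx, hxd⟩ := C.X_all φ h1
    refine ⟨x, ?_, hxd⟩
    have h3 := hxd _ hD
    rw [h2, zero_smul, add_zero] at h3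
    rcases O.om_a C hx with ⟨h4, -⟩ | ⟨-, h4⟩
    · exact h4
    · exfalso
      rw [h3] at h4
      exact C.a_ne (left_eq_add.1 h4)
  · intro h hh ha y hy
    refine ⟨C.X_norm h ha y hy.1, ?_⟩
    apply of_lin O.hom
    have h1 : Lin ρ y := lin_of O.hom hy.2
    exact (hh.mul h1).mul hh.inv
  · intro v hv
    rcases O.cen C hv with h | h | h | h
    · exact ⟨F4.o, by rw [o_smul]; exact h⟩
    · exact ⟨F4.i, by rw [i_smul]; exact h⟩
    · exact ⟨F4.w, by rw [w_smul]; exact h⟩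
    · exact ⟨F4.z, by rw [z_smul]; exact h⟩
  · have : Module.Finite (ZMod 2) D := Module.Finite.of_finite
    have h1 := Module.natCard_eq_pow_finrank (K := ZMod 2) (V := D)
    rw [C.card_D, Nat.card_zmod] at h1
    exact (Nat.pow_right_injective (le_refl 2) h1).symm

/-- the data at `a^h` -/
theorem pt_map0 (C : Cfg ρ b q a D X w) (h : H) : letI := modOf om O.hom;
    Pt ρ b q w (ρ h a) (D.map (ρ h : V →ₗ[ZMod 2] V))
      ((Xo ρ X om).map (MulAut.conj h).toMonoidHom) := by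
  letI := modOf om O.hom
  exact map (O.amb0 C) (O.pt C) h (O.lin_or h)

/-- the data at `a^h` -/
theorem pt_map (C : Cfg ρ b q a D X w) (h7 : 7 ≤ w) (h : H) : letI := modOf om O.hom;
    Pt ρ b q w (ρ h a) (D.map (ρ h : V →ₗ[ZMod 2] V))
      ((Xo ρ X om).map (MulAut.conj h).toMonoidHom) := by
  letI := modOf om O.hom
  exact map (O.amb C h7) (O.pt C) h (O.lin_or h)

/-- an opposite pair -/
theorem op (C : Cfg ρ b q a D X w) (h7 : 7 ≤ w) {h : H} (hh : b a (ρ h a) = 1) :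
    letI := modOf om O.hom; ∃ m : F4,
      Op ρ b q w a (ρ h a) D (D.map (ρ h : V →ₗ[ZMod 2] V)) (Xo ρ X om)
        ((Xo ρ X om).map (MulAut.conj h).toMonoidHom) m := by
  letI := modOf om O.hom
  obtain ⟨m, m0, m1, hm⟩ := exists_m hh
  exact ⟨m, O.amb C h7, O.pt C, O.pt_map C h7 h, hh, m0, m1, hm⟩

/-- there is an opposite pair -/
theorem exists_op (C : Cfg ρ b q a D X w) (h7 : 7 ≤ w) :
    letI := modOf om O.hom; ∃ (h : H) (m : F4),
      Op ρ b q w a (ρ h a) D (D.map (ρ h : V →ₗ[ZMod 2] V)) (Xo ρ X om)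
        ((Xo ρ X om).map (MulAut.conj h).toMonoidHom) m := by
  letI := modOf om O.hom
  obtain ⟨h, hh⟩ := C.exists_opp
  obtain ⟨m, hm⟩ := O.op C h7 hh
  exact ⟨h, m, hm⟩

/-- the form is of unitary type -/
theorem isU (C : Cfg ρ b q a D X w) (h7 : 7 ≤ w) : ∀ u v, b (om u) (om v) = b u v := by
  letI := modOf om O.hom
  obtain ⟨h, m, hm⟩ := O.exists_op C h7
  intro u v
  exact hm.isU F4.w (by decide) u v

end Om

end Cfsg.Agent.Omega.EH3.ETwo.Inst

end

-- merged: Cfsg.Agent.Omega.EH3.ETwo.V0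
section

/-!
# THEOREM E2, step (4), end: the `F₂`-form `V₀` of an opposite pair
-/

set_option autoImplicit false
set_option linter.unusedSectionVars false

namespace Cfsg.Agent.Omega.EH3.ETwo.V0

open Module Cfsg.Agent.Omega.EH3.ETwo.Base Cfsg.Agent.Omega.EH3.ETwo.Type
  Cfsg.Agent.Omega.EH3.ETwo.Map Cfsg.Agent.Omega.EH3.ETwo.Opp

variable {H V : Type*} [Group H] [AddCommGroup V] [Module (ZMod 2) V] [Module F4 V]
  {ρ : H →* (V ≃ₗ[ZMod 2] V)} {b : LinearMap.BilinForm (ZMod 2) V} {q : V → ZMod 2} {w : ℕ}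
  {a c : V} {D E : Submodule (ZMod 2) V} {X Y : Subgroup H} {m : F4}

/-- the coefficient of `1` -/
def re : F4 → ZMod 2
  | .o => 0
  | .i => 1
  | .w => 0
  | .z => 1

/-- the coefficient of `w` -/
def im : F4 → ZMod 2
  | .o => 0
  | .i => 0
  | .w => 1
  | .z => 1

theorem reim (k : F4) : k = cf (re k) + F4.w * cf (im k) := by revert k; decide

theorem smul_reim (k : F4) (v : V) : k • v = re k • v + F4.w • (im k • v) := by
  conv_lhs => rw [reim k]
  rw [add_smul, mul_smul, cf_smul, cf_smul]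

/-- the `F₂`-form -/
def V0 (b : LinearMap.BilinForm (ZMod 2) V) (a c : V) (D : Submodule (ZMod 2) V) (m : F4) :
    Submodule (ZMod 2) V :=
  (D ⊓ perp b c) ⊔ Submodule.span (ZMod 2) {a, m • c}

theorem mem_V0 {v : V} : v ∈ V0 b a c D m ↔
    ∃ u ∈ D, Perp b c u ∧ ∃ α γ : ZMod 2, v = u + (α • a + γ • (m • c)) := by
  rw [V0, Submodule.mem_sup]
  constructor
  · rintro ⟨u, ⟨hu, hp⟩, x, hx, rfl⟩
    obtain ⟨α, γ, rfl⟩ := Submodule.mem_span_pair.1 hx
    exact ⟨u, hu, hp, α, γ, rfl⟩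
  · rintro ⟨u, hu, hp, α, γ, rfl⟩
    exact ⟨u, ⟨hu, hp⟩, _, Submodule.mem_span_pair.2 ⟨α, γ, rfl⟩, rfl⟩

theorem U_mem {u : V} (hu : u ∈ D) (hp : Perp b c u) : u ∈ V0 b a c D m :=
  Submodule.mem_sup_left ⟨hu, hp⟩

theorem a_mem : a ∈ V0 b a c D m :=
  Submodule.mem_sup_right (Submodule.subset_span (by simp))

theorem mc_mem : m • c ∈ V0 b a c D m :=
  Submodule.mem_sup_right (Submodule.subset_span (by simp))

/-- `g(u, v) = b(ω u, v)` -/
def gf (b : LinearMap.BilinForm (ZMod 2) V) (u v : V) : ZMod 2 := b (F4.w • u) v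

theorem gf_add_left (u u' v : V) : gf b (u + u') v = gf b u v + gf b u' v := by
  rw [gf, smul_add, map_add, LinearMap.add_apply]; rfl

theorem gf_add_right (u v v' : V) : gf b u (v + v') = gf b u v + gf b u v' := by
  rw [gf, map_add]; rfl

variable (O : Op ρ b q w a c D E X Y m)
include O

/-! ### values of `b` and `g` -/

theorem b_U_a {u : V} (hu : u ∈ D) : b u a = 0 := O.P.bD _ hu _ O.P.mem

theorem b_U_mc {u : V} (hp : Perp b c u) : b u (m • c) = 0 := by
  rw [O.A.comm]; exact hp m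

theorem b_mc_mc (k l : F4) : b (k • c) (l • c) = 0 := O.A.perp_smul O.Q.perp_self l k

theorem b_aa (k l : F4) : b (k • a) (l • a) = 0 := O.A.perp_smul O.P.perp_self l k

/-- `b = 0` on `V₀` -/
theorem b_V0 {x y : V} (hx : x ∈ V0 b a c D m) (hy : y ∈ V0 b a c D m) : b x y = 0 := by
  obtain ⟨u, hu, hp, α, γ, rfl⟩ := mem_V0.1 hx
  obtain ⟨v, hv, hp', α', γ', rfl⟩ := mem_V0.1 hy
  have h1 : b u v = 0 := O.P.bD _ hu _ hv
  have h2 : b a v = 0 := by rw [O.A.comm]; exact b_U_a O hv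
  have h3 : b (m • c) v = 0 := hp' m
  have h4 : b u a = 0 := b_U_a O hu
  have h5 : b u (m • c) = 0 := b_U_mc O hp
  have h6 : b a a = 0 := O.A.b_self a
  have h7 : b (m • c) (m • c) = 0 := O.A.b_self _
  have h8 : b a (m • c) = 0 := O.hm
  have h9 : b (m • c) a = 0 := by rw [O.A.comm]; exact h8
  simp only [map_add, LinearMap.add_apply, map_smul, LinearMap.smul_apply, h1, h2, h3, h4, h5, h6, h7,
    h8, h9, smul_zero, add_zero]

theorem gf_a_mc : gf b a (m • c) = 1 := by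
  have h : gf b a (m • c) ≠ 0 := by
    intro h
    exact O.m0 (O.perp_ac (perp_of_two O.A.toAmb0 O.hm h))
  exact (z2 _).resolve_left h

theorem gf_mc_a : gf b (m • c) a = 1 := by
  have h1 := O.isU F4.z (by decide) (F4.w • (m • c)) a
  rw [smul_smul, show F4.z * F4.w = 1 by decide, one_smul, O.A.comm, add_one_smul, map_add,
    LinearMap.add_apply, O.hm, zero_add] at h1
  rw [gf, ← h1]
  exact gf_a_mc O

theorem gf_U_a {u : V} (hu : u ∈ D) : gf b u a = 0 := O.A.perp_symm (O.P.perpD hu) F4.w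

theorem gf_a_U {u : V} (hu : u ∈ D) : gf b a u = 0 := O.P.perpD hu F4.w

theorem gf_mc_U {u : V} (hp : Perp b c u) : gf b (m • c) u = 0 := by
  rw [gf, smul_smul]; exact hp _

theorem gf_U_mc {u : V} (hp : Perp b c u) : gf b u (m • c) = 0 :=
  O.A.perp_symm (O.A.smul_perp hp m) F4.w

theorem gf_aa : gf b a a = 0 := O.P.perp_self F4.w

theorem gf_mcmc : gf b (m • c) (m • c) = 0 := by
  rw [gf, smul_smul]; exact b_mc_mc O _ _

/-- `g` is symmetric on `V₀` -/
theorem gf_symm {x y : V} (hx : x ∈ V0 b a c D m) (hy : y ∈ V0 b a c D m) : gf b x y = gf b y x := by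
  have h1 := O.isU F4.w (by decide) (F4.w • x) y
  rw [smul_smul, show F4.w * F4.w = F4.z by decide, add_one_smul, map_add, LinearMap.add_apply] at h1
  have h2 : b (F4.w • x) (F4.w • y) = b x y := O.isU F4.w (by decide) x y
  rw [h2, b_V0 O hx hy, add_zero] at h1
  rw [gf, gf, ← h1, O.A.comm]

/-- `b (k x) (l y)` on `V₀` -/
theorem b_smul {x y : V} (hx : x ∈ V0 b a c D m) (hy : y ∈ V0 b a c D m) (k : F4) :
    b (k • x) y = im k * gf b x y := by
  rw [smul_reim, map_add, LinearMap.add_apply, map_smul, LinearMap.smul_apply, b_V0 O hx hy, smul_zero,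
    zero_add]
  rcases z2 (im k) with h | h
  · rw [h, zero_smul, smul_zero, map_zero, LinearMap.zero_apply, zero_mul]
  · rw [h, one_smul, one_mul]; rfl

/-! ### `V = V₀ ⊕ ω V₀` -/

/-- `V₀ ∩ ω V₀ = 0` -/
theorem inf_w {v : V} (hv : v ∈ V0 b a c D m) (h : F4.w • v ∈ V0 b a c D m) : v = 0 := by
  obtain ⟨u, hu, hp, α, γ, rfl⟩ := mem_V0.1 hv
  obtain ⟨u', hu', hp', α', γ', h'⟩ := mem_V0.1 h
  rw [smul_add, smul_add, ← cf_smul, ← cf_smul, ← cf_smul, ← cf_smul, smul_smul, smul_smul, smul_smul] at h'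
  -- the coefficient of `a`
  have h1 : F4.w • u + u' + ((F4.w * cf γ * m) • c + cf γ' • (m • c)) + (F4.w * cf α + cf α') • a = 0 := by
    have h2 := self_add (F4.w • u + ((F4.w * cf α) • a + (F4.w * cf γ * m) • c))
    nth_rewrite 2 [h'] at h2
    rw [← h2, add_smul]; abel
  have h2 : (F4.w * cf α + cf α') = 0 := by
    apply O.perp_ca
    have h3 : Perp b c (F4.w • u + u' + ((F4.w * cf γ * m) • c + cf γ' • (m • c))) := by
      refine perp_add (perp_add (O.A.perp_smul hp _) hp') (perp_add (O.A.perp_smul O.Q.perp_self _) ?_)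
      rw [smul_smul]
      exact O.A.perp_smul O.Q.perp_self _
    have h4 := perp_add h3 (show Perp b c (0 : V) from (perp b c).zero_mem)
    rw [← h1, self_add_add] at h4
    exact h4
  have h3 : α = 0 := by
    have : ∀ α α' : ZMod 2, F4.w * cf α + cf α' = 0 → α = 0 := by decide
    exact this _ _ h2
  have h4 : F4.w * cf γ * m + cf γ' * m = 0 := by
    apply O.perp_ac
    have h5 : Perp b a (F4.w • u + u' + (F4.w * cf α + cf α') • a) :=
      perp_add (perp_add (O.A.perp_smul (O.P.perpD hu) _) (O.P.perpD hu')) (O.A.perp_smul O.P.perp_self _)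
    have h6 := perp_add h5 (show Perp b a (0 : V) from (perp b a).zero_mem)
    have h7 : F4.w • u + u' + (F4.w * cf α + cf α') • a + (F4.w * cf γ * m + cf γ' * m) • c = 0 := by
      rw [← h1, smul_smul, add_smul (F4.w * cf γ * m)]; abel
    rw [← h7, self_add_add] at h6
    exact h6
  have h5 : γ = 0 := by
    have : ∀ (m : F4) (γ γ' : ZMod 2), m ≠ 0 → F4.w * cf γ * m + cf γ' * m = 0 → γ = 0 := by decide
    exact this _ _ _ O.m0 h4
  have h6 : α' = 0 := by
    have : ∀ α α' : ZMod 2, F4.w * cf α + cf α' = 0 → α' = 0 := by decide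
    exact this _ _ h2
  have h7 : γ' = 0 := by
    have : ∀ (m : F4) (γ γ' : ZMod 2), m ≠ 0 → F4.w * cf γ * m + cf γ' * m = 0 → γ' = 0 := by decide
    exact this _ _ _ O.m0 h4
  rw [h3, h5, zero_smul, zero_smul, add_zero, add_zero] at h ⊢
  rw [h3, h5, h6, h7] at h'
  have h8 : F4.w • u = u' := by simpa [cf] using h'
  obtain ⟨k, hk⟩ := O.P.inf (l := F4.w) (by decide) (by decide) hu (by rw [h8]; exact hu')
  rw [hk] at hp ⊢
  rw [O.perp_ca hp, zero_smul]

theorem im_zero {v : V} (hv : v ∈ V0 b a c D m) {k : F4} (h : k • v ∈ V0 b a c D m) : im k • v = 0 := by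
  apply inf_w O ((V0 b a c D m).smul_mem _ hv)
  have h1 := (V0 b a c D m).add_mem h ((V0 b a c D m).smul_mem (re k) hv)
  rw [smul_reim, add_comm (re k • v), add_self_add] at h1
  exact h1

theorem im_two {x y : V} (hx : x ∈ V0 b a c D m) (hy : y ∈ V0 b a c D m) {k l : F4}
    (h : k • x + l • y ∈ V0 b a c D m) : im k • x + im l • y = 0 := by
  apply inf_w O ((V0 b a c D m).add_mem ((V0 b a c D m).smul_mem _ hx) ((V0 b a c D m).smul_mem _ hy))
  have h1 := (V0 b a c D m).add_mem h ((V0 b a c D m).add_mem ((V0 b a c D m).smul_mem (re k) hx)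
    ((V0 b a c D m).smul_mem (re l) hy))
  have h2 : k • x + l • y + (re k • x + re l • y) = F4.w • (im k • x + im l • y) := by
    rw [smul_reim k x, smul_reim l y, smul_add]
    have h3 := self_add (re k • x + re l • y)
    calc _ = F4.w • (im k • x) + F4.w • (im l • y) +
          (re k • x + re l • y + (re k • x + re l • y)) := by abel
      _ = _ := by rw [h3, add_zero]
  rwa [h2] at h1

theorem im_three {x y z : V} (hx : x ∈ V0 b a c D m) (hy : y ∈ V0 b a c D m) (hz : z ∈ V0 b a c D m)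
    {k l n : F4} (h : k • x + l • y + n • z ∈ V0 b a c D m) : im k • x + im l • y + im n • z = 0 := by
  set W := V0 b a c D m with hW
  apply inf_w O (W.add_mem (W.add_mem (W.smul_mem _ hx) (W.smul_mem _ hy)) (W.smul_mem _ hz))
  have h1 := W.add_mem h (W.add_mem (W.add_mem (W.smul_mem (re k) hx) (W.smul_mem (re l) hy))
    (W.smul_mem (re n) hz))
  have h2 : k • x + l • y + n • z + (re k • x + re l • y + re n • z) =
      F4.w • (im k • x + im l • y + im n • z) := by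
    rw [smul_reim k x, smul_reim l y, smul_reim n z, smul_add, smul_add]
    have h3 := self_add (re k • x + re l • y + re n • z)
    calc _ = F4.w • (im k • x) + F4.w • (im l • y) + F4.w • (im n • z) +
          (re k • x + re l • y + re n • z + (re k • x + re l • y + re n • z)) := by abel
      _ = _ := by rw [h3, add_zero]
  rwa [h2] at h1

/-- `D = F a + U_a` -/
theorem dec_D {d : V} (hd : d ∈ D) : ∃ l : F4, ∃ u ∈ D, Perp b c u ∧ d = l • a + u := by
  obtain ⟨l, hl⟩ := O.proj d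
  exact ⟨l, d + l • a, D.add_mem hd (O.P.fmem l), hl, by rw [add_comm d, self_add_add]⟩

theorem exists_dec (v : V) : ∃ x ∈ V0 b a c D m, ∃ y ∈ V0 b a c D m, v = x + F4.w • y := by
  obtain ⟨l, hl⟩ := O.proj v
  obtain ⟨k, hk⟩ := O.symm.proj (v + l • a)
  obtain ⟨d, hd, d', hd', h1⟩ := O.P.decomp O.A hk
  obtain ⟨l1, u1, hu1, hp1, rfl⟩ := dec_D O hd
  obtain ⟨l2, u2, hu2, hp2, rfl⟩ := dec_D O hd'
  have h2 : v = u1 + F4.w • u2 + (l1 + F4.w * l2 + l) • a + (k * m⁻¹) • (m • c) := by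
    have h3 : v = v + l • a + k • c + l • a + k • c := by
      have h4 := self_add (l • a)
      have h5 := self_add (k • c)
      calc v = v + (l • a + l • a) + (k • c + k • c) := by rw [h4, h5, add_zero, add_zero]
        _ = _ := by abel
    rw [h3, h1, smul_smul, mul_assoc, inv_mul_cancel₀ O.m0, mul_one, add_smul, add_smul, smul_add,
      smul_smul]
    abel
  set l3 := l1 + F4.w * l2 + l with hl3
  set k' := k * m⁻¹ with hk'
  refine ⟨u1 + (re l3 • a + re k' • (m • c)), mem_V0.2 ⟨u1, hu1, hp1, _, _, rfl⟩,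
    u2 + (im l3 • a + im k' • (m • c)), mem_V0.2 ⟨u2, hu2, hp2, _, _, rfl⟩, ?_⟩
  rw [h2, smul_reim l3 a, smul_reim k' (m • c), smul_add, smul_add]
  abel

/-- `g` is nondegenerate on `V₀` -/
theorem gf_nondeg {u : V} (hu : u ∈ V0 b a c D m) (h : ∀ v ∈ V0 b a c D m, gf b u v = 0) : u = 0 := by
  have h1 : F4.w • u = 0 := by
    apply O.A.nondeg
    intro v
    obtain ⟨x, hx, y, hy, rfl⟩ := exists_dec O v
    rw [map_add, O.isU F4.w (by decide), b_V0 O hu hy, add_zero]
    exact h x hx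
  rcases smul_eq_zero.1 h1 with h2 | h2
  · exact absurd h2 (by decide)
  · exact h2

/-- for `u ≠ 0` in `U_a` there is `u' ∈ U_a` with `g(u, u') = 1` -/
theorem exists_g {u : V} (hu : u ∈ D) (hp : Perp b c u) (h0 : u ≠ 0) :
    ∃ u' ∈ D, Perp b c u' ∧ gf b u u' = 1 := by
  by_contra hc
  push Not at hc
  apply h0
  apply gf_nondeg O (U_mem hu hp)
  intro v hv
  obtain ⟨u', hu', hp', α, γ, rfl⟩ := mem_V0.1 hv
  have h1 : gf b u u' = 0 := (z2 _).resolve_right (hc u' hu' hp')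
  have h2 : ∀ (k : ZMod 2) (v : V), gf b u (k • v) = k * gf b u v := by
    intro k v; rw [gf, map_smul]; rfl
  rw [gf_add_right, gf_add_right, h2, h2, h1, gf_U_a O hu, gf_U_mc O hp, mul_zero, mul_zero, add_zero,
    add_zero]

/-! ### the elements of `Y` -/

/-- `s` maps `a` to `a + u + κ m c` -/
def R (ρ : H →* (V ≃ₗ[ZMod 2] V)) (a c : V) (Y : Subgroup H) (m : F4) (u : V) (κ : ZMod 2) (s : H) : Prop :=
  s ∈ Y ∧ ρ s a = a + u + κ • (m • c)

theorem exists_R {u : V} (hu : u ∈ D) (hp : Perp b c u) : ∃ κ s, R ρ a c Y m u κ s := by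
  obtain ⟨s, hs, h⟩ := O.symm.surj (O.inv_mem hu hp) (O.A.perp_smul (O.P.perpD hu) _)
  refine ⟨Op.kap b ρ c a m⁻¹ s, s, hs, ?_⟩
  have h1 : Op.dl ρ a s = u + Op.kap b ρ c a m⁻¹ s • (m • c) := by
    have := congrArg (fun x => m • x) h
    simp only [smul_add, smul_inv_smul₀ O.m0] at this
    rw [this, ← cf_smul, ← cf_smul, smul_smul, smul_smul, mul_comm]
  rw [O.symm.ρ_c s, h1, add_assoc]

theorem R_dl {u : V} {κ : ZMod 2} {s : H} (h : R ρ a c Y m u κ s) : Op.dl ρ a s = u + κ • (m • c) := by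
  have := O.m0
  rw [Op.dl, h.2, add_assoc a, add_comm a, add_self_add]

/-- `s` on `U_a` -/
theorem R_U {u : V} (hu : u ∈ D) (hp : Perp b c u) {κ : ZMod 2} {s : H} (h : R ρ a c Y m u κ s)
    {u' : V} (hu' : u' ∈ D) (hp' : Perp b c u') : ρ s u' = u' + gf b u u' • (m • c) := by
  have h1 : ∃ k : ZMod 2, ρ s u' = u' + k • (m • c) := by
    rcases O.Q.onD s h.1 _ (O.inv_mem hu' hp') with h2 | h2
    · refine ⟨0, ?_⟩
      rw [O.Q.lin s h.1] at h2
      have := congrArg (fun x => m • x) h2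
      simp only [smul_inv_smul₀ O.m0] at this
      rw [this, zero_smul, add_zero]
    · refine ⟨1, ?_⟩
      rw [O.Q.lin s h.1] at h2
      have := congrArg (fun x => m • x) h2
      simp only [smul_inv_smul₀ O.m0, smul_add] at this
      rw [this, one_smul]
  obtain ⟨k, hk⟩ := h1
  have h2 := O.A.b_inv s (F4.w • a) u'
  have h3 : b (F4.w • a) u' = 0 := gf_a_U O hu'
  have h4 : ∀ (l : ZMod 2) (v : V), F4.w • (l • v) = l • (F4.w • v) := by
    intro l v
    rw [← cf_smul, ← cf_smul, smul_smul, smul_smul, mul_comm]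
  have e1 : b (F4.w • a) (m • c) = 1 := gf_a_mc O
  have e2 : b (F4.w • u) (m • c) = 0 := gf_U_mc O hp
  have e3 : b (F4.w • (m • c)) u' = 0 := gf_mc_U O hp'
  have e4 : b (F4.w • (m • c)) (m • c) = 0 := gf_mcmc O
  rw [O.Q.lin s h.1, h.2, hk, h3, smul_add, smul_add, h4] at h2
  simp only [map_add, LinearMap.add_apply, map_smul, LinearMap.smul_apply, h3, e1, e2, e3, e4, smul_eq_mul,
    mul_zero, mul_one, add_zero, zero_add] at h2
  have h5 : k = gf b u u' := by
    have : gf b u u' + k = 0 := by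
      rw [gf, ← h2]; try abel
    exact (CharTwo.add_eq_zero.1 this).symm
  rw [hk, h5]

theorem R_mul {u : V} (hu : u ∈ D) (hp : Perp b c u) {κ : ZMod 2} {s : H} (h : R ρ a c Y m u κ s)
    {u' : V} (hu' : u' ∈ D) (hp' : Perp b c u') {κ' : ZMod 2} {s' : H} (h' : R ρ a c Y m u' κ' s') :
    R ρ a c Y m (u + u') (κ + κ' + gf b u u') (s * s') := by
  refine ⟨Y.mul_mem h.1 h'.1, ?_⟩
  have h1 : ρ s (m • c) = m • c := O.Q.fixF h.1 m
  rw [ρ_mul, h'.2, map_add, map_add, map_smul, h.2, R_U O hu hp h hu' hp', h1, add_smul, add_smul]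
  abel

theorem R_one {κ : ZMod 2} {s : H} (h : R ρ a c Y m 0 κ s) : κ = 0 ∧ s = 1 := by
  have h1 := R_dl O h
  rw [zero_add] at h1
  have h2 : m⁻¹ • Op.dl ρ a s = (m⁻¹ * cf κ * m) • c := by
    rw [h1, ← cf_smul, smul_smul, smul_smul]
  have h3 := O.symm.dl_line h.1 h2
  refine ⟨?_, h3⟩
  rcases z2 κ with h4 | h4
  · exact h4
  · exfalso
    rw [h3, Op.dl, ρ_one, self_add, h4, one_smul] at h1
    rcases smul_eq_zero.1 h1.symm with h5 | h5
    · exact O.m0 h5
    · exact O.Q.ne h5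

theorem gf_self {u : V} (hu : u ∈ D) (hp : Perp b c u) : gf b u u = 0 := by
  obtain ⟨κ, s, h⟩ := exists_R O hu hp
  have h1 := R_mul O hu hp h hu hp h
  rw [self_add, CharTwo.add_self_eq_zero, zero_add] at h1
  exact (R_one O h1).1

theorem R_unique {u : V} (hu : u ∈ D) (hp : Perp b c u) {κ : ZMod 2} {s : H} (h : R ρ a c Y m u κ s)
    {κ' : ZMod 2} {s' : H} (h' : R ρ a c Y m u κ' s') : κ = κ' := by
  have h1 := R_mul O hu hp h hu hp h'
  rw [self_add, gf_self O hu hp, add_zero] at h1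
  exact CharTwo.add_eq_zero.1 (R_one O h1).1

omit O in
/-- the quadratic form on `U_a` -/
noncomputable def Qf (ρ : H →* (V ≃ₗ[ZMod 2] V)) (a c : V) (Y : Subgroup H) (m : F4) (u : V) : ZMod 2 := by
  classical
  exact if ∃ s, R ρ a c Y m u 0 s then 0 else 1

theorem Qf_spec {u : V} (hu : u ∈ D) (hp : Perp b c u) : ∃ s, R ρ a c Y m u (Qf ρ a c Y m u) s := by
  classical
  rw [Qf]
  split_ifs with h
  · exact h
  · obtain ⟨κ, s, h1⟩ := exists_R O hu hp
    rcases z2 κ with rfl | rfl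
    · exact absurd ⟨s, h1⟩ h
    · exact ⟨s, h1⟩

theorem Qf_add {u u' : V} (hu : u ∈ D) (hp : Perp b c u) (hu' : u' ∈ D) (hp' : Perp b c u') :
    Qf ρ a c Y m (u + u') = Qf ρ a c Y m u + Qf ρ a c Y m u' + gf b u u' := by
  obtain ⟨s, h⟩ := Qf_spec O hu hp
  obtain ⟨s', h'⟩ := Qf_spec O hu' hp'
  obtain ⟨s'', h''⟩ := Qf_spec O (D.add_mem hu hu') (perp_add hp hp')
  exact R_unique O (D.add_mem hu hu') (perp_add hp hp') h'' (R_mul O hu hp h hu' hp' h')

/-! ### invariance -/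

theorem X_V0 {y : H} (hy : y ∈ X) {v : V} (hv : v ∈ V0 b a c D m) : ρ y v ∈ V0 b a c D m := by
  obtain ⟨u, hu, hp, α, γ, rfl⟩ := mem_V0.1 hv
  set W := V0 b a c D m with hW
  have h1 : ρ y u ∈ W := by
    rcases O.P.onD y hy u hu with h | h
    · rw [h]; exact U_mem hu hp
    · rw [h]; exact W.add_mem (U_mem hu hp) a_mem
  have h2 : ρ y a ∈ W := by rw [O.P.fix y hy]; exact a_mem
  have h3 : ρ y (m • c) ∈ W := by
    rw [O.P.lin y hy, O.ρ_c y, smul_add]
    refine W.add_mem mc_mem ?_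
    have h4 := W.add_mem (U_mem (a := a) (m := m) (D.add_mem (O.dl_mem hy) (O.P.fmem _)) (O.kap_spec hy))
      (W.smul_mem (Op.kap b ρ a c m y) a_mem)
    rw [cf_smul, add_self_add] at h4
    exact h4
  rw [map_add, map_add, map_smul, map_smul]
  exact W.add_mem h1 (W.add_mem (W.smul_mem _ h2) (W.smul_mem _ h3))

theorem Y_V0 {s : H} (hs : s ∈ Y) {v : V} (hv : v ∈ V0 b a c D m) : ρ s v ∈ V0 b a c D m := by
  obtain ⟨u, hu, hp, α, γ, rfl⟩ := mem_V0.1 hv
  set W := V0 b a c D m with hW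
  have h1 : ρ s u ∈ W := by
    rcases O.Q.onD s hs _ (O.inv_mem hu hp) with h2 | h2
    · rw [O.Q.lin s hs] at h2
      have := congrArg (fun x => m • x) h2
      simp only [smul_inv_smul₀ O.m0] at this
      rw [this]; exact U_mem hu hp
    · rw [O.Q.lin s hs] at h2
      have := congrArg (fun x => m • x) h2
      simp only [smul_inv_smul₀ O.m0, smul_add] at this
      rw [this]; exact W.add_mem (U_mem hu hp) mc_mem
  have h2 : ρ s a ∈ W := by
    have h3 := O.symm.kap_spec hs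
    have h4 : m⁻¹ • Op.dl ρ a s + cf (Op.kap b ρ c a m⁻¹ s) • c ∈ E := E.add_mem (O.symm.dl_mem hs) (O.Q.fmem _)
    have h5 := O.symm.inv_mem h4 h3
    rw [inv_inv] at h5
    have h6 : Perp b c (m • (m⁻¹ • Op.dl ρ a s + cf (Op.kap b ρ c a m⁻¹ s) • c)) :=
      O.A.perp_smul (O.Q.perpD h4) _
    have h7 := W.add_mem (W.add_mem (U_mem (a := a) (m := m) h5 h6)
      (W.smul_mem (Op.kap b ρ c a m⁻¹ s) mc_mem)) a_mem
    have h8 : m • (m⁻¹ • Op.dl ρ a s + cf (Op.kap b ρ c a m⁻¹ s) • c) + Op.kap b ρ c a m⁻¹ s • m • c + a = ρ s a := by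
      rw [O.symm.ρ_c s, smul_add, smul_inv_smul₀ O.m0, ← cf_smul (Op.kap b ρ c a m⁻¹ s) (m • c), smul_smul,
        smul_smul, mul_comm m, add_self_add, add_comm]
    rwa [h8] at h7
  have h3 : ρ s (m • c) ∈ W := by rw [O.Q.fixF hs]; exact mc_mem
  rw [map_add, map_add, map_smul, map_smul]
  exact W.add_mem h1 (W.add_mem (W.smul_mem _ h2) (W.smul_mem _ h3))

theorem V0_ne_bot : V0 b a c D m ≠ ⊥ := by
  intro h
  have h1 : a ∈ V0 b a c D m := a_mem
  rw [h] at h1
  exact O.P.ne ((Submodule.mem_bot _).1 h1)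

theorem V0_ne_top : V0 b a c D m ≠ ⊤ := by
  intro h
  exact O.P.ne (inf_w O a_mem (by rw [h]; trivial))

end Cfsg.Agent.Omega.EH3.ETwo.V0

end

-- merged: Cfsg.Agent.Omega.EH3.ETwo.Pure
section

/-!
# THEOREM E2, steps (5), (6): every point is pure; `V₀` is invariant
-/

set_option autoImplicit false
set_option linter.unusedSectionVars false

namespace Cfsg.Agent.Omega.EH3.ETwo.Pure

open Module Cfsg.Agent.Omega.EH3.ETwo.Base Cfsg.Agent.Omega.EH3.ETwo.Type
  Cfsg.Agent.Omega.EH3.ETwo.Map Cfsg.Agent.Omega.EH3.ETwo.Opp Cfsg.Agent.Omega.EH3.ETwo.V0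

variable {H V : Type*} [Group H] [AddCommGroup V] [Module (ZMod 2) V] [Module F4 V]
  {ρ : H →* (V ≃ₗ[ZMod 2] V)} {b : LinearMap.BilinForm (ZMod 2) V} {q : V → ZMod 2} {w : ℕ}
  {a c : V} {D E : Submodule (ZMod 2) V} {X Y : Subgroup H} {m : F4}

theorem finrank_ker [Finite V] (U : Submodule (ZMod 2) V) (φ : V →ₗ[ZMod 2] ZMod 2) :
    finrank (ZMod 2) U ≤ finrank (ZMod 2) (U ⊓ LinearMap.ker φ : Submodule (ZMod 2) V) + 1 := by
  have h := LinearMap.finrank_range_add_finrank_ker (φ.domRestrict U)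
  have h1 : finrank (ZMod 2) (LinearMap.range (φ.domRestrict U)) ≤ 1 := by
    have := Submodule.finrank_le (LinearMap.range (φ.domRestrict U))
    rwa [finrank_self] at this
  have h2 : finrank (ZMod 2) (LinearMap.ker (φ.domRestrict U)) =
      finrank (ZMod 2) (U ⊓ LinearMap.ker φ : Submodule (ZMod 2) V) := by
    have e1 : (LinearMap.ker (φ.domRestrict U)).map U.subtype = U ⊓ LinearMap.ker φ := by
      ext v
      rw [Submodule.mem_map, Submodule.mem_inf, LinearMap.mem_ker]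
      constructor
      · rintro ⟨⟨x, hx⟩, h1, rfl⟩
        exact ⟨hx, h1⟩
      · rintro ⟨hx, h1⟩
        exact ⟨⟨v, hx⟩, h1, rfl⟩
    rw [← e1]
    exact (LinearEquiv.finrank_eq (Submodule.equivMapOfInjective _ U.injective_subtype _))
  omega

variable (O : Op ρ b q w a c D E X Y m)
include O

theorem Qf_zero : Qf ρ a c Y m (0 : V) = 0 := by
  have h := Qf_add O D.zero_mem (show Perp b c (0 : V) from (perp b c).zero_mem) D.zero_mem
    (show Perp b c (0 : V) from (perp b c).zero_mem)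
  have h1 : gf b (0 : V) 0 = 0 := by rw [gf, map_zero]
  rw [add_zero, h1, add_zero, CharTwo.add_self_eq_zero] at h
  exact h

/-- **Lemma Z** -/
theorem exists_Z {u : V} (hu : u ∈ D) (hp : Perp b c u) :
    ∃ u' ∈ D, Perp b c u' ∧ u' ≠ 0 ∧ u' ≠ u ∧ gf b u u' = 0 ∧ Qf ρ a c Y m u' = 0 := by
  classical
  have _ := O.A.fin
  set W : Submodule (ZMod 2) V := D ⊓ perp b c ⊓ LinearMap.ker (b (F4.w • u)) with hW
  have hWr : 4 ≤ finrank (ZMod 2) W := by
    have h1 := finrank_ker (D ⊓ perp b c) (b (F4.w • u))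
    have h2 := finrank_inf O.A O.P c
    have h3 := O.A.seven
    rw [hW]
    omega
  have hex : ∀ s : Finset V, s.card ≤ 3 → ∃ t ∈ W, t ∉ Submodule.span (ZMod 2) (s : Set V) := by
    intro s hs
    by_contra hc
    push Not at hc
    have h1 := Submodule.finrank_mono (show W ≤ Submodule.span (ZMod 2) (s : Set V) from hc)
    have h2 : finrank (ZMod 2) (Submodule.span (ZMod 2) (s : Set V)) ≤ s.card :=
      finrank_span_finset_le_card (R := ZMod 2) s
    omega
  obtain ⟨t1, ht1, h1⟩ := hex {u} (by simp)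
  obtain ⟨t2, ht2, h2⟩ := hex {u, t1} (Finset.card_le_two.trans (by norm_num))
  obtain ⟨t3, ht3, h3⟩ := hex {u, t1, t2} Finset.card_le_three
  by_contra hcon
  push Not at hcon
  have hQ : ∀ t ∈ W, t ≠ 0 → t ≠ u → Qf ρ a c Y m t = 1 := by
    intro t ht h4 h5
    exact (z2 _).resolve_left (hcon t ht.1.1 ht.1.2 h4 h5 ht.2)
  have m1u : u ∈ Submodule.span (ZMod 2) ((({u} : Finset V)) : Set V) := Submodule.subset_span (by simp)
  have m2u : u ∈ Submodule.span (ZMod 2) ((({u, t1} : Finset V)) : Set V) := Submodule.subset_span (by simp)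
  have m21 : t1 ∈ Submodule.span (ZMod 2) ((({u, t1} : Finset V)) : Set V) := Submodule.subset_span (by simp)
  have m3u : u ∈ Submodule.span (ZMod 2) ((({u, t1, t2} : Finset V)) : Set V) := Submodule.subset_span (by simp)
  have m31 : t1 ∈ Submodule.span (ZMod 2) ((({u, t1, t2} : Finset V)) : Set V) := Submodule.subset_span (by simp)
  have m32 : t2 ∈ Submodule.span (ZMod 2) ((({u, t1, t2} : Finset V)) : Set V) := Submodule.subset_span (by simp)
  have gen : ∀ (s : Finset V) (t x : V), t ∉ Submodule.span (ZMod 2) (s : Set V) →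
      u ∈ Submodule.span (ZMod 2) (s : Set V) → x ∈ Submodule.span (ZMod 2) (s : Set V) → t ∈ W → x ∈ W →
      Qf ρ a c Y m (x + t) = 1 := by
    intro s t x ht hus hx htW hxW
    apply hQ _ (W.add_mem hxW htW)
    · intro h
      exact ht ((eq_of_add h) ▸ hx)
    · intro h
      apply ht
      have : t = x + u := by rw [← h, self_add_add]
      rw [this]
      exact Submodule.add_mem _ hx hus
  have e1 : Qf ρ a c Y m t1 = 1 := by
    have := gen _ t1 0 h1 m1u (Submodule.zero_mem _) ht1 W.zero_mem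
    rwa [zero_add] at this
  have e2 : Qf ρ a c Y m t2 = 1 := by
    have := gen _ t2 0 h2 m2u (Submodule.zero_mem _) ht2 W.zero_mem
    rwa [zero_add] at this
  have e3 : Qf ρ a c Y m t3 = 1 := by
    have := gen _ t3 0 h3 m3u (Submodule.zero_mem _) ht3 W.zero_mem
    rwa [zero_add] at this
  have e12 := gen _ t2 t1 h2 m2u m21 ht2 ht1
  have e13 := gen _ t3 t1 h3 m3u m31 ht3 ht1
  have e23 := gen _ t3 t2 h3 m3u m32 ht3 ht2
  have e123 := gen _ t3 (t1 + t2) h3 m3u (Submodule.add_mem _ m31 m32) ht3 (W.add_mem ht1 ht2)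
  rw [Qf_add O (D.add_mem ht1.1.1 ht2.1.1) (perp_add ht1.1.2 ht2.1.2) ht3.1.1 ht3.1.2, gf_add_left, e12,
    e3] at e123
  rw [Qf_add O ht1.1.1 ht1.1.2 ht2.1.1 ht2.1.2, e1, e2] at e12
  rw [Qf_add O ht1.1.1 ht1.1.2 ht3.1.1 ht3.1.2, e1, e3] at e13
  rw [Qf_add O ht2.1.1 ht2.1.2 ht3.1.1 ht3.1.2, e2, e3] at e23
  have : ∀ x y z : ZMod 2, 1 + 1 + y = 1 → 1 + 1 + z = 1 → 1 + 1 + (y + z) = 1 → False := by decide
  exact this 0 _ _ e13 e23 e123

omit O in
/-- the stabiliser of `V₀` in `C_H(F)` -/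
def M1 (ρ : H →* (V ≃ₗ[ZMod 2] V)) (W : Submodule (ZMod 2) V) : Subgroup H where
  carrier := {k | Lin ρ k ∧ ∀ v, ρ k v ∈ W ↔ v ∈ W}
  one_mem' := ⟨Lin.one, fun v => by rw [ρ_one]⟩
  mul_mem' := by
    rintro g h ⟨hg, hg'⟩ ⟨hh, hh'⟩
    exact ⟨hg.mul hh, fun v => by rw [ρ_mul, hg', hh']⟩
  inv_mem' := by
    rintro g ⟨hg, hg'⟩
    exact ⟨hg.inv, fun v => by rw [← hg', ρ_inv']⟩

omit O in
/-- the vectors of `a^{M₁}` -/
def Good (ρ : H →* (V ≃ₗ[ZMod 2] V)) (W : Submodule (ZMod 2) V) (a v : V) : Prop := ∃ k ∈ M1 ρ W, ρ k a = v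

theorem X_M1 {y : H} (hy : y ∈ X) : y ∈ M1 ρ (V0 b a c D m) :=
  ⟨O.P.lin y hy, fun v => ⟨fun h => by
    have := X_V0 O hy h
    rwa [O.P.twice hy] at this, X_V0 O hy⟩⟩

theorem Y_M1 {y : H} (hy : y ∈ Y) : y ∈ M1 ρ (V0 b a c D m) :=
  ⟨O.Q.lin y hy, fun v => ⟨fun h => by
    have := Y_V0 O hy h
    rwa [O.Q.twice hy] at this, Y_V0 O hy⟩⟩

omit O in
theorem good_a : Good ρ (V0 b a c D m) a a := ⟨1, Subgroup.one_mem _, ρ_one a⟩

theorem good_add {u : V} (hu : u ∈ D) (hp : Perp b c u) :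
    Good ρ (V0 b a c D m) a (a + u + Qf ρ a c Y m u • (m • c)) := by
  obtain ⟨s, hs, h⟩ := Qf_spec O hu hp
  exact ⟨s, Y_M1 O hs, h⟩

theorem good_add_zero {u : V} (hu : u ∈ D) (hp : Perp b c u) (hQ : Qf ρ a c Y m u = 0) :
    ∃ s ∈ Y, ρ s a = a + u := by
  obtain ⟨s, hs, h⟩ := Qf_spec O hu hp
  rw [hQ, zero_smul, add_zero] at h
  exact ⟨s, hs, h⟩

theorem good_U {u : V} (hu : u ∈ D) (hp : Perp b c u) (hQ : Qf ρ a c Y m u = 0) (h0 : u ≠ 0) :
    Good ρ (V0 b a c D m) a u := by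
  obtain ⟨s, hs, h⟩ := good_add_zero O hu hp hQ
  obtain ⟨y, hy, h1⟩ := O.P.exists_move hu (fun l hl => by
    rw [hl] at hp
    have := O.perp_ca hp
    rw [this, zero_smul] at hl
    exact h0 hl)
  refine ⟨y * s, Subgroup.mul_mem _ (X_M1 O hy) (Y_M1 O hs), ?_⟩
  rw [ρ_mul, h, map_add, O.P.fix y hy, h1, add_comm u, self_add_add]

/-- Step A -/
theorem exists_good_perp (e : V) : ∃ v, Good ρ (V0 b a c D m) a v ∧ Perp b e v := by
  obtain ⟨u1, hu1, hp1, h1, -, -, hQ1⟩ :=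
    exists_Z O D.zero_mem (show Perp b c (0 : V) from (perp b c).zero_mem)
  obtain ⟨u2, hu2, hp2, h2, h12, hg, hQ2⟩ := exists_Z O hu1 hp1
  have key : ∀ x1 x2 x3 y1 y2 y3 : ZMod 2, ∃ α β γ : ZMod 2, (α ≠ 0 ∨ β ≠ 0 ∨ γ ≠ 0) ∧
      α * x1 + (β * x2 + γ * x3) = 0 ∧ α * y1 + (β * y2 + γ * y3) = 0 := by decide
  obtain ⟨α, β, γ, hne, e1, e2⟩ := key (b e a) (b e u1) (b e u2) (b (F4.w • e) a) (b (F4.w • e) u1)
    (b (F4.w • e) u2)
  have hQ12 : Qf ρ a c Y m (u1 + u2) = 0 := by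
    rw [Qf_add O hu1 hp1 hu2 hp2, hQ1, hQ2, hg, add_zero, add_zero]
  have h12' : u1 + u2 ≠ 0 := fun h => h12 (eq_of_add h).symm
  refine ⟨α • a + (β • u1 + γ • u2), ?_, ?_⟩
  · have hall : Qf ρ a c Y m (β • u1 + γ • u2) = 0 ∧
        ((β ≠ 0 ∨ γ ≠ 0) → β • u1 + γ • u2 ≠ 0) := by
      rcases z2 β with rfl | rfl <;> rcases z2 γ with rfl | rfl
      · rw [zero_smul, zero_smul, add_zero]
        exact ⟨Qf_zero O, fun h => by rcases h with h | h <;> exact absurd rfl h⟩
      · rw [zero_smul, zero_add, one_smul]; exact ⟨hQ2, fun _ => h2⟩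
      · rw [zero_smul, add_zero, one_smul]; exact ⟨hQ1, fun _ => h1⟩
      · rw [one_smul, one_smul]; exact ⟨hQ12, fun _ => h12'⟩
    have hD : β • u1 + γ • u2 ∈ D := D.add_mem (D.smul_mem _ hu1) (D.smul_mem _ hu2)
    have hP : Perp b c (β • u1 + γ • u2) := perp_add ((perp b c).smul_mem _ hp1) ((perp b c).smul_mem _ hp2)
    rcases z2 α with rfl | rfl
    · rw [zero_smul, zero_add]
      refine good_U O hD hP hall.1 (hall.2 ?_)
      rcases hne with h | h | h
      · exact absurd rfl h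
      · exact Or.inl h
      · exact Or.inr h
    · rw [one_smul]
      obtain ⟨s, hs, h⟩ := good_add_zero O hD hP hall.1
      exact ⟨s, Y_M1 O hs, h⟩
  · apply perp_of_two O.A.toAmb0
    · rw [map_add, map_add, map_smul, map_smul, map_smul]
      exact e1
    · have h3 : ∀ (k : ZMod 2) (v : V), b (F4.w • e) (k • v) = k * b (F4.w • e) v := fun k v =>
        (b (F4.w • e)).map_smul k v
      rw [map_add, map_add, h3, h3, h3]
      exact e2

/-- Step B, normalised -/
theorem pure_perp {e : V} {De : Submodule (ZMod 2) V} {Xe : Subgroup H} (Pe : Pt ρ b q w e De Xe)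
    (hpe : Perp b a e) : ∃ l : F4, l ≠ 0 ∧ l • e ∈ V0 b a c D m := by
  by_cases hne : ∀ l : F4, e ≠ l • a
  swap
  · push Not at hne
    obtain ⟨l, hl⟩ := hne
    have hl0 : l ≠ 0 := by
      rintro rfl
      rw [zero_smul] at hl
      exact Pe.ne hl
    refine ⟨l⁻¹, inv_ne_zero hl0, ?_⟩
    rw [hl, inv_smul_smul₀ hl0]
    exact a_mem
  obtain ⟨l, hl0, hl⟩ := type_one O.A O.P Pe hpe hne
  obtain ⟨α, u0, hu0, hp0, hle⟩ := dec_D O hl
  by_cases hα : im α = 0
  · refine ⟨l, hl0, ?_⟩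
    rw [hle, smul_reim, hα, zero_smul, smul_zero, add_zero]
    exact (V0 b a c D m).add_mem ((V0 b a c D m).smul_mem _ a_mem) (U_mem hu0 hp0)
  exfalso
  have hu00 : u0 ≠ 0 := by
    rintro rfl
    rw [add_zero] at hle
    apply hne (l⁻¹ * α)
    rw [mul_smul, ← hle, inv_smul_smul₀ hl0]
  obtain ⟨u', hu', hp', h0', hne', hg, hQ⟩ := exists_Z O hu0 hp0
  obtain ⟨s, hs, hsa⟩ := good_add_zero O hu' hp' hQ
  have P' := Map.map O.A O.P s (Or.inl (O.Q.lin s hs))
  have he : e = (l⁻¹ * α) • a + l⁻¹ • u0 := by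
    have := congrArg (fun x => l⁻¹ • x) hle
    simp only [inv_smul_smul₀ hl0, smul_add, smul_smul] at this
    exact this
  have hpe' : Perp b (ρ s a) e := by
    rw [hsa]
    apply O.A.perp_symm
    apply perp_add (O.A.perp_symm hpe)
    intro k
    rw [he, smul_add, map_add, LinearMap.add_apply, smul_smul, smul_smul]
    have e1 : b ((k * (l⁻¹ * α)) • a) u' = 0 := O.P.perpD hu' _
    have e2 : b ((k * l⁻¹) • u0) u' = 0 := by
      rw [b_smul O (U_mem hu0 hp0) (U_mem hu' hp'), hg, mul_zero]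
    rw [e1, e2, add_zero]
  -- comparison of coordinates
  have key : ∀ {x y z : ZMod 2}, x • a + y • u0 + z • u' = 0 → x = 0 ∧ y = 0 ∧ z = 0 := by
    intro x y z h
    have hx : x = 0 := by
      rcases z2 x with h1 | h1
      · exact h1
      · exfalso
        rw [h1, one_smul, add_assoc] at h
        have h2 := eq_of_add h
        have h3 : Perp b c a := by
          rw [h2]
          exact perp_add ((perp b c).smul_mem _ hp0) ((perp b c).smul_mem _ hp')
        have h4 := h3 1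
        rw [one_smul, O.A.comm, O.one] at h4
        exact one_ne_zero h4
    rw [hx, zero_smul, zero_add] at h
    refine ⟨hx, ?_⟩
    rcases z2 y with rfl | rfl <;> rcases z2 z with rfl | rfl
    · exact ⟨rfl, rfl⟩
    · rw [zero_smul, zero_add, one_smul] at h; exact absurd h h0'
    · rw [zero_smul, add_zero, one_smul] at h; exact absurd h hu00
    · rw [one_smul, one_smul] at h; exact absurd (eq_of_add h).symm hne'
  have hne2 : ∀ k : F4, e ≠ k • ρ s a := by
    intro k hk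
    rw [hsa] at hk
    have h1 : (α + l * k) • a + (1 : F4) • u0 + (l * k) • u' ∈ V0 b a c D m := by
      have h2 : (α + l * k) • a + (1 : F4) • u0 + (l * k) • u' = 0 := by
        have h3 : l • e = (l * k) • a + (l * k) • u' := by rw [hk, smul_add, smul_add, smul_smul, smul_smul]
        have h4 := self_add (l • e)
        nth_rewrite 1 [hle] at h4
        rw [h3] at h4
        rw [← h4, add_smul, one_smul]; abel
      rw [h2]; exact Submodule.zero_mem _
    obtain ⟨h2, h3, h4⟩ := key (im_three O a_mem (U_mem hu0 hp0) (U_mem hu' hp') h1)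
    have h5 : ∀ α k : F4, im (α + k) = im α + im k := by decide
    rw [h5, h4, add_zero] at h2
    exact hα h2
  obtain ⟨l', hl0', hl'⟩ := type_one O.A P' Pe hpe' hne2
  obtain ⟨d, hd, hd'⟩ := hl'
  obtain ⟨k, u2, hu2, hp2, rfl⟩ := dec_D O hd
  change ρ s (k • a + u2) = l' • e at hd'
  rw [map_add, O.Q.lin s hs, hsa] at hd'
  have hv := Y_V0 O hs (U_mem (a := a) (m := m) hu2 hp2)
  have h1 : (l' * l⁻¹ * α + k) • a + (l' * l⁻¹) • u0 + k • u' ∈ V0 b a c D m := by
    have h2 : (l' * l⁻¹ * α + k) • a + (l' * l⁻¹) • u0 + k • u' = ρ s u2 := by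
      have h3 := self_add (l' • e)
      nth_rewrite 2 [← hd'] at h3
      rw [he, smul_add, smul_smul, smul_smul, smul_add, ← mul_assoc] at h3
      apply eq_of_add
      rw [← h3, add_smul]; abel
    rw [h2]; exact hv
  obtain ⟨h2, h3, h4⟩ := key (im_three O a_mem (U_mem hu0 hp0) (U_mem hu' hp') h1)
  have h5 : ∀ (l l' α k : F4), l ≠ 0 → l' ≠ 0 → im (l' * l⁻¹ * α + k) = 0 → im (l' * l⁻¹) = 0 → im k = 0 →
      im α = 0 := by decide
  exact hα (h5 l l' α k hl0 hl0' h2 h3 h4)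

/-- Step B: every point is pure -/
theorem isPure {e : V} {De : Submodule (ZMod 2) V} {Xe : Subgroup H} (Pe : Pt ρ b q w e De Xe) :
    ∃ l : F4, l ≠ 0 ∧ l • e ∈ V0 b a c D m := by
  obtain ⟨v, ⟨k, ⟨hk, hk'⟩, rfl⟩, hv⟩ := exists_good_perp O e
  have P1 := Map.map O.A Pe k⁻¹ (Or.inl hk.inv)
  have h1 : Perp b a (ρ k⁻¹ e) := by
    intro l
    have h2 := O.A.perp_symm hv l
    rwa [← O.A.b_inv k⁻¹, ← hk, ρ_inv] at h2
  obtain ⟨l, hl0, hl⟩ := pure_perp O P1 h1
  refine ⟨l, hl0, ?_⟩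
  have h2 := (hk' _).2 hl
  rwa [hk, ρ_inv'] at h2

/-- `ρ y v₁ ∈ V₀` for good `v₁` -/
theorem good_stab {e : V} {De : Submodule (ZMod 2) V} {Xe : Subgroup H} (Pe : Pt ρ b q w e De Xe)
    {y : H} (hy : y ∈ Xe) {v1 : V} (hg : Good ρ (V0 b a c D m) a v1) : ρ y v1 ∈ V0 b a c D m := by
  set W := V0 b a c D m with hW
  obtain ⟨l, hl0, hl⟩ := isPure O Pe
  obtain ⟨k1, ⟨hk1, hk1'⟩, rfl⟩ := hg
  set v1 := ρ k1 a with hv1
  have hv1W : v1 ∈ W := (hk1' _).2 a_mem
  have hv10 : v1 ≠ 0 := by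
    intro h
    apply O.P.ne
    apply (ρ k1).injective
    rw [map_zero]; exact h
  have P2 := Map.map O.A O.P (y * k1) (Or.inl ((Pe.lin y hy).mul hk1))
  obtain ⟨l2, hl2, hl2W⟩ := isPure O P2
  rw [ρ_mul, ← hv1] at hl2W
  set v := l • e with hv
  have he : ∀ k : F4, k • e = (k * l⁻¹) • v := by
    intro k
    rw [hv, smul_smul, mul_assoc, inv_mul_cancel₀ hl0, mul_one]
  have hv0 : v ≠ 0 := by
    intro h
    rcases smul_eq_zero.1 h with h1 | h1
    · exact hl0 h1
    · exact Pe.ne h1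
  have hyv : ∀ k : F4, ρ y (k • v) = k • v := by
    intro k
    rw [hv, smul_smul]; exact Pe.fixF hy _
  have him1 : ∀ l : F4, l ≠ 0 → im l = 0 → l = 1 := by decide
  by_cases hp : Perp b e v1
  · obtain ⟨l', hl'⟩ := Pe.delta O.A hp hy
    rw [he] at hl'
    set κ := l' * l⁻¹ with hκ
    by_cases h1 : v1 = v
    · have := hyv 1
      rw [one_smul] at this
      rw [h1, this]; exact hl
    · rw [hl', smul_add, smul_smul] at hl2W
      have h2 := im_two O hv1W hl hl2W
      have h3 : im l2 = 0 ∧ im (l2 * κ) = 0 := by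
        rcases z2 (im l2) with h4 | h4 <;> rcases z2 (im (l2 * κ)) with h5 | h5
        · exact ⟨h4, h5⟩
        · rw [h4, h5, zero_smul, zero_add, one_smul] at h2; exact absurd h2 hv0
        · rw [h4, h5, zero_smul, add_zero, one_smul] at h2; exact absurd h2 hv10
        · rw [h4, h5, one_smul, one_smul] at h2; exact absurd (eq_of_add h2) h1
      rw [him1 l2 hl2 h3.1, one_mul] at h3
      rw [hl', smul_reim, h3.2, zero_smul, smul_zero, add_zero]
      exact W.add_mem hv1W (W.smul_mem _ hl)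
  · have hg1 : gf b v v1 = 1 := by
      by_contra hne
      apply hp
      intro k
      rw [he, b_smul O hl hv1W, (z2 _).resolve_right hne, mul_zero]
    set x2 := l2 • ρ y v1 with hx2
    have h1 : ∀ k : F4, im (l2 * k) * gf b v x2 = im k := by
      intro k
      have h2 := O.A.b_inv y (k • v) v1
      rw [hyv, b_smul O hl hv1W, hg1, mul_one] at h2
      rw [← h2, ← b_smul O hl hl2W, mul_smul, O.isU l2 hl2]
    have h2 : im l2 * gf b v x2 = 0 := by
      have := h1 1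
      rwa [mul_one] at this
    have h3 : gf b v x2 = 1 := by
      rcases z2 (gf b v x2) with h4 | h4
      · exfalso
        have := h1 F4.w
        rw [h4, mul_zero] at this
        exact absurd this (by decide)
      · exact h4
    rw [h3, mul_one] at h2
    have h4 := him1 l2 hl2 h2
    rw [hx2, h4, one_smul] at hl2W
    exact hl2W

/-- **THEOREM E2, abstract form** -/
theorem stab {e : V} {De : Submodule (ZMod 2) V} {Xe : Subgroup H} (Pe : Pt ρ b q w e De Xe)
    {y : H} (hy : y ∈ Xe) {v : V} (hv : v ∈ V0 b a c D m) : ρ y v ∈ V0 b a c D m := by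
  set W := V0 b a c D m with hW
  let S : Submodule (ZMod 2) V := W.comap (ρ y : V →ₗ[ZMod 2] V)
  have hS : ∀ v, Good ρ W a v → v ∈ S := fun v hv => good_stab O Pe hy hv
  have ha : a ∈ S := hS a good_a
  have h1 : ∀ u ∈ D, Perp b c u → u + Qf ρ a c Y m u • (m • c) ∈ S := by
    intro u hu hp
    have h2 := S.add_mem ha (hS _ (good_add O hu hp))
    rwa [add_assoc, self_add_add] at h2
  have hmc : m • c ∈ S := by
    obtain ⟨u, hu, hp, hu0⟩ := O.exists_U
    obtain ⟨u', hu', hp', hg⟩ := exists_g O hu hp hu0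
    have h2 := S.add_mem (S.add_mem (h1 u hu hp) (h1 u' hu' hp'))
      (h1 _ (D.add_mem hu hu') (perp_add hp hp'))
    have h3 : u + Qf ρ a c Y m u • m • c + (u' + Qf ρ a c Y m u' • m • c) +
        (u + u' + Qf ρ a c Y m (u + u') • m • c) = m • c := by
      rw [Qf_add O hu hp hu' hp', hg, add_smul, add_smul, one_smul]
      have h4 := self_add (u + u' + (Qf ρ a c Y m u • m • c + Qf ρ a c Y m u' • m • c))
      calc _ = u + u' + (Qf ρ a c Y m u • m • c + Qf ρ a c Y m u' • m • c) +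
            (u + u' + (Qf ρ a c Y m u • m • c + Qf ρ a c Y m u' • m • c)) + m • c := by abel
        _ = _ := by rw [h4, zero_add]
    rwa [h3] at h2
  obtain ⟨u, hu, hp, α, γ, rfl⟩ := mem_V0.1 hv
  have h2 : u ∈ S := by
    have h3 := S.add_mem (h1 u hu hp) (S.smul_mem (Qf ρ a c Y m u) hmc)
    rwa [add_self_add] at h3
  exact S.add_mem h2 (S.add_mem (S.smul_mem _ ha) (S.smul_mem _ hmc))

end Cfsg.Agent.Omega.EH3.ETwo.Pure

end

-- merged: Cfsg.Agent.Omega.EH3.ETwo.Main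
section

/-!
# THEOREM E2, final form

* `Om.of_norm` : some `x ∈ X` does not commute with `om` (automatic, `C_V(X) = {0, a}`);
* `main` : `7 ≤ w` ⇒ there is `V₀`, `V = V₀ ⊕ om V₀`, `b = 0` on `V₀`, `a ∈ V₀`, invariant under `⟨C_X(om)^H⟩`;
* `not_four` : `L` normal in `H`, quasisimple, `X ∩ C_H(L) = 1`, `V|L` irreducible, `om` commuting with `L`: impossible;
* `end_two` : ... so `End_L(V) = {0, 1}`.
-/

set_option autoImplicit false
set_option linter.unusedSectionVars false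
set_option linter.style.haveILetI false

namespace Cfsg.Agent.Omega.EH3.ETwo.Main

open Module Subgroup Cfsg.Agent.Omega.EH3.ETwo.Base Cfsg.Agent.Omega.EH3.ETwo.Opp
  Cfsg.Agent.Omega.EH3.ETwo.V0 Cfsg.Agent.Omega.EH3.ETwo.Inst

variable {H V : Type*} [Group H] [AddCommGroup V] [Module (ZMod 2) V]
  {ρ : H →* (V ≃ₗ[ZMod 2] V)} {b : LinearMap.BilinForm (ZMod 2) V} {q : V → ZMod 2}
  {a : V} {D : Submodule (ZMod 2) V} {X : Subgroup H} {w : ℕ} {om : V →ₗ[ZMod 2] V}

/-- the hypothesis `ne` is automatic -/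
theorem om_of (C : Cfg ρ b q a D X w) (hom : ∀ v, om (om v) = om v + v)
    (norm : ∀ h, (∀ v, ρ h (om v) = om (ρ h v)) ∨ (∀ v, ρ h (om v) = om (om (ρ h v))))
    (form : (∀ u v, b (om u) v = b u (om v)) ∨ (∀ u v, b (om u) (om v) = b u v)) : Om ρ b X om := by
  refine ⟨hom, norm, form, ?_⟩
  by_contra hcon
  push Not at hcon
  have h1 : ∀ x ∈ X, ρ x (om a) = om a := by
    intro x hx
    rw [hcon x hx, C.X_a hx]
  have h2 := hom a
  rcases C.fix_X h1 with h | h
  · rw [h, map_zero, zero_add] at h2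
    exact C.a_ne h2.symm
  · rw [h, h, self_add] at h2
    exact C.a_ne h2

/-- **THEOREM E2** -/
theorem main (O : Om ρ b X om) (C : Cfg ρ b q a D X w) (h7 : 7 ≤ w) :
    ∃ V₀ : Submodule (ZMod 2) V, V₀ ≠ ⊥ ∧ V₀ ≠ ⊤ ∧ a ∈ V₀ ∧ (∀ v ∈ V₀, om v ∈ V₀ → v = 0) ∧
      (∀ v, ∃ x ∈ V₀, ∃ y ∈ V₀, v = x + om y) ∧ (∀ x ∈ V₀, ∀ y ∈ V₀, b x y = 0) ∧
      ∀ h, ∀ y ∈ Xo ρ X om, ∀ v ∈ V₀, ρ (h * y * h⁻¹) v ∈ V₀ := by
  letI := modOf om O.hom
  obtain ⟨h, m, hm⟩ := O.exists_op C h7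
  refine ⟨V0 b a (ρ h a) D m, V0_ne_bot hm, V0_ne_top hm, a_mem, fun v hv hv' => inf_w hm hv hv',
    fun v => exists_dec hm v, fun x hx y hy => b_V0 hm hx hy, ?_⟩
  intro g y hy v hv
  exact Pure.stab hm (O.pt_map C h7 g) ⟨y, hy, rfl⟩ hv

/-- the subgroup `⟨C_X(om)^H⟩` leaves `V₀` invariant -/
theorem main' (O : Om ρ b X om) (C : Cfg ρ b q a D X w) (h7 : 7 ≤ w) :
    ∃ V₀ : Submodule (ZMod 2) V, V₀ ≠ ⊥ ∧ V₀ ≠ ⊤ ∧
      ∀ g ∈ normalClosure (Xo ρ X om : Set H), ∀ v ∈ V₀, ρ g v ∈ V₀ := by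
  obtain ⟨V₀, h0, h1, -, -, -, -, h2⟩ := main O C h7
  refine ⟨V₀, h0, h1, ?_⟩
  have := C.finite_H
  let S : Subgroup H :=
    { carrier := {g | ∀ v, ρ g v ∈ V₀ ↔ v ∈ V₀}
      one_mem' := fun v => by rw [C.ρ_one]
      mul_mem' := fun {g k} hg hk v => by rw [C.ρ_mul, hg, hk]
      inv_mem' := fun {g} hg v => by rw [← hg, C.ρ_apply_inv] }
  have h3 : normalClosure (Xo ρ X om : Set H) ≤ S := by
    rw [normalClosure, closure_le]
    intro g hg
    obtain ⟨y, hy, hyg⟩ := Group.mem_conjugatesOfSet_iff.1 hg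
    obtain ⟨k, hk⟩ := isConj_iff.1 hyg
    have h4 : ∀ v ∈ V₀, ρ g v ∈ V₀ := by
      intro v hv
      rw [← hk]; exact h2 k y hy v hv
    intro v
    refine ⟨fun hv => ?_, h4 v⟩
    have h5 := h4 _ hv
    rw [← C.ρ_mul] at h5
    have h6 : g * g = 1 := by
      rw [← hk]
      have := C.X_sq y hy.1
      calc k * y * k⁻¹ * (k * y * k⁻¹) = k * (y * y) * k⁻¹ := by group
        _ = 1 := by rw [this]; group
    rwa [h6, C.ρ_one] at h5
  intro g hg v hv
  exact (h3 hg v).2 hv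

/-- `C_X(om) ≠ 1` -/
theorem Xo_ne (O : Om ρ b X om) (C : Cfg ρ b q a D X w) (h7 : 7 ≤ w) : ∃ y ∈ Xo ρ X om, y ≠ 1 := by
  letI := modOf om O.hom
  have P := O.pt C
  have := C.finite_V
  obtain ⟨d, hd, hd'⟩ : ∃ d ∈ D, ∀ l : F4, d ≠ l • a := by
    by_contra hcon
    push Not at hcon
    have h1 := Submodule.finrank_mono (show D ≤ line a from fun d hd => mem_line.2 (hcon d hd))
    have h2 := finrank_line_le a
    have h3 := P.dim
    omega
  obtain ⟨y, hy, h⟩ := P.exists_move hd hd'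
  refine ⟨y, hy, ?_⟩
  rintro rfl
  rw [C.ρ_one] at h
  exact C.a_ne (left_eq_add.1 h)

/-- **the consumer form**: `End_L(V) = F_4` is impossible -/
theorem not_four (C : Cfg ρ b q a D X w) (h7 : 7 ≤ w) {L : Subgroup H} (hL : L.Normal) (hq : IsQuasisimple L)
    (hX : X ⊓ centralizer (L : Set H) = ⊥)
    (hirr : ∀ W : Submodule (ZMod 2) V, (∀ l ∈ L, ∀ v ∈ W, ρ l v ∈ W) → W = ⊥ ∨ W = ⊤)
    (O : Om ρ b X om) : False := by
  obtain ⟨V₀, h0, h1, h2⟩ := main' O C h7
  set M := normalClosure (Xo ρ X om : Set H) with hM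
  have hMn : M.Normal := normalClosure_normal
  -- `L ≤ M`
  have hLM : L ≤ M := by
    by_contra hcon
    have h3 : (M ⊓ L).subgroupOf L ≠ ⊤ := by
      intro h
      apply hcon
      intro l hl
      have h4 : (⟨l, hl⟩ : L) ∈ (M ⊓ L).subgroupOf L := by rw [h]; exact mem_top _
      exact (mem_subgroupOf.1 h4).1
    have h4 : ((M ⊓ L).subgroupOf L).Normal := (inferInstance : (M ⊓ L).Normal).subgroupOf L
    have h5 := Cfsg.Agent.SignalizersComponents.QsBasic.normal_le_center_of_ne_top hq _ h3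
    have h6 : M ⊓ L ≤ centralizer (L : Set H) := by
      intro g hg
      have h20 : (⟨g, hg.2⟩ : L) ∈ (M ⊓ L).subgroupOf L := mem_subgroupOf.2 hg
      have h8 := mem_center_iff.1 (h5 h20)
      rw [mem_centralizer_iff]
      intro l hl
      exact congrArg Subtype.val (h8 ⟨l, hl⟩)
    have h21 : ⁅M, L⁆ ≤ centralizer (L : Set H) := (commutator_le_inf M L).trans h6
    have h8 : ⁅⁅M, L⁆, L⁆ = ⊥ := by
      rw [commutator_eq_bot_iff_le_centralizer]; exact h21
    have h9 : ⁅⁅L, M⁆, L⁆ = ⊥ := by rwa [commutator_comm L M]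
    have h10 : ⁅⁅L, L⁆, M⁆ = ⊥ := commutator_commutator_eq_bot_of_rotate h9 h8
    have h11 : ⁅L, L⁆ = L := by
      have h12 := hq.1.commutator_eq_top
      have h13 := congrArg (Subgroup.map L.subtype) h12
      rw [commutator_def, map_commutator, ← MonoidHom.range_eq_map, range_subtype] at h13
      exact h13
    rw [h11, commutator_comm, commutator_eq_bot_iff_le_centralizer] at h10
    obtain ⟨y, hy, hy1⟩ := Xo_ne O C h7
    have h12 : y ∈ X ⊓ centralizer (L : Set H) := ⟨hy.1, h10 (subset_normalClosure hy)⟩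
    rw [hX] at h12
    exact hy1 (mem_bot.1 h12)
  rcases hirr V₀ (fun l hl v hv => h2 l (hLM hl) v hv) with h | h
  · exact h0 h
  · exact h1 h

/-- **`End_L(V) = F_2`** -/
theorem end_two (C : Cfg ρ b q a D X w) (h7 : 7 ≤ w) {L : Subgroup H} (hL : L.Normal) (hq : IsQuasisimple L)
    (hX : X ⊓ centralizer (L : Set H) = ⊥)
    (hirr : ∀ W : Submodule (ZMod 2) V, (∀ l ∈ L, ∀ v ∈ W, ρ l v ∈ W) → W = ⊥ ∨ W = ⊤) :
    ∀ f : V →ₗ[ZMod 2] V, (∀ l ∈ L, ∀ v, f (ρ l v) = ρ l (f v)) → f = 0 ∨ f = LinearMap.id := by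
  rcases Irr.Shape.shape C hL hirr with h | ⟨ζ, h1, -, -, h2, h3⟩
  · exact h
  · exfalso
    refine not_four C h7 hL hq hX hirr (om := ζ) (om_of C h1 (fun h => ?_) ?_)
    · rcases h2 h with h4 | h4
      · exact Or.inl h4
      · right
        intro v
        rw [h4, h1]
    · rcases h3 with h4 | h4
      · exact Or.inl h4
      · right
        intro u v
        rw [h4, h1, map_add, add_assoc, add_comm (b u v), ← add_assoc, CharTwo.add_self_eq_zero, zero_add]

end Cfsg.Agent.Omega.EH3.ETwo.Main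

end

-- merged: Cfsg.Agent.Mrg.Omega.EH3.Kf.Main
section

section


/-!
# EH3, Lie rows: from the configuration to the output `Four` (helper227)

`L` normal quasisimple in `H`, `X ∩ C_H(L) = 1`:

* `Fam K` : `RowEH3 K ∨ KfRowU K` (the simple group `K` is dead for EH3 or has a row in the sense of KF);
* `four_of_kfRow` : if `V|L` is irreducible with `End_L(V) = F₂`, then `KfRowU L` gives `Four ρ a X`;
* `End6 P` : for `w = 6` and `P (L/Z(L))` the shape `End_L(V) = F₄` does not occur;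
* `four` : THEOREM IRR (`Irr.irr`) + `Irr.Shape.shape` + THEOREM E2 (`ETwo.Main.end_two`) + `RowOf.rowOf'` + the row.
-/

set_option autoImplicit false

namespace Cfsg.Agent.Omega.EH3.Kf.Main

open Subgroup Cfsg.Agent.ChevalleyStructure.CoxeterGeom Cfsg.Agent.Tits.Roots Cfsg.Agent.Tits.Core
  Cfsg.Agent.Nodes.RGDLib Cfsg.Agent.Nodes.BNOf
  Cfsg.Agent.Omega.EH3.Kf.Base Cfsg.Agent.Omega.EH3.Kf.Goal Cfsg.Agent.Omega.EH3.Kf.FamRow
  Cfsg.Agent.Omega.EH3.Kf.FamRowU

universe u v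

/-- the simple group `K` is dead for EH3 or has a row in the sense of KF -/
def Fam (K : Type v) [Group K] : Prop := RowEH3.{u} K ∨ KfRowU.{u} K

theorem Fam.of_row {K : Type v} [Group K] (h : RowEH3.{u} K) : Fam.{u} K := Or.inl h

theorem Fam.of_kfRow {K : Type v} [Group K] (h : KfRow.{u} K) : Fam.{u} K := Or.inr h.toU

theorem Fam.of_equiv {K : Type v} {K' : Type u} [Group K] [Group K'] (h : Fam.{u} K) (e : K ≃* K') : Fam.{u} K' :=
  h.imp (fun h => h.equiv e.symm) (fun h => h.of_equiv e)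

section cfg

variable {H V : Type u} [Group H] [AddCommGroup V] [Module (ZMod 2) V]
  {ρ : H →* (V ≃ₗ[ZMod 2] V)} {b : LinearMap.BilinForm (ZMod 2) V} {q : V → ZMod 2}
  {a : V} {D : Submodule (ZMod 2) V} {P : Subgroup H} {w : ℕ} {L : Subgroup H}

theorem center_eq_bot (hC : centralizer (L : Set H) = ⊥) : center L = ⊥ := by
  rw [eq_bot_iff]
  intro z hz
  rw [mem_bot]
  apply Subtype.ext
  have h1 : (z : H) ∈ centralizer (L : Set H) := by
    rw [mem_centralizer_iff]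
    intro l hl
    exact congrArg Subtype.val (mem_center_iff.1 hz ⟨l, hl⟩)
  rw [hC, mem_bot] at h1
  exact h1

/-- **The irreducible shape with `End = F₂`.** -/
theorem four_of_kfRow (C : Cfg ρ b q a D P w) (hL : L.Normal)
    (hirr : ∀ W : Submodule (ZMod 2) V, (∀ l ∈ L, ∀ v ∈ W, ρ l v ∈ W) → W = ⊥ ∨ W = ⊤)
    (hEnd : ∀ f : V →ₗ[ZMod 2] V, (∀ g ∈ L, ∀ v, f (ρ g v) = ρ g (f v)) → f = 0 ∨ f = LinearMap.id)
    (hK : KfRowU.{u} L) : Four ρ a P := by
  obtain ⟨l, M, A, h, T, n, X, B, hR⟩ := hK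
  have := B.fin
  have hfH := C.finite_H
  obtain ⟨g, hP, -, R⟩ := RowOf.rowOf' C B.rgd B.gen B.ab B.nd B.one hirr hEnd
  obtain ⟨q', i, G, E⟩ := hR.map (MulAut.conj g) V _ b a D _ w R
  refine four_of_end hL R ?_ (B.map (MulAut.conj g)).gen (RowOf.cent_eq_bot C hEnd) G E
  rw [subgroupOf_map_subtype]
  refine (inf_eq_left.2 fun x hx => ?_).symm
  obtain ⟨z, -, rfl⟩ := hP x hx
  exact z.2

end cfg

/-- **The shape `End_L(V) = F₄` does not occur for `w = 6`, `P (L/Z(L))`** (helper415). -/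
def End6 (Pr : ∀ (K : Type u) [Group K], Prop) : Prop :=
  ∀ (H V : Type u) [Group H] [AddCommGroup V] [Module (ZMod 2) V] (ρ : H →* (V ≃ₗ[ZMod 2] V))
    (b : LinearMap.BilinForm (ZMod 2) V) (q : V → ZMod 2) (a : V) (D : Submodule (ZMod 2) V) (P : Subgroup H)
    (L : Subgroup H), Cfg ρ b q a D P 6 → L.Normal → IsQuasisimple L → Odd (Nat.card (center L)) →
    P ⊓ centralizer (L : Set H) = ⊥ → Pr (L ⧸ center L) →
    (∀ W : Submodule (ZMod 2) V, (∀ l ∈ L, ∀ v ∈ W, ρ l v ∈ W) → W = ⊥ ∨ W = ⊤) →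
    ∀ f : V →ₗ[ZMod 2] V, (∀ l ∈ L, ∀ v, f (ρ l v) = ρ l (f v)) → f = 0 ∨ f = LinearMap.id

section main

variable {H V : Type u} [Group H] [AddCommGroup V] [Module (ZMod 2) V]
  {ρ : H →* (V ≃ₗ[ZMod 2] V)} {b : LinearMap.BilinForm (ZMod 2) V} {q : V → ZMod 2}
  {a : V} {D : Submodule (ZMod 2) V} {P : Subgroup H} {w : ℕ} {L : Subgroup H}

theorem commutator_eq {L : Subgroup H} (h : commutator L = ⊤) : ⁅L, L⁆ = L := by
  have h1 := congrArg (Subgroup.map L.subtype) h
  rw [_root_.commutator_def, map_commutator, ← MonoidHom.range_eq_map, range_subtype] at h1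
  exact h1

/-- **KF.** -/
theorem four {Pr : ∀ (K : Type u) [Group K], Prop} (e6 : End6 Pr) (hfam : ∀ (K : Type u) [Group K], Pr K → Fam.{u} K)
    (C : Cfg ρ b q a D P w) (hL : L.Normal) (hq : IsQuasisimple L) (ho : Odd (Nat.card (center L)))
    (hX : P ⊓ centralizer (L : Set H) = ⊥) (hK : Pr (L ⧸ center L)) : Four ρ a P := by
  have hperf : commutator L = ⊤ := hq.1.commutator_eq_top
  rcases hfam _ hK with hF | hF
  · exfalso
    refine hF _ _ ρ b q a D P w L (QuotientGroup.mk' (center L)) hL ⟨hperf, QuotientGroup.mk'_surjective _, ?_, ?_⟩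
      hX C
    · rw [QuotientGroup.ker_mk']
    · rw [QuotientGroup.ker_mk']
      exact ho
  · have hne : L ≠ ⊥ := by
      rintro rfl
      have := hq.2
      obtain ⟨x, y, hxy⟩ := this.exists_pair_ne
      exact hxy (Subsingleton.elim x y)
    have hirr := Irr.irr C hL (commutator_eq hperf) hne hX
    have hEnd : ∀ f : V →ₗ[ZMod 2] V, (∀ l ∈ L, ∀ v, f (ρ l v) = ρ l (f v)) → f = 0 ∨ f = LinearMap.id := by
      rcases Nat.lt_or_ge w 7 with h7 | h7
      · obtain rfl : w = 6 := by have := C.six; omega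
        exact e6 H V ρ b q a D P L C hL hq ho hX hK hirr
      · exact ETwo.Main.end_two C h7 hL hq hX hirr
    have hZ := center_eq_bot (RowOf.cent_eq_bot C hEnd)
    refine four_of_kfRow C hL hirr hEnd (hF.of_equiv ?_)
    refine (MulEquiv.ofBijective (QuotientGroup.mk' (center L)) ⟨?_, QuotientGroup.mk'_surjective _⟩).symm
    rw [← MonoidHom.ker_eq_bot_iff, QuotientGroup.ker_mk', hZ]

end main

end Cfsg.Agent.Omega.EH3.Kf.Main

end

section


/-!
# EH3, Lie rows: the table of the families of characteristic 2 (helper227)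

`Rows` : one field per family; `Rows.fam : IsLieTypeChar 2 K → Fam K`; `four_lie`.
-/

set_option autoImplicit false

namespace Cfsg.Agent.Omega.EH3.Kf.Table

open Cfsg Subgroup Cfsg.Agent.Omega.EH3.Kf.FamRow Cfsg.Agent.Omega.EH3.Kf.FamRowU Cfsg.Agent.Omega.EH3.Kf.Main
  Cfsg.Agent.Omega.EH3.Kf.Goal

universe u

/-- The rows of the families of characteristic 2. -/
structure Rows : Prop where
  /-- `PSL_n(q)`, `n ≥ 3` -/
  psl : ∀ (F : Type) [Field F] [Fintype F] [CharP F 2] (n : ℕ), 3 ≤ n →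
    Fam.{u} (Matrix.ProjectiveSpecialLinearGroup (Fin n) F)
  /-- `PSL_2(q)` -/
  psl2 : ∀ (F : Type) [Field F] [Fintype F] [CharP F 2], 4 ≤ Fintype.card F →
    Fam.{u} (Matrix.ProjectiveSpecialLinearGroup (Fin 2) F)
  psp : ∀ (F : Type) [Field F] [Fintype F] [CharP F 2] (m : ℕ), 2 ≤ m → (m = 2 → 3 ≤ Fintype.card F) →
    Fam.{u} (PSp m F)
  /-- `PSU_{2m}(q)` -/
  psuEven : ∀ (F : Type) [Field F] [Fintype F] [CharP F 2] (m q : ℕ), Fintype.card F = q ^ 2 → 2 ≤ m →
    Fam.{u} (PSU (2 * m) F q)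
  /-- `PSU_{2m+1}(q)`, `m ≥ 2` -/
  psuOdd : ∀ (F : Type) [Field F] [Fintype F] [CharP F 2] (m q : ℕ), Fintype.card F = q ^ 2 → 2 ≤ m →
    Fam.{u} (PSU (2 * m + 1) F q)
  /-- `PSU_3(q)` -/
  psu3 : ∀ (F : Type) [Field F] [Fintype F] [CharP F 2] (q : ℕ), Fintype.card F = q ^ 2 → q ≠ 2 →
    Fam.{u} (PSU 3 F q)
  omp : ∀ (F : Type) [Field F] [Fintype F] [CharP F 2] (m : ℕ), 4 ≤ m → Fam.{u} (POmega F (quadFormPlus m F))
  omm : ∀ (F : Type) [Field F] [Fintype F] [CharP F 2] (m : ℕ) (a b : F), 4 ≤ m →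
    (∀ z₁ z₂ : F, z₁ ^ 2 + a * z₁ * z₂ + b * z₂ ^ 2 = 0 → z₁ = 0 ∧ z₂ = 0) →
    Fam.{u} (POmega F (quadFormMinus (m - 1) F a b))
  g2 : ∀ (F : Type) [Field F] [Fintype F] [CharP F 2], 3 ≤ Fintype.card F → Fam.{u} (Lie.chevG2.group F)
  f4 : ∀ (F : Type) [Field F] [Fintype F] [CharP F 2], Fam.{u} (Lie.chevF4.group F)
  e6 : ∀ (F : Type) [Field F] [Fintype F] [CharP F 2], Fam.{u} (Lie.chevE6.group F)
  e7 : ∀ (F : Type) [Field F] [Fintype F] [CharP F 2], Fam.{u} (Lie.chevE7.group F)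
  e8 : ∀ (F : Type) [Field F] [Fintype F] [CharP F 2], Fam.{u} (Lie.chevE8.group F)
  /-- `²E₆(q)` -/
  twE6 : ∀ (F : Type) [Field F] [Fintype F] [CharP F 2] (q : ℕ), IsPrimePow q → Fintype.card F = q ^ 2 →
    Fam.{u} (Lie.twistedE6 F q)
  /-- `³D₄(q)` -/
  twD4 : ∀ (F : Type) [Field F] [Fintype F] [CharP F 2] (q : ℕ), IsPrimePow q → Fintype.card F = q ^ 3 →
    Fam.{u} (Lie.twistedD4 F q)
  sz : ∀ (K : Type u) [Group K], Lie.IsoSuzuki K → Fam.{u} K
  ree : ∀ (K : Type u) [Group K], Lie.Iso2F4 K → Fam.{u} K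

/-- **The table.** -/
theorem Rows.fam (R : Rows.{u}) (K : Type u) [Group K] (hK : IsLieTypeChar 2 K) : Fam.{u} K := by
  rcases hK with h | h | h | h | h | h | h | h | h | h | h
  · obtain ⟨F, _, _, _, n, hn, h2, ⟨e⟩⟩ := h
    rcases Nat.lt_or_ge n 3 with h3 | h3
    · obtain rfl : n = 2 := by omega
      exact (R.psl2 F (h2 rfl)).of_equiv e.symm
    · exact (R.psl F n h3).of_equiv e.symm
  · obtain ⟨F, _, _, _, m, hm, h2, ⟨e⟩⟩ := h
    exact (R.psp F m hm h2).of_equiv e.symm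
  · obtain ⟨F, _, _, _, n, q, hq, hn, h2, ⟨e⟩⟩ := h
    rcases Nat.lt_or_ge n 4 with h3 | h3
    · obtain rfl : n = 3 := by omega
      exact (R.psu3 F q hq fun h => h2 ⟨rfl, h⟩).of_equiv e.symm
    · rcases Nat.even_or_odd' n with ⟨m, rfl | rfl⟩
      · exact (R.psuEven F m q hq (by omega)).of_equiv e.symm
      · exact (R.psuOdd F m q hq (by omega)).of_equiv e.symm
  · obtain ⟨F, _, _, _, m, -, ho, -⟩ := h
    exfalso
    have h1 : 2 ∣ Fintype.card F := by
      obtain ⟨n, -, hn⟩ := FiniteField.card F 2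
      rw [hn]
      exact dvd_pow_self 2 n.2.ne'
    exact (Nat.not_even_iff_odd.2 ho) (even_iff_two_dvd.2 h1)
  · obtain ⟨F, _, _, _, m, hm, ⟨e⟩⟩ := h
    exact (R.omp F m hm).of_equiv e.symm
  · obtain ⟨F, _, _, _, m, a, b, hm, hab, ⟨e⟩⟩ := h
    exact (R.omm F m a b hm hab).of_equiv e.symm
  · obtain ⟨F, _, _, _, h⟩ := h
    rcases h with ⟨h3, ⟨e⟩⟩ | ⟨⟨e⟩⟩ | ⟨⟨e⟩⟩ | ⟨⟨e⟩⟩ | ⟨⟨e⟩⟩
    · exact (R.g2 F h3).of_equiv e.symm
    · exact (R.f4 F).of_equiv e.symm
    · exact (R.e6 F).of_equiv e.symm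
    · exact (R.e7 F).of_equiv e.symm
    · exact (R.e8 F).of_equiv e.symm
  · obtain ⟨F, _, _, _, q, hq, h⟩ := h
    rcases h with ⟨h3, ⟨e⟩⟩ | ⟨h3, ⟨e⟩⟩
    · exact (R.twE6 F q hq h3).of_equiv e.symm
    · exact (R.twD4 F q hq h3).of_equiv e.symm
  · exact R.sz K h.2
  · exact R.ree K h.2
  · exact absurd h.1 (by norm_num)

/-- **KF for the groups of Lie type of characteristic 2.** -/
theorem four_lie (R : Rows.{u}) (e6 : End6.{u} (fun K _ => IsLieTypeChar 2 K)) {H V : Type u} [Group H]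
    [AddCommGroup V] [Module (ZMod 2) V] {ρ : H →* (V ≃ₗ[ZMod 2] V)} {b : LinearMap.BilinForm (ZMod 2) V}
    {q : V → ZMod 2} {a : V} {D : Submodule (ZMod 2) V} {P : Subgroup H} {w : ℕ} {L : Subgroup H}
    (C : Cfg ρ b q a D P w) (hL : L.Normal) (hq : IsQuasisimple L) (ho : Odd (Nat.card (center L)))
    (hX : P ⊓ centralizer (L : Set H) = ⊥) (hK : IsLieTypeChar 2 (L ⧸ center L)) : Four ρ a P :=
  four e6 (fun K _ h => R.fam K h) C hL hq ho hX hK

end Cfsg.Agent.Omega.EH3.Kf.Table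

end

end
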