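import Mathlib
import Cfsg.Agent.Mrg.KFacts.RgdPerf
import Cfsg.Agent.KFacts.SLRow.Psl
import Cfsg.Agent.KFacts.SLRow.OmegaPlus
import Cfsg.Agent.Mrg.Omega.EH3.Kf.Base
import Cfsg.Agent.KFacts.SLRow.Row
import Cfsg.Agent.Mrg.Omega.EH3.Kf.Main

-- merged: Cfsg.Agent.Mrg.Omega.EH3.Kf.SLEnd
section

section


/-!
# EH3, Lie rows in characteristic 2: the simply laced types (helper134)

Glue of `Orth.nodeOK`, the lists of helper827 and `Tri.not_kills`. `R : Row cs h T n X ρ b a D X0 w`, all `|X x| = 2 ^ m`.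

* `core` : `∃ i, Mv ρ n a = {i}`, `X0 = V_{i}ᶜ`, `NodeOK cs h i m`, `1 ≤ m`, not all triples are killed;
* `end_A` : type `A_l` ==> `l = 5`, `i = 2`, `m = 1`;
* `end_D` : type `D_{l+2}` (`2 ≤ l`) ==> `l = 4`, `i = 4` or `5`, `m = 1`;
* `end_E6`, `end_E8` : impossible; `end_E7` ==> `i = 6`, `m = 1`;
* `fix_other` : `n j` fixes `a` for `j ≠ i`.
-/

set_option autoImplicit false
set_option linter.unusedSectionVars false

namespace Cfsg.Agent.Omega.EH3.Kf.SLEnd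

open CoxeterSystem CoxeterMatrix Cfsg.Agent.ChevalleyStructure.CoxeterGeom Cfsg.Agent.Tits.Roots Cfsg.Agent.Tits.Core
  Cfsg.Agent.Tits.RootComb Cfsg.Agent.Tits.Exchange Cfsg.Agent.Nodes.Reps Cfsg.Agent.Nodes.BNOf
  Cfsg.Agent.Nodes.StabComb Cfsg.Agent.Nodes.Bruhat Cfsg.Agent.Nodes.OppDec Cfsg.Agent.Nodes.LeviDec
  Cfsg.Agent.KFacts.RgdSL Cfsg.Agent.KFacts.RgdPerf
  Cfsg.Agent.Omega.EH3.Kf.Base Cfsg.Agent.Omega.EH3.Kf.Node
open Cfsg.Agent.LieRecognition.BNCox (cA cA_apply)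

variable {Y V : Type*} [Group Y] [AddCommGroup V] [Module (ZMod 2) V] {T : Subgroup Y}
  {ρ : Y →* (V ≃ₗ[ZMod 2] V)} {b : LinearMap.BilinForm (ZMod 2) V} {a : V} {D : Submodule (ZMod 2) V}
  {X0 : Subgroup Y} {w : ℕ} {m : ℕ}

section General

variable {I W : Type*} [Fintype I] [DecidableEq I] [Group W] {M : CoxeterMatrix I} {cs : CoxeterSystem M W}
  {A : I → I → ℤ} {h : IsCartan M A} {n : I → Y} {X : (I → ℤ) → Subgroup Y}

/-- the root system is simply laced -/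
theorem sl_of [Finite W] (h4 : ∀ i j, M i j ≠ 4) (h6 : ∀ i j, M i j ≠ 6) : SL cs h :=
  fun _ _ hx hy => Cfsg.Agent.Nodes.SimplyLaced.cpr_symm cs h h4 h6 hx hy

/-- the two forms of connectedness -/
theorem conn_iff (hc : Cfsg.Agent.KFacts.SLRow.Def.Conn M) :
    ∀ J : Set I, J.Nonempty → J ≠ Set.univ → ∃ a ∈ J, ∃ b, b ∉ J ∧ M a b ≠ 2 := by
  intro J hJ hJ1
  obtain ⟨i, hi, j, hj, hij⟩ := hc J hJ (Set.nonempty_compl.2 hJ1)
  exact ⟨i, hi, j, hj, hij⟩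

theorem mem_NotJ_iff {i : I} (hle : ∀ x, IsRoot cs h x → x i ≤ 1) {x : I → ℤ} :
    x ∈ NotJ cs h ({i}ᶜ : Set I) ↔ IsRoot cs h x ∧ x i = 1 := by
  constructor
  · rintro ⟨hx, h0, k, hk, hk0⟩
    have hki : k = i := not_not.1 hk
    subst hki
    have := hle x hx
    exact ⟨hx, by omega⟩
  · rintro ⟨hx, hx1⟩
    exact ⟨hx, nonneg_of_pos_apply hx (k := i) (by omega), i, not_not.2 rfl, by omega⟩

/-- **Simply laced rows: (C), (D), (E), (F), (G).** -/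
theorem core [Finite W] [Finite Y] (R : Row cs h T n X ρ b a D X0 w) (h4 : ∀ i j, M i j ≠ 4) (h6 : ∀ i j, M i j ≠ 6)
    (hc : Cfsg.Agent.KFacts.SLRow.Def.Conn M) (hm : ∀ x, IsRoot cs h x → Nat.card (X x) = 2 ^ m) :
    ∃ i, Mv ρ n a = {i} ∧ X0 = VJ cs h X {i}ᶜ ∧ NodeOK cs h i m ∧ 1 ≤ m ∧ (m = 1 → ¬ Kills cs h i) := by
  have hs : SL cs h := sl_of h4 h6
  obtain ⟨i, hK, hX0, N⟩ := Orth.nodeOK R hs (conn_iff hc) hm
  refine ⟨i, hK, hX0, N, ?_, ?_⟩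
  · by_contra hcon
    have hm0 : m = 0 := by omega
    have h1 := hm _ (isRoot_sr cs h i)
    rw [hm0, pow_zero, Subgroup.card_eq_one] at h1
    exact X_ne_bot R.rgd (isRoot_sr cs h i) h1
  · intro hm1
    subst hm1
    refine Tri.not_kills R hs (fun x hx => by rw [hm x hx, pow_one]) ?_ ?_
    · rw [hX0]
      unfold VJ
      congr 1
      ext x
      exact mem_NotJ_iff N.le_one
    · intro x hx hx0 g hg
      refine Opp.PJ_fix R ?_
      rw [hK]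
      refine LJ_le_PJ (X_le_LJ ⟨hx, fun k hk => ?_⟩ hg)
      have hki : k = i := not_not.1 hk
      rw [hki, hx0]

/-- the other nodes fix `a` -/
theorem fix_other {i j : I} (hK : Mv ρ n a = {i}) (hj : j ≠ i) : ρ (n j) a = a := by
  by_contra hcon
  have : j ∈ Mv ρ n a := hcon
  rw [hK] at this
  exact hj this

end General

/-- **Type `A_l`.** -/
theorem end_A {l : ℕ} {W : Type*} [Group W] [Finite W] [Finite Y] {cs : CoxeterSystem (cA l) W}
    {A : Fin l → Fin l → ℤ} {h : IsCartan (cA l) A} {n : Fin l → Y} {X : (Fin l → ℤ) → Subgroup Y}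
    (R : Row cs h T n X ρ b a D X0 w) (hm : ∀ x, IsRoot cs h x → Nat.card (X x) = 2 ^ m) :
    l = 5 ∧ m = 1 ∧ ∃ i : Fin l, i.val = 2 ∧ Mv ρ n a = {i} ∧ X0 = VJ cs h X {i}ᶜ := by
  obtain ⟨i, hK, hX0, N, hm1, hG⟩ := core R (fun i j => (KFacts.SLRow.Psl.cA_ne i j).1)
    (fun i j => (KFacts.SLRow.Psl.cA_ne i j).2) KFacts.SLRow.Psl.conn_cA hm
  rcases ListA.list_A hm1 N hG with ⟨hl, hm3⟩ | ⟨hl, hi, hm'⟩
  · exfalso
    subst hl
    have hi0 : i = 0 := Subsingleton.elim _ _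
    subst hi0
    have h1 : VJ cs h X ({0}ᶜ : Set (Fin 1)) = X (sr 0) := by
      apply le_antisymm
      · refine RGD.Sup_le fun x hx => ?_
        obtain ⟨hxr, hx1⟩ := (mem_NotJ_iff N.le_one).1 hx
        have : x = sr 0 := by
          funext k
          have hk : k = 0 := Subsingleton.elim _ _
          rw [hk, hx1, sr_self]
        rw [this]
      · exact RGD.le_Sup ((mem_NotJ_iff N.le_one).2 ⟨isRoot_sr cs h 0, sr_self 0⟩)
    have h2 := R.card_X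
    rw [hX0, h1, hm _ (isRoot_sr cs h 0)] at h2
    have h3 := R.six
    have h4 : m = w - 1 := Nat.pow_right_injective le_rfl h2
    omega
  · exact ⟨hl, hm', i, hi, hK, hX0⟩

/-- **Type `D_{l+2}`.** -/
theorem end_D {l : ℕ} (hl : 2 ≤ l) {W : Type*} [Group W] [Finite W] [Finite Y]
    {cs : CoxeterSystem (Cfsg.Agent.Nodes.TypeD.M l) W}
    {A : Fin (l + 2) → Fin (l + 2) → ℤ} {h : IsCartan (Cfsg.Agent.Nodes.TypeD.M l) A} {n : Fin (l + 2) → Y}
    {X : (Fin (l + 2) → ℤ) → Subgroup Y}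
    (R : Row cs h T n X ρ b a D X0 w) (hm : ∀ x, IsRoot cs h x → Nat.card (X x) = 2 ^ m) :
    l = 4 ∧ m = 1 ∧ ∃ i : Fin (l + 2), (i.val = 4 ∨ i.val = 5) ∧ Mv ρ n a = {i} ∧ X0 = VJ cs h X {i}ᶜ := by
  obtain ⟨i, hK, hX0, N, hm1, hG⟩ := core R (fun i j => (ListD.M_ne i j).1)
    (fun i j => (ListD.M_ne i j).2) (KFacts.SLRow.OmegaPlus.conn_M l (by omega)) hm
  obtain ⟨h1, h2, h3⟩ := ListD.list_D hl hm1 N hG
  exact ⟨h1, h3, i, h2, hK, hX0⟩

open KFacts.SLRow.Def in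
theorem conn_E6 : Conn E₆ :=
  conn_of_parent ![2, 1, 1, 0, 1, 2] ![2, 3, 3, 3, 3, 4] (by decide) (by decide) (by decide)

open KFacts.SLRow.Def in
theorem conn_E7 : Conn E₇ :=
  conn_of_parent ![2, 1, 1, 0, 1, 2, 3] ![2, 3, 3, 3, 3, 4, 5] (by decide) (by decide) (by decide)

open KFacts.SLRow.Def in
theorem conn_E8 : Conn E₈ :=
  conn_of_parent ![2, 1, 1, 0, 1, 2, 3, 4] ![2, 3, 3, 3, 3, 4, 5, 6] (by decide) (by decide) (by decide)

/-- **Type `E_6`.** -/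
theorem end_E6 {W : Type*} [Group W] [Finite W] [Finite Y] {cs : CoxeterSystem E₆ W}
    {A : Fin 6 → Fin 6 → ℤ} {h : IsCartan E₆ A} {n : Fin 6 → Y} {X : (Fin 6 → ℤ) → Subgroup Y}
    (R : Row cs h T n X ρ b a D X0 w) (hm : ∀ x, IsRoot cs h x → Nat.card (X x) = 2 ^ m) : False := by
  obtain ⟨i, -, -, N, -, -⟩ := core R (fun i j => (ListE.ne6 i j).1) (fun i j => (ListE.ne6 i j).2) conn_E6 hm
  exact ListE.list_E6 N

/-- **Type `E_7`.** -/
theorem end_E7 {W : Type*} [Group W] [Finite W] [Finite Y] {cs : CoxeterSystem E₇ W}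
    {A : Fin 7 → Fin 7 → ℤ} {h : IsCartan E₇ A} {n : Fin 7 → Y} {X : (Fin 7 → ℤ) → Subgroup Y}
    (R : Row cs h T n X ρ b a D X0 w) (hm : ∀ x, IsRoot cs h x → Nat.card (X x) = 2 ^ m) :
    m = 1 ∧ Mv ρ n a = {6} ∧ X0 = VJ cs h X {6}ᶜ := by
  obtain ⟨i, hK, hX0, N, hm1, -⟩ := core R (fun i j => (ListE.ne7 i j).1) (fun i j => (ListE.ne7 i j).2) conn_E7 hm
  obtain ⟨rfl, h2⟩ := ListE.list_E7 hm1 N
  exact ⟨h2, hK, hX0⟩

/-- **Type `E_8`.** -/
theorem end_E8 {W : Type*} [Group W] [Finite W] [Finite Y] {cs : CoxeterSystem E₈ W}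
    {A : Fin 8 → Fin 8 → ℤ} {h : IsCartan E₈ A} {n : Fin 8 → Y} {X : (Fin 8 → ℤ) → Subgroup Y}
    (R : Row cs h T n X ρ b a D X0 w) (hm : ∀ x, IsRoot cs h x → Nat.card (X x) = 2 ^ m) : False := by
  obtain ⟨i, -, -, N, -, -⟩ := core R (fun i j => (ListE.ne8 i j).1) (fun i j => (ListE.ne8 i j).2) conn_E8 hm
  exact ListE.list_E8 N

end Cfsg.Agent.Omega.EH3.Kf.SLEnd

end

section


/-!
# EH3, Lie rows: the simply laced rows in the form of `Goal` (helper227)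

From `SLEnd` (helper134): a `Row` of type `A_l`, `D_l`, `E_7` with `|X_x| = 2^m` gives `Good M q i ∧ EndAt ..`.
-/

set_option autoImplicit false

namespace Cfsg.Agent.Omega.EH3.Kf.SLRow

open CoxeterSystem Cfsg.Agent.ChevalleyStructure.CoxeterGeom Cfsg.Agent.Tits.Roots Cfsg.Agent.Tits.Core
  Cfsg.Agent.Tits.RootComb Cfsg.Agent.Nodes.Comb Cfsg.Agent.Nodes.Reps Cfsg.Agent.Nodes.BNOf
  Cfsg.Agent.Nodes.StabComb Cfsg.Agent.Nodes.Bruhat Cfsg.Agent.Nodes.LeviDec Cfsg.Agent.Nodes.RGDLib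
  Cfsg.Agent.Omega.EH3.Kf.Base Cfsg.Agent.Omega.EH3.Kf.Out Cfsg.Agent.Omega.EH3.Kf.Odd
  Cfsg.Agent.Omega.EH3.Kf.Sym Cfsg.Agent.Omega.EH3.Kf.Goal Cfsg.Agent.Omega.EH3.Kf.SLEnd
open Cfsg.Agent.LieRecognition.BNCox (cA)

variable {I W Y V : Type*} [Fintype I] [DecidableEq I] [Group W] [Group Y] [AddCommGroup V]
    [Module (ZMod 2) V] {b : LinearMap.BilinForm (ZMod 2) V} {T : Subgroup Y}
    {ρ : Y →* (V ≃ₗ[ZMod 2] V)} {a : V} {D : Submodule (ZMod 2) V} {X0 : Subgroup Y} {w m : ℕ}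

/-- the end data from the moved node -/
theorem endAt_of {M : CoxeterMatrix I} {cs : CoxeterSystem M W} {A : I → I → ℤ} {h : IsCartan M A}
    {n : I → Y} {X : (I → ℤ) → Subgroup Y} {i : I} (hK : Mv ρ n a = {i}) (hX : X0 = VJ cs h X {i}ᶜ)
    (hm : ∀ x, IsRoot cs h x → Nat.card (X x) = 2 ^ 1) : EndAt cs h n X ρ a X0 (fun _ => 2) i where
  eq := hX
  fix _ hj := fix_other hK hj
  card j := by rw [hm _ (isRoot_sr cs h j), pow_one]

/-- **Type `A_l`.** -/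
theorem row_A {l : ℕ} {W : Type*} [Group W] [Finite W] [Finite Y] {cs : CoxeterSystem (cA l) W}
    {A : Fin l → Fin l → ℤ} {h : IsCartan (cA l) A} {n : Fin l → Y} {X : (Fin l → ℤ) → Subgroup Y}
    (R : Row cs h T n X ρ b a D X0 w) (hm : ∀ x, IsRoot cs h x → Nat.card (X x) = 2 ^ m) :
    ∃ (q : Fin l → ℕ) (i : Fin l), Good (cA l) q i ∧ EndAt cs h n X ρ a X0 q i := by
  obtain ⟨rfl, rfl, i, hi, hK, hX⟩ := end_A R hm
  obtain rfl : i = 2 := Fin.ext hi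
  exact ⟨_, _, Good.A5, endAt_of hK hX hm⟩

/-- **Type `D_l`.** -/
theorem row_D {l : ℕ} (hl : 2 ≤ l) {W : Type*} [Group W] [Finite W] [Finite Y]
    {cs : CoxeterSystem (Cfsg.Agent.Nodes.TypeD.M l) W}
    {A : Fin (l + 2) → Fin (l + 2) → ℤ} {h : IsCartan (Cfsg.Agent.Nodes.TypeD.M l) A} {n : Fin (l + 2) → Y}
    {X : (Fin (l + 2) → ℤ) → Subgroup Y}
    (R : Row cs h T n X ρ b a D X0 w) (hm : ∀ x, IsRoot cs h x → Nat.card (X x) = 2 ^ m) :
    ∃ (q : Fin (l + 2) → ℕ) (i : Fin (l + 2)),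
      Good (Cfsg.Agent.Nodes.TypeD.M l) q i ∧ EndAt cs h n X ρ a X0 q i := by
  obtain ⟨rfl, rfl, i, hi, hK, hX⟩ := end_D hl R hm
  rcases hi with hi | hi
  · obtain rfl : i = 4 := Fin.ext hi
    exact ⟨_, _, Good.D6, endAt_of hK hX hm⟩
  · obtain rfl : i = 5 := Fin.ext hi
    exact ⟨_, _, Good.D6', endAt_of hK hX hm⟩

/-- **Type `E_6`.** -/
theorem row_E6 {W : Type*} [Group W] [Finite W] [Finite Y] {cs : CoxeterSystem CoxeterMatrix.E₆ W}
    {A : Fin 6 → Fin 6 → ℤ} {h : IsCartan CoxeterMatrix.E₆ A} {n : Fin 6 → Y} {X : (Fin 6 → ℤ) → Subgroup Y}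
    (R : Row cs h T n X ρ b a D X0 w) (hm : ∀ x, IsRoot cs h x → Nat.card (X x) = 2 ^ m) :
    ∃ (q : Fin 6 → ℕ) (i : Fin 6), Good CoxeterMatrix.E₆ q i ∧ EndAt cs h n X ρ a X0 q i :=
  (end_E6 R hm).elim

/-- **Type `E_7`.** -/
theorem row_E7 {W : Type*} [Group W] [Finite W] [Finite Y] {cs : CoxeterSystem CoxeterMatrix.E₇ W}
    {A : Fin 7 → Fin 7 → ℤ} {h : IsCartan CoxeterMatrix.E₇ A} {n : Fin 7 → Y} {X : (Fin 7 → ℤ) → Subgroup Y}
    (R : Row cs h T n X ρ b a D X0 w) (hm : ∀ x, IsRoot cs h x → Nat.card (X x) = 2 ^ m) :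
    ∃ (q : Fin 7 → ℕ) (i : Fin 7), Good CoxeterMatrix.E₇ q i ∧ EndAt cs h n X ρ a X0 q i := by
  obtain ⟨rfl, hK, hX⟩ := end_E7 R hm
  exact ⟨_, _, Good.E7, endAt_of hK hX hm⟩

/-- **Type `E_8`.** -/
theorem row_E8 {W : Type*} [Group W] [Finite W] [Finite Y] {cs : CoxeterSystem CoxeterMatrix.E₈ W}
    {A : Fin 8 → Fin 8 → ℤ} {h : IsCartan CoxeterMatrix.E₈ A} {n : Fin 8 → Y} {X : (Fin 8 → ℤ) → Subgroup Y}
    (R : Row cs h T n X ρ b a D X0 w) (hm : ∀ x, IsRoot cs h x → Nat.card (X x) = 2 ^ m) :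
    ∃ (q : Fin 8 → ℕ) (i : Fin 8), Good CoxeterMatrix.E₈ q i ∧ EndAt cs h n X ρ a X0 q i :=
  (end_E8 R hm).elim

end Cfsg.Agent.Omega.EH3.Kf.SLRow

end

end

-- merged: Cfsg.Agent.Mrg.Omega.EH3.Kf.SLFam
section

/-!
# EH3, Lie rows: the simply laced families (helper227)

`KfRow K` for `PSL_n(q)` (`n ≥ 2`), `PΩ⁺_{2n}(q)` (`n ≥ 4`), `E₆(q)`, `E₇(q)`, `E₈(q)`, `q` even.
-/

set_option autoImplicit false
set_option linter.unusedSectionVars false

namespace Cfsg.Agent.Omega.EH3.Kf.SLFam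

open Cfsg
open CoxeterSystem Cfsg.Agent.ChevalleyStructure.CoxeterGeom Cfsg.Agent.Tits.Roots Cfsg.Agent.Tits.Core
  Cfsg.Agent.Tits.RootComb Cfsg.Agent.Nodes.Comb Cfsg.Agent.Nodes.Reps Cfsg.Agent.Nodes.BNOf
  Cfsg.Agent.Nodes.StabComb Cfsg.Agent.Nodes.Bruhat Cfsg.Agent.Nodes.LeviDec Cfsg.Agent.Nodes.RGDLib
  Cfsg.Agent.Omega.EH3.Kf.Base Cfsg.Agent.Omega.EH3.Kf.Goal Cfsg.Agent.Omega.EH3.Kf.FamRow
  Cfsg.Agent.KFacts.ChevTwo Cfsg.Agent.KFacts.SLRow.Row Cfsg.Agent.KFacts.RgdCent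
open Cfsg.Agent.LieRecognition.BNCox (cA)

universe u v w

section general

variable {K : Type v} [Group K] {F : Type*} [Field F] {l : ℕ} {M : CoxeterMatrix (Fin l)}
  {A : Fin l → Fin l → ℤ} {h : IsCartan M A} {T : Subgroup K} {n : Fin l → K} {X : (Fin l → ℤ) → Subgroup K}
  {e : (Fin l → ℤ) → F → K}

/-- the bundle from coordinates -/
theorem bd_of_sys (hW : Finite M.Group) (R : RGD M.toCoxeterSystem h 2 T n X) (S : Sys R e)
    (hG : RGD.Sup X {x | IsRoot M.toCoxeterSystem h x} = ⊤) (hN : NoCent M.toCoxeterSystem h T X) : Bd M h T n X where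
  fin := hW
  rgd := R
  gen := hG
  ab s hs t ht := by
    obtain ⟨χ, hχ⟩ := S.chi s hs
    obtain ⟨ψ, hψ⟩ := S.chi t ht
    have h1 := hN ((t * s)⁻¹ * (s * t)) (mul_mem (inv_mem (mul_mem ht hs)) (mul_mem hs ht)) (by
      intro b hb v hv
      obtain ⟨u, rfl⟩ := (S.mem_X b hb v).1 hv
      have e1 : (s * t) * e b u * (s * t)⁻¹ = (t * s) * e b u * (t * s)⁻¹ := by
        have l1 : (s * t) * e b u * (s * t)⁻¹ = s * (t * e b u * t⁻¹) * s⁻¹ := by group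
        have l2 : (t * s) * e b u * (t * s)⁻¹ = t * (s * e b u * s⁻¹) * t⁻¹ := by group
        rw [l1, l2, hψ b hb, hχ b hb, hχ b hb, hψ b hb, mul_left_comm]
      have e2 : (t * s)⁻¹ * ((s * t) * e b u * (s * t)⁻¹) * (t * s) = e b u := by rw [e1]; group
      calc (t * s)⁻¹ * (s * t) * e b u = ((t * s)⁻¹ * ((s * t) * e b u * (s * t)⁻¹) * (t * s)) *
            ((t * s)⁻¹ * (s * t)) := by group
        _ = e b u * ((t * s)⁻¹ * (s * t)) := by rw [e2])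
    rw [inv_mul_eq_one] at h1
    exact h1.symm
  el i u hu := by
    have hx := isRoot_sr M.toCoxeterSystem h i
    obtain ⟨t, rfl⟩ := (S.mem_X _ hx u).1 hu
    have h0 : e (sr i) 0 = 1 := by
      have := S.data.add _ hx 0 0
      rw [add_zero] at this
      exact mul_eq_left.1 this.symm
    rw [← S.data.add _ hx, S.data.two, h0]

end general

/-- the row ends of the simply laced types -/
theorem rowEnd_A {K : Type v} [Group K] [Finite K] {l m : ℕ} (hW : Finite (cA l).Group) {A : Fin l → Fin l → ℤ}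
    {h : IsCartan (cA l) A} {T : Subgroup K} {n : Fin l → K} {X : (Fin l → ℤ) → Subgroup K}
    (hm : ∀ x, IsRoot (cA l).toCoxeterSystem h x → Nat.card (X x) = 2 ^ m) : RowEnd.{u} (cA l) h T n X :=
  fun _ _ _ _ _ _ _ _ _ R => SLRow.row_A R hm

theorem rowEnd_D {K : Type v} [Group K] [Finite K] {l m : ℕ} (hl : 2 ≤ l)
    (hW : Finite (Cfsg.Agent.Nodes.TypeD.M l).Group) {A : Fin (l + 2) → Fin (l + 2) → ℤ}
    {h : IsCartan (Cfsg.Agent.Nodes.TypeD.M l) A} {T : Subgroup K} {n : Fin (l + 2) → K}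
    {X : (Fin (l + 2) → ℤ) → Subgroup K}
    (hm : ∀ x, IsRoot (Cfsg.Agent.Nodes.TypeD.M l).toCoxeterSystem h x → Nat.card (X x) = 2 ^ m) :
    RowEnd.{u} (Cfsg.Agent.Nodes.TypeD.M l) h T n X :=
  fun _ _ _ _ _ _ _ _ _ R => SLRow.row_D hl R hm

theorem rowEnd_E6 {K : Type v} [Group K] [Finite K] {m : ℕ} (hW : Finite CoxeterMatrix.E₆.Group)
    {A : Fin 6 → Fin 6 → ℤ} {h : IsCartan CoxeterMatrix.E₆ A} {T : Subgroup K} {n : Fin 6 → K}
    {X : (Fin 6 → ℤ) → Subgroup K}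
    (hm : ∀ x, IsRoot CoxeterMatrix.E₆.toCoxeterSystem h x → Nat.card (X x) = 2 ^ m) :
    RowEnd.{u} CoxeterMatrix.E₆ h T n X :=
  fun _ _ _ _ _ _ _ _ _ R => SLRow.row_E6 R hm

theorem rowEnd_E7 {K : Type v} [Group K] [Finite K] {m : ℕ} (hW : Finite CoxeterMatrix.E₇.Group)
    {A : Fin 7 → Fin 7 → ℤ} {h : IsCartan CoxeterMatrix.E₇ A} {T : Subgroup K} {n : Fin 7 → K}
    {X : (Fin 7 → ℤ) → Subgroup K}
    (hm : ∀ x, IsRoot CoxeterMatrix.E₇.toCoxeterSystem h x → Nat.card (X x) = 2 ^ m) :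
    RowEnd.{u} CoxeterMatrix.E₇ h T n X :=
  fun _ _ _ _ _ _ _ _ _ R => SLRow.row_E7 R hm

theorem rowEnd_E8 {K : Type v} [Group K] [Finite K] {m : ℕ} (hW : Finite CoxeterMatrix.E₈.Group)
    {A : Fin 8 → Fin 8 → ℤ} {h : IsCartan CoxeterMatrix.E₈ A} {T : Subgroup K} {n : Fin 8 → K}
    {X : (Fin 8 → ℤ) → Subgroup K}
    (hm : ∀ x, IsRoot CoxeterMatrix.E₈.toCoxeterSystem h x → Nat.card (X x) = 2 ^ m) :
    RowEnd.{u} CoxeterMatrix.E₈ h T n X :=
  fun _ _ _ _ _ _ _ _ _ R => SLRow.row_E8 R hm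

/-! ### The groups -/

theorem card_two_pow (F : Type) [Field F] [Finite F] [CharP F 2] : ∃ m : ℕ, Nat.card F = 2 ^ m := by
  have : Fintype F := Fintype.ofFinite F
  obtain ⟨n, -, hn⟩ := FiniteField.card F 2
  exact ⟨n, by rw [Nat.card_eq_fintype_card, hn]⟩

theorem isSLC_row {q l : ℕ} {M : CoxeterMatrix (Fin l)} {K : Type v} [Group K] (hK : IsSLC q M K) {m : ℕ}
    (hq : q = 2 ^ m)
    (hend : ∀ {A : Fin l → Fin l → ℤ} {h : IsCartan M A} {T : Subgroup K} {n : Fin l → K}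
      {X : (Fin l → ℤ) → Subgroup K}, Finite M.Group →
      (∀ x, IsRoot M.toCoxeterSystem h x → Nat.card (X x) = 2 ^ m) → RowEnd.{u} M h T n X) : KfRow.{u} K := by
  obtain ⟨A, h, T, n, X, F, _, _, _, e, hW, -, -, D, S⟩ := hK
  exact ⟨l, M, A, h, T, n, X, bd_of_sys hW D.rgd S D.gen D.cent, hend hW fun x hx => by rw [D.card x hx, hq]⟩

theorem kfRow_PSL {n : ℕ} (F : Type) [Field F] [Finite F] [CharP F 2] :
    KfRow.{u} (Matrix.ProjectiveSpecialLinearGroup (Fin (n + 1)) F) := by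
  have : Fact (Nat.Prime 2) := ⟨Nat.prime_two⟩
  have h2 : ∀ t : F, t + t = 0 := CharTwo.add_self_eq_zero
  have hW : Finite (cA n).Group := Cfsg.Agent.Nodes.RootsA.finite_W (cA n).toCoxeterSystem
    (Cfsg.Agent.Nodes.RootsA.isCartan n)
  obtain ⟨m, hm⟩ := card_two_pow F
  have : Finite (Matrix.ProjectiveSpecialLinearGroup (Fin (n + 1)) F) :=
    Finite.of_surjective _ (QuotientGroup.mk'_surjective _)
  refine ⟨_, _, _, Cfsg.Agent.Nodes.RootsA.isCartan n, _, _, _,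
    bd_of_sys hW _ (KFacts.SLRow.SysA.sys_PSL (F := F) (cA n).toCoxeterSystem (Cfsg.Agent.Nodes.RootsA.isCartan n))
      (Cfsg.Agent.Nodes.RGDTypeA.G1_psl_eq_top _ _) (KFacts.SLRow.Psl.noCent h2 _ _),
    rowEnd_A hW (m := m) fun x hx => by rw [← hm]; exact KFacts.SLRow.Psl.card_X h2 _ _ hx⟩

theorem kfRow_OPlus {n : ℕ} (hn : 2 ≤ n) (F : Type) [Field F] [Finite F] [CharP F 2] :
    KfRow.{u} (POmega F (quadFormPlus (n + 2) F)) := by
  obtain ⟨m, hm⟩ := card_two_pow F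
  have : Finite (POmega F (quadFormPlus (n + 2) F)) := inferInstance
  exact isSLC_row (isSLC_OPlus hn F) hm fun hW hm => rowEnd_D hn hW hm

section Chev

open Cfsg.Lie

theorem kfRow_E6 (F : Type) [Field F] [Finite F] [CharP F 2] : KfRow.{u} (chevE6.group F) := by
  obtain ⟨m, hm⟩ := card_two_pow F
  have : Finite (chevE6.group F) := inferInstance
  exact isSLC_row (isSLC_E6 F) hm fun hW hm => rowEnd_E6 hW hm

theorem kfRow_E7 (F : Type) [Field F] [Finite F] [CharP F 2] : KfRow.{u} (chevE7.group F) := by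
  obtain ⟨m, hm⟩ := card_two_pow F
  have : Finite (chevE7.group F) := inferInstance
  exact isSLC_row (isSLC_E7 F) hm fun hW hm => rowEnd_E7 hW hm

theorem kfRow_E8 (F : Type) [Field F] [Finite F] [CharP F 2] : KfRow.{u} (chevE8.group F) := by
  obtain ⟨m, hm⟩ := card_two_pow F
  have : Finite (chevE8.group F) := inferInstance
  exact isSLC_row (isSLC_E8 F) hm fun hW hm => rowEnd_E8 hW hm

end Chev

end Cfsg.Agent.Omega.EH3.Kf.SLFam

end

-- merged: Cfsg.Agent.Mrg.Omega.EH3.Kf.TableSL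
section

section


/-!
# EH3, Lie rows: the fields `psl`, `omp`, `e6`, `e7`, `e8` of `Table.Rows` (helper227)
-/

set_option autoImplicit false

namespace Cfsg.Agent.Omega.EH3.Kf.TableSL

open Cfsg Cfsg.Agent.Omega.EH3.Kf.Main

universe u

theorem psl (F : Type) [Field F] [Fintype F] [CharP F 2] (n : ℕ) (hn : 3 ≤ n) :
    Fam.{u} (Matrix.ProjectiveSpecialLinearGroup (Fin n) F) := by
  obtain ⟨m, rfl⟩ : ∃ m, n = m + 1 := ⟨n - 1, by omega⟩
  exact Fam.of_kfRow (SLFam.kfRow_PSL F)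

theorem omp (F : Type) [Field F] [Fintype F] [CharP F 2] (m : ℕ) (hm : 4 ≤ m) :
    Fam.{u} (POmega F (quadFormPlus m F)) := by
  obtain ⟨n, rfl⟩ : ∃ n, m = n + 2 := ⟨m - 2, by omega⟩
  exact Fam.of_kfRow (SLFam.kfRow_OPlus (by omega) F)

theorem e6 (F : Type) [Field F] [Fintype F] [CharP F 2] : Fam.{u} (Lie.chevE6.group F) :=
  Fam.of_kfRow (SLFam.kfRow_E6 F)

theorem e7 (F : Type) [Field F] [Fintype F] [CharP F 2] : Fam.{u} (Lie.chevE7.group F) :=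
  Fam.of_kfRow (SLFam.kfRow_E7 F)

theorem e8 (F : Type) [Field F] [Fintype F] [CharP F 2] : Fam.{u} (Lie.chevE8.group F) :=
  Fam.of_kfRow (SLFam.kfRow_E8 F)

end Cfsg.Agent.Omega.EH3.Kf.TableSL

end

section


/-!
# EH3, Lie rows in characteristic 2: `G₂(q)`, `q > 2` even, has no row (helper737)

`[X_9, X_8] = X_11`, `[X_9, X_7] = X_10`, `[x_6(u), x_7(t)] = x_8(tu) x_9(t²u) x_10(t³u) x_11(t³u²)`; the roots `8`, `9`
have full support.
-/

set_option autoImplicit false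
set_option linter.unusedSectionVars false

namespace Cfsg.Agent.Omega.EH3.Kf.FamG2

open CoxeterSystem Cfsg.Agent.ChevalleyStructure.CoxeterGeom Cfsg.Agent.Tits.Roots Cfsg.Agent.Tits.Core
  Cfsg.Agent.Tits.RootComb Cfsg.Agent.Nodes.Comb Cfsg.Agent.Nodes.Reps Cfsg.Agent.Nodes.BNOf
open Cfsg.Lie Cfsg.Agent.ChevalleyStructure Cfsg.Agent.ChevalleyStructure.Elts
  Cfsg.Agent.ChevalleyStructure.RootVec Cfsg.Agent.ChevalleyStructure.RootVecTab
  Cfsg.Agent.ChevalleyStructure.NPerm Cfsg.Agent.ChevalleyStructure.CoxeterGeomTypes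
open Cfsg.Agent.Nodes.RGDChev Cfsg.Agent.Omega.EH3.Kf.FamRow Cfsg.Agent.Omega.EH3.Kf.FamChev
  Cfsg.Agent.Omega.EH3.Kf.NoRow
open scoped commutatorElement

universe u v w

theorem isType : IsType chevG2 2 CoxeterMatrix.G₂ := by simp [IsType, typeList]

/-! ### the tables -/

theorem vec6 : vec chevG2 2 6 = sr 1 := vec_simple isType 1
theorem vec7 : vec chevG2 2 7 = sr 0 := vec_simple isType 0

theorem pos_tab : ∀ r < 12, (∀ k : Fin 2, 0 ≤ rt chevG2 r k) → r = 6 ∨ r = 7 ∨ r = 8 ∨ r = 9 ∨ r = 10 ∨ r = 11 := by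
  decide +kernel

theorem pos_tab' : ∀ r < 12, (r = 6 ∨ r = 7 ∨ r = 8 ∨ r = 9 ∨ r = 10 ∨ r = 11) → ∀ k : Fin 2, 0 ≤ rt chevG2 r k := by
  decide +kernel

theorem full_tab : ∀ k : Fin 2, 0 < rt chevG2 8 k ∧ 0 < rt chevG2 9 k := by
  decide +kernel

theorem neg_tab : chevG2.neg 7 ≠ 6 ∧ chevG2.neg 7 ≠ 9 ∧ chevG2.neg 8 ≠ 9 := by decide +kernel

theorem terms_tab : chevG2.commTerms 7 6 = [(8, -1, 1, 1), (9, 1, 2, 1), (10, 1, 3, 1), (11, 1, 3, 2)] ∧
    chevG2.commTerms 7 9 = [(10, 3, 1, 1)] ∧ chevG2.commTerms 8 9 = [(11, 3, 1, 1)] := by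
  decide +kernel

variable {K : Type v} [Field K] [CharP K 2]

/-- the root element of `G₂(K)` -/
noncomputable def e (K : Type v) [Field K] (r : ℕ) (t : K) : ↥(chevG2.group K) :=
  ⟨xG isType.inList r t, xG_mem_group isType.inList r t⟩

theorem e_add (r : ℕ) (t u : K) : e K r t * e K r u = e K r (t + u) := Subtype.ext (xG_add isType.inList r t u)

theorem e_zero (r : ℕ) : e K r 0 = 1 := Subtype.ext (xG_zero isType.inList r)

theorem e_ne {r : ℕ} (hr : r < 12) {t : K} (ht : t ≠ 0) : e K r t ≠ 1 := by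
  intro h
  exact ht ((xG_eq_one_iff isType.inList hr t).1 (congrArg Subtype.val h))

theorem three : (3 : K) = 1 := by
  have h2 : (2 : K) = 0 := by exact_mod_cast CharP.cast_eq_zero K 2
  linear_combination h2

theorem comm_8_9 (t u : K) : ⁅e K 9 u, e K 8 t⁆ = e K 11 (t * u) := by
  apply Subtype.ext
  show ⁅xG isType.inList 9 u, xG isType.inList 8 t⁆ = xG isType.inList 11 (t * u)
  rw [comm_two isType (by decide) (by decide) (by decide) neg_tab.2.2.symm]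
  unfold ChevalleyDatum.commWord
  rw [terms_tab.2.2]
  simp only [List.map_cons, List.map_nil, wordG_cons, wordG_nil, mul_one, pow_one, CharTwo.neg_eq]
  congr 1
  push_cast
  rw [three, one_mul]

theorem comm_7_9 (t u : K) : ⁅e K 9 u, e K 7 t⁆ = e K 10 (t * u) := by
  apply Subtype.ext
  show ⁅xG isType.inList 9 u, xG isType.inList 7 t⁆ = xG isType.inList 10 (t * u)
  rw [comm_two isType (by decide) (by decide) (by decide) neg_tab.2.1.symm]
  unfold ChevalleyDatum.commWord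
  rw [terms_tab.2.1]
  simp only [List.map_cons, List.map_nil, wordG_cons, wordG_nil, mul_one, pow_one, CharTwo.neg_eq]
  congr 1
  push_cast
  rw [three, one_mul]

theorem comm_7_6 (t u : K) : ⁅e K 6 u, e K 7 t⁆ =
    e K 8 (t * u) * (e K 9 (t ^ 2 * u) * (e K 10 (t ^ 3 * u) * e K 11 (t ^ 3 * u ^ 2))) := by
  apply Subtype.ext
  show ⁅xG isType.inList 6 u, xG isType.inList 7 t⁆ = xG isType.inList 8 (t * u) *
    (xG isType.inList 9 (t ^ 2 * u) * (xG isType.inList 10 (t ^ 3 * u) * xG isType.inList 11 (t ^ 3 * u ^ 2)))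
  rw [comm_two isType (by decide) (by decide) (by decide) neg_tab.1.symm]
  unfold ChevalleyDatum.commWord
  rw [terms_tab.1]
  simp only [List.map_cons, List.map_nil, wordG_cons, wordG_nil, mul_one, pow_one, CharTwo.neg_eq]
  push_cast
  simp only [CharTwo.neg_eq, one_mul]

/-- the root groups -/
abbrev X (K : Type v) [Field K] (x : Fin 2 → ℤ) : Subgroup ↥(chevG2.group K) :=
  (XV chevG2 2 K x).subgroupOf (chevG2.group K)

theorem e_mem {r : ℕ} (hr : r < 12) (t : K) : e K r t ∈ X K (vec chevG2 2 r) :=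
  (mem_X_iff isType hr).2 ⟨t, rfl⟩

theorem mem_X {r : ℕ} (hr : r < 12) {g : ↥(chevG2.group K)} (hg : g ∈ X K (vec chevG2 2 r)) :
    ∃ t, g = e K r t := by
  obtain ⟨t, ht⟩ := (mem_X_iff isType hr).1 hg
  exact ⟨t, Subtype.ext ht⟩

/-- `U` -/
abbrev U (K : Type v) [Field K] : Subgroup ↥(chevG2.group K) :=
  RGD.Sup (X K) (RGD.Pos CoxeterMatrix.G₂.toCoxeterSystem isType.isCartan)

theorem e_mem_U {r : ℕ} (hr : r < 12) (h : r = 6 ∨ r = 7 ∨ r = 8 ∨ r = 9 ∨ r = 10 ∨ r = 11) (t : K) :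
    e K r t ∈ U K := by
  have hx : vec chevG2 2 r ∈ RGD.Pos CoxeterMatrix.G₂.toCoxeterSystem isType.isCartan :=
    ⟨isRoot_vec isType CoxeterMatrix.G₂.toCoxeterSystem hr, fun k => pos_tab' r hr h k⟩
  exact RGD.le_Sup (X := X K) hx (e_mem hr t)

/-- all root groups of roots that are not fundamental lie in `[U, U]` -/
theorem mem_comm (hK : ∃ t : K, t ≠ 0 ∧ t ≠ 1) {r : ℕ} (hr : r = 8 ∨ r = 9 ∨ r = 10 ∨ r = 11) (c : K) :
    e K r c ∈ ⁅U K, U K⁆ := by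
  have h11 : ∀ c : K, e K 11 c ∈ ⁅U K, U K⁆ := by
    intro c
    rw [show c = 1 * c from (one_mul c).symm, ← comm_8_9]
    exact Subgroup.commutator_mem_commutator (e_mem_U (by norm_num) (by norm_num) c)
      (e_mem_U (by norm_num) (by norm_num) 1)
  have h10 : ∀ c : K, e K 10 c ∈ ⁅U K, U K⁆ := by
    intro c
    rw [show c = 1 * c from (one_mul c).symm, ← comm_7_9]
    exact Subgroup.commutator_mem_commutator (e_mem_U (by norm_num) (by norm_num) c)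
      (e_mem_U (by norm_num) (by norm_num) 1)
  have h89 : ∀ t s : K, t ≠ 0 → e K 8 s * e K 9 (t * s) ∈ ⁅U K, U K⁆ := by
    intro t s ht
    have h1 : ⁅e K 6 (t⁻¹ * s), e K 7 t⁆ ∈ ⁅U K, U K⁆ :=
      Subgroup.commutator_mem_commutator (e_mem_U (by norm_num) (by norm_num) _)
        (e_mem_U (by norm_num) (by norm_num) _)
    rw [comm_7_6, ← mul_assoc, show t * (t⁻¹ * s) = s by field_simp,
      show t ^ 2 * (t⁻¹ * s) = t * s by field_simp] at h1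
    exact (Subgroup.mul_mem_cancel_right _ (mul_mem (h10 _) (h11 _))).1 h1
  have h9 : ∀ c : K, e K 9 c ∈ ⁅U K, U K⁆ := by
    intro c
    obtain ⟨t, ht0, ht1⟩ := hK
    have hs : t - 1 ≠ 0 := sub_ne_zero.2 ht1
    have h1 := h89 t (c / (t - 1)) ht0
    have h2 := h89 1 (c / (t - 1)) one_ne_zero
    have h3 := mul_mem (inv_mem h2) h1
    have h4 : (e K 8 (c / (t - 1)) * e K 9 (1 * (c / (t - 1))))⁻¹ * (e K 8 (c / (t - 1)) * e K 9 (t * (c / (t - 1)))) =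
        (e K 9 (1 * (c / (t - 1))))⁻¹ * e K 9 (t * (c / (t - 1))) := by group
    have h5 : (e K 9 (1 * (c / (t - 1))))⁻¹ = e K 9 (-(1 * (c / (t - 1)))) := by
      rw [inv_eq_iff_mul_eq_one, e_add, add_neg_cancel, e_zero]
    rw [h4, h5, e_add] at h3
    have h6 : -(1 * (c / (t - 1))) + t * (c / (t - 1)) = c := by field_simp; ring
    rwa [h6] at h3
  rcases hr with rfl | rfl | rfl | rfl
  · have h1 := h89 1 c one_ne_zero
    exact (Subgroup.mul_mem_cancel_right _ (h9 _)).1 h1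
  · exact h9 c
  · exact h10 c
  · exact h11 c

/-- **`G₂(q)`, `q > 2` even.** -/
theorem kfRow [Finite K] (hK : ∃ t : K, t ≠ 0 ∧ t ≠ 1) : KfRow.{u} ↥(chevG2.group K) := by
  refine kfRow_of_pair (bd isType (K := K)) (x := vec chevG2 2 8) (y := vec chevG2 2 9) ?_
    (isRoot_vec isType _ (by decide)) (isRoot_vec isType _ (by decide)) (fun k => (full_tab k).1)
    (fun k => (full_tab k).2) ?_
  · intro x hx h0 hs
    obtain ⟨r, hr, rfl⟩ := (isRoot_iff isType _ _).1 hx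
    have h1 := pos_tab r hr (fun k => h0 k)
    have h2 : r = 8 ∨ r = 9 ∨ r = 10 ∨ r = 11 := by
      rcases h1 with rfl | rfl | h1
      · exact absurd vec6 (hs 1)
      · exact absurd vec7 (hs 0)
      · exact h1
    intro g hg
    obtain ⟨t, rfl⟩ := mem_X hr hg
    exact mem_comm hK h2 t
  · intro h
    have h1 : ⁅e K 8 1, e K 9 1⁆ ∈ ⁅X K (vec chevG2 2 8), X K (vec chevG2 2 9)⁆ :=
      Subgroup.commutator_mem_commutator (e_mem (by norm_num) 1) (e_mem (by norm_num) 1)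
    rw [h, Subgroup.mem_bot] at h1
    have h2 : ⁅e K 9 1, e K 8 (1 : K)⁆ = 1 := by rw [← commutatorElement_inv, h1, inv_one]
    rw [comm_8_9] at h2
    exact e_ne (by norm_num) (by rw [mul_one]; exact one_ne_zero) h2

theorem exists_ne_of_card [Fintype K] (h : 3 ≤ Fintype.card K) : ∃ t : K, t ≠ 0 ∧ t ≠ 1 := by
  classical
  by_contra hcon
  push Not at hcon
  have h1 : (Finset.univ : Finset K) ⊆ {0, 1} := by
    intro t _
    rw [Finset.mem_insert, Finset.mem_singleton]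
    by_cases h0 : t = 0
    · exact Or.inl h0
    · exact Or.inr (hcon t h0)
  have h2 := Finset.card_le_card h1
  have h3 : ({0, 1} : Finset K).card ≤ 2 := Finset.card_le_two
  rw [Finset.card_univ] at h2
  omega

/-- **The row of `G₂(q)`**, in the form of `IsExceptionalChevChar`. -/
theorem kfRow_of_equiv {G : Type u} [Group G] [Fintype K] (h : 3 ≤ Fintype.card K)
    (e : G ≃* ↥(chevG2.group K)) : KfRow.{w} G :=
  (kfRow (exists_ne_of_card h)).of_equiv e.symm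

end Cfsg.Agent.Omega.EH3.Kf.FamG2

end

end
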