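import Mathlib
import Cfsg.Agent.Mrg.Omega.EH3.Kf.TwWitt
import Cfsg.Agent.Mrg.KFacts.RgdPerf
import Cfsg.Agent.Mrg.Omega.EH3.Kf.Base
import Cfsg.Agent.KFacts.RgdFiltClass
import Cfsg.Agent.Mrg.Nodes.RGDAllP
import Cfsg.Agent.Mrg.Omega.EH3.Kf.Main

-- merged: Cfsg.Agent.Mrg.Omega.EH3.Kf.TwRow
section

section


/-!
# EH3, Lie rows in characteristic 2: the rows of relative type `C_n` (helper94; K6)

* `dead_odd` : unitary groups of odd dimension;
* `short_le`, `long_le` : (F);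
* `dead_sp` : symplectic groups, `q > 2`;
* `even_end` : unitary groups of even dimension.
-/

set_option autoImplicit false
set_option linter.unusedVariables false
set_option linter.unusedSectionVars false

namespace Cfsg.Agent.Omega.EH3.Kf.TwRow

open CoxeterSystem Cfsg.Agent.ChevalleyStructure.CoxeterGeom Cfsg.Agent.Tits.Roots Cfsg.Agent.Tits.Core
  Cfsg.Agent.Tits.RootComb Cfsg.Agent.Nodes.TypeC
open Cfsg.Agent.Nodes.Comb Cfsg.Agent.Nodes.Reps Cfsg.Agent.Nodes.WittRoot Cfsg.Agent.Nodes.BNOf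
open Cfsg.Agent.Nodes.StabComb Cfsg.Agent.Nodes.Bruhat Cfsg.Agent.Nodes.LeviDec
open Cfsg.Agent.Nodes.RGDLib Cfsg.Agent.Nodes.WittAll
open Cfsg.Agent.TitsThree Cfsg.Agent.TitsThree.Siegel Cfsg.Agent.TitsThree.WittFrame
  Cfsg.Agent.TitsThree.WittWeyl Cfsg.Agent.TitsThree.FrameCN
open Cfsg.Agent.Omega.EH3.Kf.TwC Cfsg.Agent.Omega.EH3.Kf.TwWitt Cfsg.Agent.Omega.EH3.Kf.Base
open scoped commutatorElement

/-! ### Conjugate roots -/

section Orb

variable {n : ℕ} {W : Type*} [Group W] {cs : CoxeterSystem (CoxeterMatrix.B n) W}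

/-- `x` is conjugate to `α_k` under the other reflections -/
def Orb (cs : CoxeterSystem (CoxeterMatrix.B n) W) (k : Fin n) (x : Fin n → ℤ) : Prop :=
  ∃ v ∈ WJ cs ({k}ᶜ : Set (Fin n)), x = rep cs (isCartan n) v (sr k)

theorem orb_self (k : Fin n) : Orb cs k (sr k) := ⟨1, one_mem _, by rw [map_one]; rfl⟩

theorem Orb.step {k i : Fin n} (hik : i ≠ k) {x y : Fin n → ℤ} (hx : Orb cs k x) {a b : Fin n × Bool}
    (ex : ee x = wt a + wt b) (ey : ee y = wt (sg i a) + wt (sg i b)) : Orb cs k y := by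
  obtain ⟨v, hv, rfl⟩ := hx
  refine ⟨cs.simple i * v, mul_mem (Subgroup.subset_closure ⟨i, hik, rfl⟩) hv, ?_⟩
  rw [rep_mul_apply, rep_simple]
  exact ee_injective (ey.trans (ee_refl_of ex).symm)

theorem ee_add_comm {x : Fin n → ℤ} {a b : Fin n × Bool} (h : ee x = wt a + wt b) : ee x = wt b + wt a := by
  rw [h, add_comm]

/-- the long roots `2 ε_j` are conjugate to the last fundamental root -/
theorem orb_long {k : Fin n} (hk : (k : ℕ) + 1 = n) (d : ℕ) : ∀ (j : Fin n), (j : ℕ) + d + 1 = n →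
    ∀ x, ee x = wt (j, true) + wt (j, true) → Orb cs k x := by
  induction d with
  | zero =>
    intro j hj x ex
    have hjk : j = k := Fin.ext (by omega)
    subst hjk
    have h1 : x = sr j := ee_injective (by rw [ex, ee_sr, bt, nx, dif_neg (by omega)])
    rw [h1]
    exact orb_self j
  | succ d ih =>
    intro j hj x ex
    have hj1 : (j : ℕ) + 1 < n := by omega
    obtain ⟨y, -, ey⟩ := rt_of_ok (cs := cs) (show Ok ((⟨j + 1, hj1⟩, true) : Fin n × Bool) (⟨j + 1, hj1⟩, true) from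
      Or.inr rfl)
    have h1 := ih ⟨j + 1, hj1⟩ (by simp only; omega) y ey
    refine h1.step (i := j) (by rintro rfl; omega) ey ?_
    rw [sg_down hj1, ex]

/-- the roots `ε_0 - ε_j` are conjugate to the first fundamental root -/
theorem orb_sub {k : Fin n} (hk : (k : ℕ) = 0) (d : ℕ) : ∀ (j : Fin n), (j : ℕ) = d + 1 →
    ∀ x, ee x = wt (k, true) + wt (j, false) → Orb cs k x := by
  induction d with
  | zero =>
    intro j hj x ex
    have h1 : x = sr k := by
      refine ee_injective ?_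
      rw [ex, ee_sr, bt, nx, dif_pos (by rw [hk]; exact hj ▸ j.2)]
      congr 3
      exact Fin.ext (by simp only; omega)
    rw [h1]
    exact orb_self k
  | succ d ih =>
    intro j hj x ex
    have hj2 := j.2
    set i : Fin n := ⟨d + 1, by omega⟩ with hi
    have hi1 : (i : ℕ) + 1 < n := by simp only [hi]; omega
    have hji : j = ⟨i + 1, hi1⟩ := Fin.ext (by simp only [hi]; omega)
    have hki : k ≠ i := by
      intro h; have := congrArg Fin.val h; simp only [hi] at this; omega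
    obtain ⟨y, -, ey⟩ := rt_of_ok (cs := cs) (show Ok ((k, true) : Fin n × Bool) (i, false) from Or.inl hki)
    have h1 := ih i rfl y ey
    refine h1.step (i := i) hki.symm ey ?_
    rw [sg_up hi1, sg_of_ne (i := i) (x := (k, true)) hki (by simp only [hi]; omega), ex, hji]

/-- the roots `ε_0 + ε_j` are conjugate to the first fundamental root -/
theorem orb_add {k : Fin n} (hk : (k : ℕ) = 0) (d : ℕ) : ∀ (j : Fin n), 0 < (j : ℕ) → (j : ℕ) + d + 1 = n →
    ∀ x, ee x = wt (k, true) + wt (j, true) → Orb cs k x := by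
  induction d with
  | zero =>
    intro j hj0 hj x ex
    have hkj : k ≠ j := by rintro rfl; omega
    obtain ⟨y, -, ey⟩ := rt_of_ok (cs := cs) (show Ok ((k, true) : Fin n × Bool) (j, false) from Or.inl hkj)
    have h1 := orb_sub (cs := cs) hk (j - 1) j (by omega) y ey
    refine h1.step (i := j) hkj.symm ey ?_
    rw [sg_last (by omega), sg_of_ne (i := j) (x := (k, true)) hkj (by simp only; omega), ex]
    rfl
  | succ d ih =>
    intro j hj0 hj x ex
    have hkj : k ≠ j := by rintro rfl; omega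
    have hj1 : (j : ℕ) + 1 < n := by omega
    obtain ⟨y, -, ey⟩ := rt_of_ok (cs := cs) (show Ok ((k, true) : Fin n × Bool) (⟨j + 1, hj1⟩, true) from
      Or.inl (by intro h; have := congrArg Fin.val h; simp only at this; omega))
    have h1 := ih ⟨j + 1, hj1⟩ (by simp only; omega) (by simp only; omega) y ey
    refine h1.step (i := j) hkj.symm ey ?_
    rw [sg_down hj1, sg_of_ne (i := j) (x := (k, true)) hkj (by simp only; omega), ex]

end Orb

variable {F : Type*} [Field F] {V' : Type*} [AddCommGroup V'] [Module F V'] {H : HForm F V'} {n : ℕ}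
  {Fr : Frame H (Fin n)} {K : Type*} [Group K] (M : Model Fr K)

/-! ### Orders and commuting pairs -/

section Card

variable {p : ℕ} [Fact p.Prime] [CharP F p] [Finite V'] (hA : AmbT Fr p M.I)

include hA

theorem card_short {a b : Fin n × Bool} (hab : a.1 ≠ b.1) {x : Fin n → ℤ} (ex : ee x = wt a + wt b) :
    Nat.card (Nodes.WittModel.X M x) = Nat.card F := by
  symm
  refine Nat.card_congr (Equiv.ofBijective
    (fun t : F => (⟨M.X a b t, X_mem M hab ex t⟩ : Nodes.WittModel.X M x)) ⟨?_, ?_⟩)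
  · intro s t e
    have e1 : M.X a b s = M.X a b t := congrArg Subtype.val e
    have e2 : M.X a b (s - t) = 1 := by
      have e3 : M.X a b (s - t) * M.X a b t = M.X a b s := by rw [← X_add]; congr 1; ring
      rw [e1] at e3
      exact mul_eq_right.1 e3
    exact sub_eq_zero.1 (X_eq_one M hA hab e2)
  · rintro ⟨k, hk⟩
    obtain ⟨t, rfl⟩ := (mem_XK M hab ex).1 hk
    exact ⟨t, rfl⟩

theorem card_long {a : Fin n × Bool} {x : Fin n → ℤ} (ex : ee x = wt a + wt a) :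
    Nat.card (Nodes.WittModel.X M x) = Nat.card Fr.Adm := by
  symm
  refine Nat.card_congr (Equiv.ofBijective
    (fun q : Fr.Adm => (⟨M.Z a q, Z_mem M ex q⟩ : Nodes.WittModel.X M x)) ⟨?_, ?_⟩)
  · intro s t e
    have e1 : M.Z a s = M.Z a t := congrArg Subtype.val e
    have e2 : M.Z a (s * t⁻¹) = 1 := by
      have e3 : M.Z a (s * t⁻¹) * M.Z a t = M.Z a s := by rw [← Z_mul, inv_mul_cancel_right]
      rw [e1] at e3
      exact mul_eq_right.1 e3
    exact mul_inv_eq_one.1 (Z_eq_one M hA e2)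
  · rintro ⟨k, hk⟩
    obtain ⟨t, rfl⟩ := (mem_ZK M ex).1 hk
    exact ⟨t, rfl⟩

end Card

theorem comm_short (htr : ∀ m, (Frame.Adm.tr m : Fr.Adm) = 1) {a b : Fin n × Bool} (hab : a.1 ≠ b.1) {x y : Fin n → ℤ}
    (ex : ee x = wt a + wt b) (ey : ee y = wt a + wt (neg b)) :
    ∀ u ∈ Nodes.WittModel.X M x, ∀ v ∈ Nodes.WittModel.X M y, u * v = v * u := by
  intro u hu v hv
  obtain ⟨s, rfl⟩ := (mem_XK M hab ex).1 hu
  obtain ⟨t, rfl⟩ := (mem_XK M (a := a) (b := neg b) hab ey).1 hv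
  rw [← commutatorElement_eq_one_iff_mul_comm, comm_same M hab, htr, Z_one]

theorem comm_long (hw : ∀ p : Fr.Adm, p.w = 0) {a b : Fin n × Bool} (hab : a.1 ≠ b.1) {x y : Fin n → ℤ}
    (ex : ee x = wt a + wt a) (ey : ee y = wt b + wt b) :
    ∀ u ∈ Nodes.WittModel.X M x, ∀ v ∈ Nodes.WittModel.X M y, u * v = v * u := by
  intro u hu v hv
  obtain ⟨s, rfl⟩ := (mem_ZK M ex).1 hu
  obtain ⟨t, rfl⟩ := (mem_ZK M ey).1 hv
  rw [← commutatorElement_eq_one_iff_mul_comm, comm_ZZ M hab, hw, hw, H.zero_left, map_zero, mul_zero,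
    _root_.neg_zero, X_zero]

theorem sup_comm {Y : Type*} [Group Y] {A B C : Subgroup Y} (h1 : ∀ u ∈ A, ∀ v ∈ C, u * v = v * u)
    (h2 : ∀ u ∈ B, ∀ v ∈ C, u * v = v * u) : ∀ u ∈ A ⊔ B, ∀ v ∈ C, u * v = v * u := by
  have h3 : A ⊔ B ≤ Subgroup.centralizer (C : Set Y) :=
    sup_le (fun u hu => Subgroup.mem_centralizer_iff.2 fun v hv => (h1 u hu v hv).symm)
      (fun u hu => Subgroup.mem_centralizer_iff.2 fun v hv => (h2 u hu v hv).symm)
  exact fun u hu v hv => (Subgroup.mem_centralizer_iff.1 (h3 hu) v hv).symm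

/-! ### Rows -/

section Rows

variable {W : Type*} [Group W] {cs : CoxeterSystem (CoxeterMatrix.B n) W}
  {V : Type*} [AddCommGroup V] [Module (ZMod 2) V] {T : Subgroup K} {nn : Fin n → K}
  {ρ : K →* (V ≃ₗ[ZMod 2] V)} {b : LinearMap.BilinForm (ZMod 2) V} {a : V}
  {D : Submodule (ZMod 2) V} {X0 : Subgroup K} {w : ℕ}
  (R : Row cs (isCartan n) T nn (Nodes.WittModel.X M) ρ b a D X0 w)
  [CharP F 2] [Finite V'] (hA : AmbT Fr 2 M.I) [Finite K]

include R

omit [CharP F 2] [Finite V'] in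
theorem eq_VJ (G : Gd (Nodes.WittModel.X M)) : X0 = VJ cs (isCartan n) (Nodes.WittModel.X M) (Mv ρ nn a)ᶜ := by
  have : Finite W := finite_W cs
  exact Cov.eq_VJ R (fun u hu => ThmA.thmA R.core le_rfl u hu) fun x hx h0 hs => G.gen cs hx h0 hs

include hA

/-- **the unitary groups of odd dimension** -/
theorem dead_odd (hs : ∀ m : F, ∃ p q : Fr.Adm, H.h p.w q.w = m) {m : F} (hm : (Frame.Adm.tr m : Fr.Adm) ≠ 1)
    {q r : Fr.Adm} (hqr : q * r ≠ r * q) : False := by
  have : Fact (Nat.Prime 2) := ⟨Nat.prime_two⟩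
  have : Finite W := finite_W cs
  have hX := eq_VJ M R (gd_of_surj M hs)
  obtain ⟨k, hk⟩ := mv_nonempty R
  have h1 := mv_nax R hX (nax M hA hm) hk
  have h2 := mv_naz R hX (naz M hA hs) hk
  have h3 : ¬ (k : ℕ) + 1 < n := by omega
  have e : ee (sr k) = wt (k, true) + wt (k, true) := by rw [ee_sr, bt, nx, dif_neg h3]
  exact naz_self M hA hqr e (comm_bot R hX ⟨isRoot_sr cs _ k, sr_nonneg k⟩ ⟨isRoot_sr cs _ k, sr_nonneg k⟩ hk hk
    (by rw [sr_self]; norm_num) (by rw [sr_self]; norm_num))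

/-- (F), first node -/
theorem short_le (hX : X0 = VJ cs (isCartan n) (Nodes.WittModel.X M) (Mv ρ nn a)ᶜ) {k : Fin n} (hk : (k : ℕ) = 0)
    (hK : Mv ρ nn a = {k}) (hn : 1 < n) (htr : ∀ m, (Frame.Adm.tr m : Fr.Adm) = 1) {m : ℕ}
    (hc : Nat.card F = 2 ^ m) : 2 * m ≤ 3 := by
  have : Fact (Nat.Prime 2) := ⟨Nat.prime_two⟩
  have : Finite W := finite_W cs
  set j : Fin n := ⟨1, hn⟩ with hj
  have hkj : k < j := by rw [Fin.lt_def]; simp [hk, hj]
  obtain ⟨x, hx, ex⟩ := exists_root cs (a := (k, true)) (b := (j, false)) (Or.inl hkj.ne) rfl hkj.le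
  obtain ⟨y, hy, ey⟩ := exists_root cs (a := (k, true)) (b := (j, true)) (Or.inl hkj.ne) rfl hkj.le
  have hkM : k ∈ Mv ρ nn a := by rw [hK]; rfl
  have enx : ee (-x) = wt (j, true) + wt (k, false) := by
    rw [ee_neg, ex, neg_add, ← wt_ng, ← wt_ng, add_comm]; rfl
  have key := Orth.sum_le_three R [x, y] (fun _ => m) ?_ ?_ ?_ ?_
  · simp only [List.map_cons, List.map_nil, List.sum_cons, List.sum_nil] at key
    omega
  · intro z hz
    rw [hK]
    simp only [List.mem_cons, List.not_mem_nil, or_false] at hz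
    rcases hz with rfl | rfl
    · obtain ⟨v, hv, e⟩ := orb_sub (cs := cs) hk 0 j rfl z ex
      exact ⟨v, hv, k, rfl, e⟩
    · obtain ⟨v, hv, e⟩ := orb_add (cs := cs) hk (n - 2) j (by simp [hj]) (by simp only [hj]; omega) z ey
      exact ⟨v, hv, k, rfl, e⟩
  · intro z hz
    simp only [List.mem_cons, List.not_mem_nil, or_false] at hz
    rw [hX]
    rcases hz with rfl | rfl
    · exact X_le_VJ hx hkM (pos_sub ex le_rfl hkj)
    · exact X_le_VJ hy hkM (pos_add ey le_rfl)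
  · intro z hz
    simp only [List.mem_cons, List.not_mem_nil, or_false] at hz
    rcases hz with rfl | rfl
    · rw [card_short M hA (a := (k, true)) (b := (j, false)) hkj.ne ex, hc]
    · rw [card_short M hA (a := (k, true)) (b := (j, true)) hkj.ne ey, hc]
  · rw [List.pairwise_pair]
    refine sup_comm ?_ ?_
    · exact comm_short M htr (a := (k, true)) (b := (j, false)) hkj.ne ex ey
    · exact comm_short M htr (a := (j, true)) (b := (k, false)) hkj.ne' enx (ee_add_comm ey)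

/-- (F), last node -/
theorem long_le (hX : X0 = VJ cs (isCartan n) (Nodes.WittModel.X M) (Mv ρ nn a)ᶜ) {k : Fin n} (hk : (k : ℕ) + 1 = n)
    (hK : Mv ρ nn a = {k}) (hw : ∀ p : Fr.Adm, p.w = 0) {m : ℕ} (hc : Nat.card Fr.Adm = 2 ^ m) : n * m ≤ 3 := by
  have : Fact (Nat.Prime 2) := ⟨Nat.prime_two⟩
  have : Finite W := finite_W cs
  have hkM : k ∈ Mv ρ nn a := by rw [hK]; rfl
  choose x hx ex using fun j : Fin n => exists_root cs (a := (j, true)) (b := (j, true)) (Or.inr rfl) rfl le_rfl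
  have key := Orth.sum_le_three R (List.ofFn x) (fun _ => m) ?_ ?_ ?_ ?_
  · rw [List.map_ofFn, List.sum_ofFn] at key
    simpa using key
  · intro z hz
    rw [List.mem_ofFn] at hz
    obtain ⟨j, rfl⟩ := hz
    obtain ⟨v, hv, e⟩ := orb_long (cs := cs) hk (n - 1 - j) j (by have := j.2; omega) (x j) (ex j)
    exact ⟨v, by rw [hK]; exact hv, k, hkM, e⟩
  · intro z hz
    rw [List.mem_ofFn] at hz
    obtain ⟨j, rfl⟩ := hz
    rw [hX]
    exact X_le_VJ (hx j) hkM (pos_add (ex j) (by rw [Fin.le_def]; have := j.2; omega))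
  · intro z hz
    rw [List.mem_ofFn] at hz
    obtain ⟨j, rfl⟩ := hz
    rw [card_long M hA (ex j), hc]
  · rw [List.pairwise_ofFn]
    intro i j hij
    refine sup_comm (comm_long M hw (a := (i, true)) (b := (j, true)) hij.ne (ex i) (ex j))
      (comm_long M hw (a := (i, false)) (b := (j, true)) hij.ne ?_ (ex j))
    rw [ee_neg, ex i, neg_add, ← wt_ng]
    rfl

/-- **the symplectic groups, `q > 2`** -/
theorem dead_sp (hn : 1 < n) (hw : ∀ p : Fr.Adm, p.w = 0) (hσ : ∀ t, H.σ t = t) (hcs : ∀ c, ∃ p : Fr.Adm, p.c = c)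
    {l : F} (hl0 : l ≠ 0) (hl1 : l ≠ 1) (htr : ∀ m, (Frame.Adm.tr m : Fr.Adm) = 1) {m : ℕ} (hm : 1 < m)
    (hc : Nat.card F = 2 ^ m) (hc' : Nat.card Fr.Adm = 2 ^ m) : False := by
  have : Fact (Nat.Prime 2) := ⟨Nat.prime_two⟩
  have : Finite W := finite_W cs
  have hX := eq_VJ M R (gd_of_sp M hw hσ hcs hl0 hl1)
  obtain ⟨k, hk⟩ := mv_nonempty R
  have hK : Mv ρ nn a = {k} := by
    ext j
    exact ⟨fun hj => mv_one R hX (nas M hA) hj hk, by rintro rfl; exact hk⟩
  rcases mv_int R hX (nas M hA) hk with h1 | h1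
  · have := short_le M R hA hX h1 hK hn htr hc
    omega
  · have := long_le M R hA hX h1 hK hw hc'
    nlinarith

/-- the unitary groups of even dimension -/
theorem even_le (hn : 1 < n) (htr : ∀ p : Fr.Adm, ∃ m, p = Frame.Adm.tr m) {p0 : Fr.Adm} (hp0 : p0.c ≠ 0)
    {m : ℕ} (hm : 0 < m) (hc' : Nat.card Fr.Adm = 2 ^ m) :
    m = 1 ∧ n ≤ 3 ∧ ∃ k : Fin n, (k : ℕ) + 1 = n ∧ Mv ρ nn a = {k} ∧
      X0 = VJ cs (isCartan n) (Nodes.WittModel.X M) {k}ᶜ := by
  have : Fact (Nat.Prime 2) := ⟨Nat.prime_two⟩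
  have : Finite W := finite_W cs
  have hw : ∀ p : Fr.Adm, p.w = 0 := by
    intro p
    obtain ⟨m, rfl⟩ := htr p
    rfl
  have hX := eq_VJ M R (gd_of_tr M htr hp0)
  obtain ⟨m', hm'⟩ := htr p0
  have hm1 : (Frame.Adm.tr m' : Fr.Adm) ≠ 1 := by
    rw [← hm']
    rintro rfl
    exact hp0 rfl
  obtain ⟨k, hk⟩ := mv_nonempty R
  have h1 := mv_nax R hX (nax M hA hm1) hk
  have hK : Mv ρ nn a = {k} := by
    ext j
    refine ⟨fun hj => ?_, by rintro rfl; exact hk⟩
    have h2 := mv_nax R hX (nax M hA hm1) hj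
    exact Fin.ext (by omega)
  have h3 := long_le M R hA hX h1 hK hw hc'
  have h4 : m = 1 := by nlinarith
  subst h4
  exact ⟨rfl, by omega, k, h1, hK, by rw [← hK]; exact hX⟩

end Rows

end Cfsg.Agent.Omega.EH3.Kf.TwRow

end

section


/-!
# EH3, Lie rows in characteristic 2: `Ω⁻` (helper94; K6)

`dead_minus` : a frame of orthogonal type (`tr = 1`, `h` onto on the anisotropic part), `n ≥ 3`: there is no `Row`.
The moved node is the first one, `q = 2` by (F), and the trilinear form vanishes.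
-/

set_option autoImplicit false
set_option linter.unusedVariables false
set_option linter.unusedSectionVars false

namespace Cfsg.Agent.Omega.EH3.Kf.TwMinus

open CoxeterSystem Cfsg.Agent.ChevalleyStructure.CoxeterGeom Cfsg.Agent.Tits.Roots Cfsg.Agent.Tits.Core
  Cfsg.Agent.Tits.RootComb Cfsg.Agent.Nodes.TypeC
open Cfsg.Agent.Nodes.Comb Cfsg.Agent.Nodes.Reps Cfsg.Agent.Nodes.WittRoot Cfsg.Agent.Nodes.BNOf
open Cfsg.Agent.Nodes.StabComb Cfsg.Agent.Nodes.Bruhat Cfsg.Agent.Nodes.LeviDec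
open Cfsg.Agent.Nodes.RGDLib Cfsg.Agent.Nodes.WittAll
open Cfsg.Agent.TitsThree Cfsg.Agent.TitsThree.Siegel Cfsg.Agent.TitsThree.WittFrame
  Cfsg.Agent.TitsThree.WittWeyl Cfsg.Agent.TitsThree.FrameCN
open Cfsg.Agent.Omega.EH3.Kf.TwC Cfsg.Agent.Omega.EH3.Kf.TwWitt Cfsg.Agent.Omega.EH3.Kf.TwRow
  Cfsg.Agent.Omega.EH3.Kf.Base Cfsg.Agent.Omega.EH3.Kf.Tri
open scoped commutatorElement

variable {F : Type*} [Field F] {V' : Type*} [AddCommGroup V'] [Module F V'] {H : HForm F V'} {n : ℕ}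
  {Fr : Frame H (Fin n)} {K : Type*} [Group K] (M : Model Fr K)
  {W : Type*} [Group W] {cs : CoxeterSystem (CoxeterMatrix.B n) W}
  {V : Type*} [AddCommGroup V] [Module (ZMod 2) V] {T : Subgroup K} {nn : Fin n → K}
  {ρ : K →* (V ≃ₗ[ZMod 2] V)} {b : LinearMap.BilinForm (ZMod 2) V} {a : V}
  {D : Submodule (ZMod 2) V} {X0 : Subgroup K} {w : ℕ}
  (R : Row cs (isCartan n) T nn (Nodes.WittModel.X M) ρ b a D X0 w) [Finite K]
  (hX : X0 = VJ cs (isCartan n) (Nodes.WittModel.X M) (Mv ρ nn a)ᶜ) {k : Fin n} (hk : (k : ℕ) = 0)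
  (hK : Mv ρ nn a = {k})

include R hX hk hK

theorem lt_of_ne {β : Fin n × Bool} (hβ : β.1 ≠ k) : k < β.1 := by
  rw [Fin.lt_def]
  have : (β.1 : ℕ) ≠ k := fun h => hβ (Fin.ext h)
  omega

theorem x_mem {β : Fin n × Bool} (hβ : β.1 ≠ k) (t : F) : M.X (k, true) β t ∈ X0 := by
  have hlt := lt_of_ne M R hX hk hK hβ
  obtain ⟨r, hr, er⟩ := exists_root cs (a := (k, true)) (b := β) (Or.inl hlt.ne) rfl hlt.le
  rw [hX]
  have hkM : k ∈ Mv ρ nn a := by rw [hK]; rfl
  have h1 := coef er k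
  simp only [le_refl, if_true, if_neg (not_le.2 hlt)] at h1
  simp only [sn, if_true] at h1
  refine X_le_VJ hr hkM ?_ (X_mem M hlt.ne er t)
  split_ifs at h1 <;> omega

theorem z_mem (p : Fr.Adm) : M.Z (k, true) p ∈ X0 := by
  obtain ⟨r, hr, er⟩ := exists_root cs (a := (k, true)) (b := (k, true)) (Or.inr rfl) rfl le_rfl
  rw [hX]
  have hkM : k ∈ Mv ρ nn a := by rw [hK]; rfl
  exact X_le_VJ hr hkM (pos_add er le_rfl) (Z_mem M er p)

/-- `Z_β` fixes `a` -/
theorem z_fix {β : Fin n × Bool} (hβ : β.1 ≠ k) (p : Fr.Adm) : ρ (M.Z β p) a = a := by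
  have : Finite W := finite_W cs
  have hlt := lt_of_ne M R hX hk hK hβ
  obtain ⟨r, hr, er⟩ := rt_of_ok (cs := cs) (show Ok β β from Or.inr rfl)
  have h1 := coef er k
  simp only [if_neg (not_le.2 hlt), add_zero] at h1
  refine Opp.PJ_fix R (LJ_le_PJ (X_le_LJ (x := r) ⟨hr, fun j hj => ?_⟩ (Z_mem M er p)))
  have hj : j = k := by
    by_contra hne
    apply hj
    rw [hK]
    exact hne
  rw [hj]
  split_ifs at h1 <;> omega

/-! ### The conjugates -/

theorem conj_x {β γ : Fin n × Bool} (hβ : β.1 ≠ k) (hγ : γ ≠ neg β) (p : Fr.Adm) (t : F) :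
    M.Z β p * M.X (k, true) γ t * (M.Z β p)⁻¹ = M.X (k, true) γ t := by
  have h1 : ((k, true) : Fin n × Bool) ≠ neg β := by
    intro h; exact hβ (congrArg Prod.fst h).symm
  have h2 := (M.commute_ZX h1 hγ p t).eq
  rw [h2]; group

theorem conj_z {β : Fin n × Bool} (hβ : β.1 ≠ k) (p q : Fr.Adm) :
    ∃ s : F, M.Z β p * M.Z (k, true) q * (M.Z β p)⁻¹ = M.X (k, true) β s * M.Z (k, true) q := by
  have h1 := comm_ZZ M (x := β) (y := (k, true)) hβ p q
  refine ⟨-(H.ε⁻¹ * Fr.η β * Fr.η (k, true) * H.σ (-(Fr.η (k, true) * H.σ (H.h p.w q.w)))), ?_⟩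
  rw [← X_swap M (a := β) (b := (k, true)) hβ, ← h1, commutatorElement_def]; group

/-- the value of the parameter -/
theorem conj_z' (hs : ∀ m : F, ∃ p q : Fr.Adm, H.h p.w q.w = m) {β : Fin n × Bool} (hβ : β.1 ≠ k) (s : F) :
    ∃ p q : Fr.Adm, M.Z β p * M.Z (k, true) q * (M.Z β p)⁻¹ = M.X (k, true) β s * M.Z (k, true) q := by
  set t : F := -(H.ε⁻¹ * Fr.η (k, true) * Fr.η β * H.σ s) with ht
  obtain ⟨p, q, hpq⟩ := hs (H.σ (-(t * (Fr.η (k, true))⁻¹)))
  have h1 := comm_ZZ M (x := β) (y := (k, true)) hβ p q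
  have h2 : -(Fr.η (k, true) * H.σ (H.h p.w q.w)) = t := by
    rw [hpq, H.σσ, mul_neg, _root_.neg_neg]
    have := Fr.η_ne (k, true)
    field_simp
  rw [h2, ht, ← X_swap M (a := (k, true)) (b := β) (Ne.symm hβ)] at h1
  exact ⟨p, q, by rw [← h1, commutatorElement_def]; group⟩

theorem conj_x_neg {β : Fin n × Bool} (hβ : β.1 ≠ k) (p : Fr.Adm) :
    ∃ s : F, M.Z β p * M.X (k, true) (neg β) 1 * (M.Z β p)⁻¹ =
      (M.Z (k, true) p * M.X (k, true) β s)⁻¹ * M.X (k, true) (neg β) 1 := by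
  have h1 := comm_XZ M (x := (k, true)) (y := β) (Ne.symm hβ) 1 p
  rw [map_one, Frame.Adm.one_smul] at h1
  exact ⟨_, by rw [← h1, commutatorElement_def]; group⟩

theorem inv_eq {x : K} (hx : x ∈ X0) : x⁻¹ = x := inv_eq_of_mul_eq_one_left (R.sq x hx)

/-! ### The trilinear form vanishes -/

section Zero

variable (hF2 : ∀ t : F, t = 0 ∨ t = 1) {c : V} (hc : b a c = 1)

/-- the third slot kills -/
theorem tr_a (hs : ∀ m : F, ∃ p q : Fr.Adm, H.h p.w q.w = m) (hc : b a c = 1) {β : Fin n × Bool} (hβ : β.1 ≠ k)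
    {α γ : Fin n × Bool} (hα : α.1 ≠ k) (hγ : γ.1 ≠ k) (hαβ : α ≠ neg β) (hγβ : γ ≠ neg β) (s t u : F) :
    tr ρ b c (M.X (k, true) α s) (M.X (k, true) γ t) (M.X (k, true) β u) = 0 := by
  obtain ⟨p, q, h1⟩ := conj_z' M R hX hk hK hs hβ u
  have hg := z_fix M R hX hk hK hβ p
  have m1 := x_mem M R hX hk hK hα s
  have m2 := x_mem M R hX hk hK hγ t
  have m3 := x_mem M R hX hk hK hβ u
  have m4 := z_mem M R hX hk hK q
  have h2 := tr_conj R hc hg m1 m2 m4
  rw [conj_x M R hX hk hK hβ hαβ, conj_x M R hX hk hK hβ hγβ, h1, tr_add3 R m1 m2 m3 m4] at h2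
  exact add_eq_right.1 h2

theorem xone {α : Fin n × Bool} {s : F} (hF2 : ∀ t : F, t = 0 ∨ t = 1) :
    M.X (k, true) α s = 1 ∨ M.X (k, true) α s = M.X (k, true) α 1 := by
  rcases hF2 s with rfl | rfl
  · exact Or.inl (X_zero M _ _)
  · exact Or.inr rfl

theorem tr_one2 (x t : K) : tr ρ b c x 1 t = 0 := by
  unfold tr
  rw [dl_one, map_zero, LinearMap.zero_apply]

theorem tr_one3 (x y : K) : tr ρ b c x y 1 = 0 := by
  unfold tr
  rw [dl_one, map_zero]

/-- (a') three root elements -/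
theorem tr_xxx (hs : ∀ m : F, ∃ p q : Fr.Adm, H.h p.w q.w = m) (hF2 : ∀ t : F, t = 0 ∨ t = 1) (hc : b a c = 1)
    {α β γ : Fin n × Bool} (hα : α.1 ≠ k) (hβ : β.1 ≠ k) (hγ : γ.1 ≠ k) :
    tr ρ b c (M.X (k, true) α 1) (M.X (k, true) β 1) (M.X (k, true) γ 1) = 0 := by
  have m1 := x_mem M R hX hk hK hα 1
  have m2 := x_mem M R hX hk hK hβ 1
  have m3 := x_mem M R hX hk hK hγ 1
  by_cases e1 : α = β
  · subst e1; exact tr_self R m1 c _
  by_cases e2 : β = γ
  · subst e2; exact tr_self' R m2 _ c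
  by_cases e3 : α = γ
  · subst e3
    rw [tr_swap23 R m1 m2 m1 c]
    exact tr_self R m1 c _
  by_cases e4 : α = neg γ
  · -- slot `β`
    rw [tr_swap23 R m1 m2 m3 c]
    refine tr_a M R hX hk hK hs hc hβ hα hγ ?_ ?_ 1 1 1
    · rintro rfl
      apply e2
      have := congrArg neg e4
      rwa [neg_neg, neg_neg] at this
    · rintro rfl
      rw [neg_neg] at e4
      exact e1 e4
  by_cases e5 : β = neg γ
  · -- slot `α`
    have h1 : tr ρ b c (M.X (k, true) α 1) (M.X (k, true) β 1) (M.X (k, true) γ 1) =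
        tr ρ b c (M.X (k, true) β 1) (M.X (k, true) γ 1) (M.X (k, true) α 1) := by
      rw [tr_swap R m1 m2, tr_swap23 R m2 m1 m3]
    rw [h1]
    refine tr_a M R hX hk hK hs hc hα hβ hγ ?_ ?_ 1 1 1
    · rintro rfl
      apply e3
      have := congrArg neg e5
      rwa [neg_neg, neg_neg] at this
    · rintro rfl
      rw [neg_neg] at e5
      exact e1 e5.symm
  · exact tr_a M R hX hk hK hs hc hγ hα hβ e4 e5 1 1 1

/-- (b) -/
theorem tr_zxx (hn : 3 ≤ n) (hs : ∀ m : F, ∃ p q : Fr.Adm, H.h p.w q.w = m) (hF2 : ∀ t : F, t = 0 ∨ t = 1)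
    (hc : b a c = 1) {α β : Fin n × Bool} (hα : α.1 ≠ k) (hβ : β.1 ≠ k) (p : Fr.Adm) :
    tr ρ b c (M.Z (k, true) p) (M.X (k, true) α 1) (M.X (k, true) β 1) = 0 := by
  obtain ⟨γ, hγ, h1, h2⟩ : ∃ γ : Fin n × Bool, γ.1 ≠ k ∧ α ≠ neg γ ∧ β ≠ neg γ := by
    have e1 : (⟨1, by omega⟩ : Fin n) ≠ k := by intro h; have := congrArg Fin.val h; simp only at this; omega
    have e2 : (⟨2, by omega⟩ : Fin n) ≠ k := by intro h; have := congrArg Fin.val h; simp only at this; omega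
    have e3 : (⟨1, by omega⟩ : Fin n) ≠ ⟨2, by omega⟩ := by intro h; have := congrArg Fin.val h; simp at this
    by_cases h1 : α.1 = ⟨1, by omega⟩
    · by_cases h2 : β.1 = ⟨1, by omega⟩
      · exact ⟨(⟨2, by omega⟩, true), e2, fun h => e3 (h1 ▸ congrArg Prod.fst h), fun h => e3 (h2 ▸ congrArg Prod.fst h)⟩
      · -- `β` may have index 2
        refine ⟨(⟨1, by omega⟩, α.2), e1, ?_, fun h => h2 (congrArg Prod.fst h)⟩
        intro h
        have h3 : α.2 = !α.2 := congrArg Prod.snd h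
        cases h4 : α.2 <;> rw [h4] at h3 <;> exact absurd h3 (by decide)
    · by_cases h2 : β.1 = ⟨1, by omega⟩
      · refine ⟨(⟨1, by omega⟩, β.2), e1, fun h => h1 (congrArg Prod.fst h), ?_⟩
        intro h
        have h3 : β.2 = !β.2 := congrArg Prod.snd h
        cases h4 : β.2 <;> rw [h4] at h3 <;> exact absurd h3 (by decide)
      · exact ⟨(⟨1, by omega⟩, true), e1, fun h => h1 (congrArg Prod.fst h), fun h => h2 (congrArg Prod.fst h)⟩
  have hnγ : (neg γ).1 ≠ k := hγ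
  obtain ⟨s, h3⟩ := conj_x_neg M R hX hk hK hγ p
  have hg := z_fix M R hX hk hK hγ p
  have m1 := x_mem M R hX hk hK hα 1
  have m2 := x_mem M R hX hk hK hβ 1
  have m3 := x_mem M R hX hk hK hnγ 1
  have m4 := z_mem M R hX hk hK p
  have m5 := x_mem M R hX hk hK hγ s
  have h4 := tr_conj R hc hg m3 m1 m2
  rw [conj_x M R hX hk hK hγ h1, conj_x M R hX hk hK hγ h2, h3, inv_eq M R hX hk hK (mul_mem m4 m5),
    tr_add1 R (mul_mem m4 m5) m3 m1 m2, tr_add1 R m4 m5 m1 m2] at h4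
  have h5 : tr ρ b c (M.X (k, true) γ s) (M.X (k, true) α 1) (M.X (k, true) β 1) = 0 := by
    rcases xone M R hX hk hK (α := γ) (s := s) hF2 with h6 | h6
    · rw [h6]; exact tr_one1 R c _ _
    · rw [h6]; exact tr_xxx M R hX hk hK hs hF2 hc hγ hα hβ
  rw [h5, add_zero] at h4
  exact add_eq_right.1 h4

/-- (c) -/
theorem tr_zzx (hn : 3 ≤ n) (hs : ∀ m : F, ∃ p q : Fr.Adm, H.h p.w q.w = m) (hF2 : ∀ t : F, t = 0 ∨ t = 1)
    (hc : b a c = 1) {α : Fin n × Bool} (hα : α.1 ≠ k) (p q : Fr.Adm) :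
    tr ρ b c (M.Z (k, true) p) (M.Z (k, true) q) (M.X (k, true) α 1) = 0 := by
  have hnα : (neg α).1 ≠ k := hα
  obtain ⟨s, h3⟩ := conj_x_neg M R hX hk hK hα p
  obtain ⟨t, h4⟩ := conj_z M R hX hk hK hα p q
  have hg := z_fix M R hX hk hK hα p
  have m1 := x_mem M R hX hk hK hα 1
  have m3 := x_mem M R hX hk hK hnα 1
  have m4 := z_mem M R hX hk hK p
  have m5 := x_mem M R hX hk hK hα s
  have m6 := z_mem M R hX hk hK q
  have m7 := x_mem M R hX hk hK hα t
  have hne : α ≠ neg α := by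
    intro h
    have h3 : α.2 = !α.2 := congrArg Prod.snd h
    cases h4 : α.2 <;> rw [h4] at h3 <;> exact absurd h3 (by decide)
  have h5 := tr_conj R hc hg m3 m6 m1
  have k1 : ∀ x ∈ X0, ∀ u : F, tr ρ b c x (M.X (k, true) α u) (M.X (k, true) α 1) = 0 := by
    intro x hx u
    rcases xone M R hX hk hK (α := α) (s := u) hF2 with h6 | h6
    · rw [h6]; exact tr_one2 M R hX hk hK _ _
    · rw [h6]; exact tr_self' R m1 x c
  have k2 : ∀ x ∈ X0, ∀ u : F, tr ρ b c (M.X (k, true) α u) x (M.X (k, true) α 1) = 0 := by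
    intro x hx u
    rw [tr_swap R (x_mem M R hX hk hK hα u) hx]
    exact k1 x hx u
  rw [conj_x M R hX hk hK hα hne, h4, h3, inv_eq M R hX hk hK (mul_mem m4 m5),
    tr_add1 R (mul_mem m4 m5) m3 (mul_mem m7 m6) m1, tr_add1 R m4 m5 (mul_mem m7 m6) m1,
    tr_add2 R m4 m7 m6 m1, k1 _ m4 t, k2 _ (mul_mem m7 m6) s, tr_add2 R m3 m7 m6 m1, k1 _ m3 t] at h5
  rw [zero_add, add_zero, zero_add] at h5
  exact add_eq_right.1 h5

/-- (d) -/
theorem tr_zzz (hd : ∀ p q r : Fr.Adm, p = 1 ∨ q = 1 ∨ p = q ∨ p = r ∨ q = r ∨ r = 1 ∨ r = p * q)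
    (p q r : Fr.Adm) : tr ρ b c (M.Z (k, true) p) (M.Z (k, true) q) (M.Z (k, true) r) = 0 := by
  have m1 := z_mem M R hX hk hK p
  have m2 := z_mem M R hX hk hK q
  have m3 := z_mem M R hX hk hK r
  rcases hd p q r with h | h | h | h | h | h | h
  · subst h; rw [Z_one]; exact tr_one1 R c _ _
  · subst h; rw [Z_one]; exact tr_one2 M R hX hk hK _ _
  · subst h; exact tr_self R m1 c _
  · subst h
    rw [tr_swap23 R m1 m2 m1 c]
    exact tr_self R m1 c _
  · subst h; exact tr_self' R m2 _ c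
  · subst h; rw [Z_one]; exact tr_one3 M R hX hk hK _ _
  · subst h
    rw [Z_mul, tr_add3 R m1 m2 m1 m2, tr_swap23 R m1 m2 m1 c, tr_self R m1 c, tr_self' R m2, add_zero]

/-- induction over `X0` -/
theorem ind {P : K → Prop} (hF2 : ∀ t : F, t = 0 ∨ t = 1) (h1 : P 1) (hmul : ∀ u ∈ X0, ∀ v ∈ X0, P u → P v → P (u * v))
    (hx : ∀ α : Fin n × Bool, α.1 ≠ k → P (M.X (k, true) α 1)) (hz : ∀ p, P (M.Z (k, true) p)) : ∀ u ∈ X0, P u := by
  have : Finite W := finite_W cs
  intro u hu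
  have hu' : u ∈ RGD.Sup (Nodes.WittModel.X M) (NotJ cs (isCartan n) (Mv ρ nn a)ᶜ) := by rw [hX] at hu; exact hu
  have hle : ∀ r ∈ NotJ cs (isCartan n) (Mv ρ nn a)ᶜ, Nodes.WittModel.X M r ≤ X0 := by
    intro r hr
    rw [hX]
    exact RGD.le_Sup hr
  have key : u ∈ X0 ∧ P u := by
    unfold RGD.Sup at hu'
    refine Subgroup.iSup_induction (C := fun u => u ∈ X0 ∧ P u) _ hu' ?_ ⟨one_mem _, h1⟩
      (fun x y hx hy => ⟨mul_mem hx.1 hy.1, hmul x hx.1 y hy.1 hx.2 hy.2⟩)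
    rintro ⟨r, hr⟩ g hg
    refine ⟨hle r hr hg, ?_⟩
    obtain ⟨hr1, h0, i, hi, hri⟩ := hr
    have hik : i = k := by
      by_contra hne
      apply hi
      intro h2
      rw [hK] at h2
      exact hne h2
    subst hik
    obtain ⟨⟨j, s⟩, β, hs1, hij, hok, e⟩ := exists_pos hr1 h0
    simp only at hs1 hij
    subst hs1
    have hj : j = i := by
      by_contra hne
      have h3 := coef e i
      have h4 : ¬ j ≤ i := by
        intro h5
        exact hne (le_antisymm h5 (by rw [Fin.le_def]; omega))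
      have h5 : ¬ β.1 ≤ i := fun h6 => h4 (hij.trans h6)
      simp only [h4, h5, if_false, add_zero] at h3
      split_ifs at h3 <;> omega
    subst hj
    rcases hok with h4 | h4
    · have hβ : β.1 ≠ j := fun h5 => h4 h5.symm
      obtain ⟨t, rfl⟩ := (mem_XK M h4 e).1 hg
      rcases hF2 t with rfl | rfl
      · rw [X_zero]; exact h1
      · exact hx β hβ
    · subst h4
      obtain ⟨p, rfl⟩ := (mem_ZK M e).1 hg
      exact hz p
  exact key.2

theorem tr_zero (hn : 3 ≤ n) (hs : ∀ m : F, ∃ p q : Fr.Adm, H.h p.w q.w = m) (hF2 : ∀ t : F, t = 0 ∨ t = 1)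
    (hd : ∀ p q r : Fr.Adm, p = 1 ∨ q = 1 ∨ p = q ∨ p = r ∨ q = r ∨ r = 1 ∨ r = p * q)
    (hc : b a c = 1) : ∀ x ∈ X0, ∀ y ∈ X0, ∀ t ∈ X0, tr ρ b c x y t = 0 := by
  have mx := fun (α : Fin n × Bool) (hα : α.1 ≠ k) => x_mem M R hX hk hK hα 1
  have mz := z_mem M R hX hk hK
  have zxz : ∀ (p q : Fr.Adm) (α : Fin n × Bool) (hα : α.1 ≠ k),
      tr ρ b c (M.Z (k, true) p) (M.X (k, true) α 1) (M.Z (k, true) q) = 0 := by
    intro p q α hα
    rw [tr_swap23 R (mz p) (mx α hα) (mz q)]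
    exact tr_zzx M R hX hk hK hn hs hF2 hc hα p q
  have xzz : ∀ (p q : Fr.Adm) (α : Fin n × Bool) (hα : α.1 ≠ k),
      tr ρ b c (M.X (k, true) α 1) (M.Z (k, true) p) (M.Z (k, true) q) = 0 := by
    intro p q α hα
    rw [tr_swap R (mx α hα) (mz p)]
    exact zxz p q α hα
  have xzx : ∀ (p : Fr.Adm) (α β : Fin n × Bool) (hα : α.1 ≠ k) (hβ : β.1 ≠ k),
      tr ρ b c (M.X (k, true) α 1) (M.Z (k, true) p) (M.X (k, true) β 1) = 0 := by
    intro p α β hα hβ
    rw [tr_swap R (mx α hα) (mz p)]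
    exact tr_zxx M R hX hk hK hn hs hF2 hc hα hβ p
  have xxz : ∀ (p : Fr.Adm) (α β : Fin n × Bool) (hα : α.1 ≠ k) (hβ : β.1 ≠ k),
      tr ρ b c (M.X (k, true) α 1) (M.X (k, true) β 1) (M.Z (k, true) p) = 0 := by
    intro p α β hα hβ
    rw [tr_swap23 R (mx α hα) (mx β hβ) (mz p)]
    exact xzx p α β hα hβ
  refine ind M R hX hk hK hF2 (fun y _ t _ => tr_one1 R c y t)
    (fun u hu v hv h1 h2 y hy t ht => by rw [tr_add1 R hu hv hy ht, h1 y hy t ht, h2 y hy t ht, add_zero]) ?_ ?_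
  · intro α hα
    refine ind M R hX hk hK hF2 (fun t _ => tr_one2 M R hX hk hK _ t)
      (fun u hu v hv h1 h2 t ht => by rw [tr_add2 R (mx α hα) hu hv ht, h1 t ht, h2 t ht, add_zero]) ?_ ?_
    · intro β hβ
      exact ind M R hX hk hK hF2 (tr_one3 M R hX hk hK _ _)
        (fun u hu v hv h1 h2 => by rw [tr_add3 R (mx α hα) (mx β hβ) hu hv, h1, h2, add_zero])
        (fun γ hγ => tr_xxx M R hX hk hK hs hF2 hc hα hβ hγ) (fun p => xxz p α β hα hβ)
    · intro p
      exact ind M R hX hk hK hF2 (tr_one3 M R hX hk hK _ _)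
        (fun u hu v hv h1 h2 => by rw [tr_add3 R (mx α hα) (mz p) hu hv, h1, h2, add_zero])
        (fun γ hγ => xzx p α γ hα hγ) (fun q => xzz p q α hα)
  · intro p
    refine ind M R hX hk hK hF2 (fun t _ => tr_one2 M R hX hk hK _ t)
      (fun u hu v hv h1 h2 t ht => by rw [tr_add2 R (mz p) hu hv ht, h1 t ht, h2 t ht, add_zero]) ?_ ?_
    · intro β hβ
      exact ind M R hX hk hK hF2 (tr_one3 M R hX hk hK _ _)
        (fun u hu v hv h1 h2 => by rw [tr_add3 R (mz p) (mx β hβ) hu hv, h1, h2, add_zero])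
        (fun γ hγ => tr_zxx M R hX hk hK hn hs hF2 hc hβ hγ p) (fun q => zxz p q β hβ)
    · intro q
      exact ind M R hX hk hK hF2 (tr_one3 M R hX hk hK _ _)
        (fun u hu v hv h1 h2 => by rw [tr_add3 R (mz p) (mz q) hu hv, h1, h2, add_zero])
        (fun γ hγ => tr_zzx M R hX hk hK hn hs hF2 hc hγ p q) (fun r => tr_zzz M R hX hk hK hd p q r)

end Zero

omit hX hk hK in
/-- **The orthogonal groups of minus type.** -/
theorem dead_minus [CharP F 2] [Finite V'] (hA : AmbT Fr 2 M.I) (hn : 3 ≤ n)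
    (hs : ∀ m : F, ∃ p q : Fr.Adm, H.h p.w q.w = m) (htr : ∀ m, (Frame.Adm.tr m : Fr.Adm) = 1) {m : ℕ} (hm : 0 < m)
    (hcF : Nat.card F = 2 ^ m)
    (hd : Nat.card F = 2 → ∀ p q r : Fr.Adm, p = 1 ∨ q = 1 ∨ p = q ∨ p = r ∨ q = r ∨ r = 1 ∨ r = p * q) : False := by
  have : Fact (Nat.Prime 2) := ⟨Nat.prime_two⟩
  have : Finite W := finite_W cs
  have hX := eq_VJ M R (gd_of_surj M hs)
  obtain ⟨k, hkM⟩ := mv_nonempty R
  have hk := mv_naz R hX (naz M hA hs) hkM
  have hK : Mv ρ nn a = {k} := by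
    ext j
    refine ⟨fun hj => ?_, by rintro rfl; exact hkM⟩
    have h2 := mv_naz R hX (naz M hA hs) hj
    exact Fin.ext (by omega)
  have h1 := short_le M R hA hX hk hK (by omega) htr hcF
  have hm1 : m = 1 := by omega
  rw [hm1, pow_one] at hcF
  have hF2 : ∀ t : F, t = 0 ∨ t = 1 := by
    intro t
    by_contra hcon
    push Not at hcon
    have : Finite F := Nat.finite_of_card_ne_zero (by rw [hcF]; norm_num)
    have := Fintype.ofFinite F
    rw [Nat.card_eq_fintype_card] at hcF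
    have h2 : 2 < Fintype.card F := Fintype.two_lt_card_iff.2 ⟨t, 0, 1, hcon.1, hcon.2, zero_ne_one⟩
    omega
  obtain ⟨c, hc⟩ := exists_c R
  have hne : X0 ≠ ⊥ := by
    intro h2
    have h3 := R.card_X
    rw [h2, Subgroup.card_bot] at h3
    have h4 : 2 ^ 1 ≤ 2 ^ (w - 1) := Nat.pow_le_pow_right (by norm_num) (by have := R.six; omega)
    omega
  obtain ⟨⟨x, hx⟩, hx1⟩ := Subgroup.ne_bot_iff_exists_ne_one.1 hne
  have hx1 : x ≠ 1 := fun h => hx1 (Subtype.ext h)
  obtain ⟨y, hy, t, ht, h2⟩ := R.tri x hx hx1 c hc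
  exact h2 (tr_zero M R hX hk hK hn hs hF2 (hd hcF) hc x hx y hy t ht)

end Cfsg.Agent.Omega.EH3.Kf.TwMinus

end

section


/-!
# EH3, Lie rows in characteristic 2: `PΩ⁻_{2n+2}(q)` (helper94; K6)
-/

set_option autoImplicit false
set_option linter.unusedVariables false
set_option linter.unusedSectionVars false

namespace Cfsg.Agent.Omega.EH3.Kf.TwOmm

open Cfsg.Agent.ChevalleyStructure.CoxeterGeom Cfsg.Agent.Tits.Roots Cfsg.Agent.Nodes.TypeC
open Cfsg.Agent.Nodes.WittAll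
open Cfsg Cfsg.Agent.TitsThree Cfsg.Agent.TitsThree.Siegel Cfsg.Agent.TitsThree.SiegelGen
  Cfsg.Agent.TitsThree.WittFrame Cfsg.Agent.TitsThree.WBridge Cfsg.Agent.TitsThree.WittWeyl
  Cfsg.Agent.TitsThree.FrameCN Cfsg.Agent.TitsThree.KSideO Cfsg.Agent.LieClassical.OrthForms

universe u

section Frame

variable (m : ℕ) (F : Type*) [Field F] (a b : F)
  (hab : ∀ z₁ z₂ : F, z₁ ^ 2 + a * z₁ * z₂ + b * z₂ ^ 2 = 0 → z₁ = 0 ∧ z₂ = 0)

theorem adm_ext {p r : (toFrame (wminus m F a b hab)).Adm} (h0 : p.w (Sum.inr 0) = r.w (Sum.inr 0))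
    (h1 : p.w (Sum.inr 1) = r.w (Sum.inr 1)) : p = r := by
  have hw : p.w = r.w := by
    funext j
    rcases j with j | j
    · rw [p.ok.1 j, r.ok.1 j]
    · fin_cases j
      · exact h0
      · exact h1
  refine Frame.Adm.ext hw ?_
  have e1 : p.c = -(minusForm m F a b) p.w := p.ok.2
  have e2 : r.c = -(minusForm m F a b) r.w := r.ok.2
  rw [e1, e2, hw]

theorem htr (t : F) : (Frame.Adm.tr t : (toFrame (wminus m F a b hab)).Adm) = 1 := adm_ext m F a b hab rfl rfl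

theorem hd (hF2 : ∀ t : F, t = 0 ∨ t = 1) [CharP F 2] (p q r : (toFrame (wminus m F a b hab)).Adm) :
    p = 1 ∨ q = 1 ∨ p = q ∨ p = r ∨ q = r ∨ r = 1 ∨ r = p * q := by
  have h2 : (1 : F) + 1 = 0 := CharTwo.add_self_eq_zero 1
  have one0 : (1 : (toFrame (wminus m F a b hab)).Adm).w (Sum.inr 0) = 0 := rfl
  have one1 : (1 : (toFrame (wminus m F a b hab)).Adm).w (Sum.inr 1) = 0 := rfl
  have mul0 : (p * q).w (Sum.inr 0) = p.w (Sum.inr 0) + q.w (Sum.inr 0) := rfl
  have mul1 : (p * q).w (Sum.inr 1) = p.w (Sum.inr 1) + q.w (Sum.inr 1) := rfl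
  have key : ∀ u v : (toFrame (wminus m F a b hab)).Adm, u ≠ v →
      u.w (Sum.inr 0) ≠ v.w (Sum.inr 0) ∨ u.w (Sum.inr 1) ≠ v.w (Sum.inr 1) := by
    intro u v huv
    by_contra hcon
    push Not at hcon
    exact huv (adm_ext m F a b hab hcon.1 hcon.2)
  by_contra hcon
  push Not at hcon
  obtain ⟨e1, e2, e3, e4, e5, e6, e7⟩ := hcon
  have k1 := key _ _ e1
  have k2 := key _ _ e2
  have k3 := key _ _ e3
  have k4 := key _ _ e4
  have k5 := key _ _ e5
  have k6 := key _ _ e6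
  have k7 := key _ _ e7
  rw [one0, one1] at k1 k2 k6
  rw [mul0, mul1] at k7
  rcases hF2 (p.w (Sum.inr 0)) with h | h <;> rcases hF2 (p.w (Sum.inr 1)) with h' | h' <;>
    rcases hF2 (q.w (Sum.inr 0)) with g | g <;> rcases hF2 (q.w (Sum.inr 1)) with g' | g' <;>
    rcases hF2 (r.w (Sum.inr 0)) with l | l <;> rcases hF2 (r.w (Sum.inr 1)) with l' | l' <;>
    simp [h, h', g, g', l, l', h2] at k1 k2 k3 k4 k5 k6 k7

end Frame

/-- the row, from the bundle of data -/
theorem kfRow_of_bd {F : Type*} [Field F] [Fintype F] [CharP F 2] (m : ℕ) (hm : 3 ≤ m) (a b : F)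
    (hab : ∀ z₁ z₂ : F, z₁ ^ 2 + a * z₁ * z₂ + b * z₂ ^ 2 = 0 → z₁ = 0 ∧ z₂ = 0) {K : Type*} [Group K] [Finite K]
    (M : Model (toFrame (wminus m F a b hab)) K) (hA : AmbT (toFrame (wminus m F a b hab)) 2 M.I)
    (hs : ∀ t : F, ∃ p q : (toFrame (wminus m F a b hab)).Adm,
      (Cfsg.Agent.TitsThree.KSideO.HO (minusForm m F a b)).h p.w q.w = t)
    {T : Subgroup K} {nn : Fin m → K}
    (B : FamRow.Bd (CoxeterMatrix.B m) (isCartan m) T nn (Nodes.WittModel.X M)) : FamRow.KfRow.{u} K := by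
  refine ⟨m, CoxeterMatrix.B m, A m, isCartan m, T, nn, Nodes.WittModel.X M, B, ?_⟩
  intro V _ _ ρ b a D X0 w R
  exfalso
  obtain ⟨j, -, hj⟩ := FiniteField.card F 2
  refine TwMinus.dead_minus M R hA hm hs (htr m F _ _ hab) (m := (j : ℕ)) j.2 (by rw [Nat.card_eq_fintype_card, hj]) ?_
  intro hc p q r
  refine hd m F _ _ hab ?_ p q r
  intro t
  by_contra hcon
  push Not at hcon
  rw [Nat.card_eq_fintype_card] at hc
  have h2 : 2 < Fintype.card F := Fintype.two_lt_card_iff.2 ⟨t, 0, 1, hcon.1, hcon.2, zero_ne_one⟩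
  omega

end Cfsg.Agent.Omega.EH3.Kf.TwOmm

end

end

-- merged: Cfsg.Agent.Mrg.Omega.EH3.Kf.TwUni
section

/-!
# EH3, Lie rows in characteristic 2: `PSU_{2m}(q)`, `m ≥ 2` (helper94; K6)

`kfRow_even`, `psuEven` (the field of `Table.Rows`): the end data are those of `U₆(2)`.
-/

set_option autoImplicit false
set_option linter.unusedVariables false
set_option linter.unusedSectionVars false

namespace Cfsg.Agent.Omega.EH3.Kf.TwUni

open CoxeterSystem Cfsg.Agent.ChevalleyStructure.CoxeterGeom Cfsg.Agent.Tits.Roots Cfsg.Agent.Tits.Core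
  Cfsg.Agent.Tits.RootComb Cfsg.Agent.Nodes.TypeC
open Cfsg.Agent.Nodes.Comb Cfsg.Agent.Nodes.Reps Cfsg.Agent.Nodes.WittRoot Cfsg.Agent.Nodes.BNOf
open Cfsg.Agent.Nodes.StabComb Cfsg.Agent.Nodes.Bruhat Cfsg.Agent.Nodes.LeviDec
open Cfsg.Agent.Nodes.RGDLib Cfsg.Agent.Nodes.WittAll
open Cfsg Cfsg.Agent.LieClassical.HermBasic
open Cfsg.Agent.TitsThree Cfsg.Agent.TitsThree.Siegel Cfsg.Agent.TitsThree.SiegelGen
  Cfsg.Agent.TitsThree.WittFrame Cfsg.Agent.TitsThree.WBridge Cfsg.Agent.TitsThree.WittWeyl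
  Cfsg.Agent.TitsThree.FrameCN Cfsg.Agent.TitsThree.KSideU Cfsg.Agent.TitsThree.KSideUDesc
open Cfsg.Agent.Omega.EH3.Kf.TwC Cfsg.Agent.Omega.EH3.Kf.TwWitt Cfsg.Agent.Omega.EH3.Kf.TwRow
  Cfsg.Agent.Omega.EH3.Kf.Base Cfsg.Agent.Omega.EH3.Kf.FamRow Cfsg.Agent.Omega.EH3.Kf.Goal
open scoped commutatorElement Pointwise

universe u

/-! ### The order of a commuting join -/

theorem card_sup_le {Y : Type*} [Group Y] [Finite Y] {A B : Subgroup Y} (h : ∀ u ∈ A, ∀ v ∈ B, u * v = v * u) :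
    Nat.card (A ⊔ B : Subgroup Y) ≤ Nat.card A * Nat.card B := by
  have hn : A ≤ Subgroup.normalizer (B : Set Y) := by
    intro g hg
    rw [Subgroup.mem_normalizer_iff]
    intro v
    refine ⟨fun hv => ?_, fun hv => ?_⟩
    · rw [h g hg v hv, mul_inv_cancel_right]; exact hv
    · have h1 := h g⁻¹ (inv_mem hg) _ hv
      have h2 : v = g⁻¹ * (g * v * g⁻¹) * g := by group
      rw [h2, h1, inv_mul_cancel_right]
      exact hv
  have e : ((A ⊔ B : Subgroup Y) : Set Y) = (A : Set Y) * (B : Set Y) :=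
    Subgroup.coe_mul_of_left_le_normalizer_right _ _ hn
  have h1 : Nat.card (A ⊔ B : Subgroup Y) = Nat.card ((A : Set Y) * (B : Set Y) : Set Y) := by
    rw [← e]; rfl
  rw [h1]
  exact Set.natCard_mul_le

/-- `|VJ| ≤ 16` for `n = 2`, `|F| = 4`, `|Adm| = 2` -/
theorem card_VJ_two {F : Type*} [Field F] {V' : Type*} [AddCommGroup V'] [Module F V'] {H : HForm F V'}
    {Fr : Frame H (Fin 2)} {K : Type*} [Group K] [Finite K] (M : Model Fr K) [CharP F 2] [Finite V']
    (hA : AmbT Fr 2 M.I) {W : Type*} [Group W] {cs : CoxeterSystem (CoxeterMatrix.B 2) W}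
    (hab : ∀ u ∈ VJ cs (isCartan 2) (Nodes.WittModel.X M) ({1}ᶜ : Set (Fin 2)),
      ∀ v ∈ VJ cs (isCartan 2) (Nodes.WittModel.X M) ({1}ᶜ : Set (Fin 2)), u * v = v * u) {c d : ℕ}
    (hc : Nat.card F = c) (hd : Nat.card Fr.Adm = d) :
    Nat.card (VJ cs (isCartan 2) (Nodes.WittModel.X M) ({1}ᶜ : Set (Fin 2))) ≤ c * d * d := by
  have : Fact (Nat.Prime 2) := ⟨Nat.prime_two⟩
  obtain ⟨x, hx, ex⟩ := exists_root cs (a := ((0 : Fin 2), true)) (b := (1, true)) (Or.inl (by decide)) rfl (by decide)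
  obtain ⟨y, hy, ey⟩ := exists_root cs (a := ((0 : Fin 2), true)) (b := (0, true)) (Or.inr rfl) rfl le_rfl
  obtain ⟨z, hz, ez⟩ := exists_root cs (a := ((1 : Fin 2), true)) (b := (1, true)) (Or.inr rfl) rfl le_rfl
  set U := VJ cs (isCartan 2) (Nodes.WittModel.X M) ({1}ᶜ : Set (Fin 2)) with hU
  have m1 : ∀ {r : Fin 2 → ℤ}, r ∈ RGD.Pos cs (isCartan 2) → 0 < r 1 → Nodes.WittModel.X M r ≤ U := by
    intro r hr h1
    exact RGD.le_Sup ⟨hr.1, hr.2, 1, fun h => h rfl, h1⟩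
  have hxU := m1 hx (pos_add ex (by decide))
  have hyU := m1 hy (pos_add ey (by decide))
  have hzU := m1 hz (pos_add ez (by decide))
  have hle : U ≤ (Nodes.WittModel.X M x ⊔ Nodes.WittModel.X M y) ⊔ Nodes.WittModel.X M z := by
    refine RGD.Sup_le ?_
    rintro r ⟨hr, h0, i, hi, hri⟩
    have hi1 : i = 1 := by
      by_contra hne
      exact hi hne
    subst hi1
    obtain ⟨⟨i, s⟩, ⟨j, t⟩, hs1, hij, hok, e⟩ := exists_pos hr h0
    simp only at hs1 hij
    subst hs1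
    have h3 := coef e 1
    rcases hok with h4 | h4
    · -- short
      have hi0 : i = 0 := by
        have : i ≠ j := h4
        omega
      have hj1 : j = 1 := by
        have : i ≠ j := h4
        omega
      subst hi0 hj1
      cases t
      · exfalso
        simp [sn] at h3
        omega
      · have : r = x := ee_injective (e.trans ex.symm)
        subst this
        exact le_sup_left.trans le_sup_left
    · have h5 := (Prod.mk.inj h4).1
      have h6 := (Prod.mk.inj h4).2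
      subst h5 h6
      rcases (show i = 0 ∨ i = 1 by omega) with h7 | h7
      · subst h7
        have : r = y := ee_injective (e.trans ey.symm)
        subst this
        exact le_sup_right.trans le_sup_left
      · subst h7
        have : r = z := ee_injective (e.trans ez.symm)
        subst this
        exact le_sup_right
  have h1 : Nat.card U ≤ Nat.card ((Nodes.WittModel.X M x ⊔ Nodes.WittModel.X M y) ⊔ Nodes.WittModel.X M z : Subgroup K) :=
    Subgroup.card_le_of_le hle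
  have h2 := card_sup_le (A := Nodes.WittModel.X M x ⊔ Nodes.WittModel.X M y) (B := Nodes.WittModel.X M z)
    fun u hu v hv => hab u (sup_le hxU hyU hu) v (hzU hv)
  have h3 := card_sup_le (A := Nodes.WittModel.X M x) (B := Nodes.WittModel.X M y)
    fun u hu v hv => hab u (hxU hu) v (hyU hv)
  rw [card_short M hA (a := (0, true)) (b := (1, true)) (by decide) ex, card_long M hA ey, hc, hd] at h3
  rw [card_long M hA ez, hd] at h2
  exact h1.trans (h2.trans (Nat.mul_le_mul_right _ h3))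

/-! ### The unitary groups of even dimension -/

section Unitary

variable {F : Type*} [Field F] [Fintype F] [CharP F 2] {q N m : ℕ} (hF : Fintype.card F = q ^ 2) (hN : 3 ≤ N)
  (W : WFrame (PU hF N) m) (hW : W.V0 = ⊥)

include hW

omit [CharP F 2] in
theorem w_zero (p : (toFrame W).Adm) : p.w = 0 := by
  have h1 := (toFrame W).ok_mem p.ok
  have h2 : p.w ∈ W.V0 := h1
  rw [hW] at h2
  exact (Submodule.mem_bot F).1 h2

omit [CharP F 2] in
theorem c_eq (p : (toFrame W).Adm) : p.c + p.c ^ q = 0 := by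
  have h2 := p.ok.2
  rw [ok_iff, w_zero hF W hW p, herm_zero_left, neg_zero] at h2
  exact h2

theorem htr (p : (toFrame W).Adm) : ∃ t, p = Frame.Adm.tr t := by
  have h1 := c_eq hF W hW p
  have h2 : p.c ^ q = p.c := by
    have h3 := eq_neg_of_add_eq_zero_right h1
    rw [h3, CharTwo.neg_eq]
  obtain ⟨t, ht⟩ := exists_trace_eq hF h2
  refine ⟨t, Frame.Adm.ext ?_ ?_⟩
  · rw [w_zero hF W hW]; rfl
  · rw [Frame.Adm.tr_c]
    show p.c = t - (1 : F)⁻¹ * t ^ q
    rw [inv_one, one_mul, CharTwo.sub_eq_add, ht]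

theorem card_adm : Nat.card (toFrame W).Adm = q := by
  classical
  -- the trace
  let f : F →+ F :=
    { toFun := fun t => t + t ^ q
      map_zero' := by rw [zero_pow_q hF, add_zero]
      map_add' := fun s t => by rw [add_pow_q hF]; ring }
  have hf : ∀ t, f t = t + t ^ q := fun _ => rfl
  have e1 : Nat.card (toFrame W).Adm = Nat.card f.ker := by
    refine Nat.card_congr
      { toFun := fun p => ⟨p.c, (AddMonoidHom.mem_ker).2 (by rw [hf]; exact c_eq hF W hW p)⟩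
        invFun := fun c => ⟨0, c.1, ⟨W.V0.zero_mem, by
          rw [ok_iff, herm_zero_left, neg_zero]
          exact AddMonoidHom.mem_ker.1 c.2⟩⟩
        left_inv := fun p => Frame.Adm.ext (w_zero hF W hW p).symm rfl
        right_inv := fun c => rfl }
  have e2 : f.range = f.ker := by
    ext c
    rw [AddMonoidHom.mem_ker, AddMonoidHom.mem_range, hf]
    constructor
    · rintro ⟨t, rfl⟩
      rw [hf, add_pow_q hF, pow_q_pow_q hF, add_comm (t ^ q) t, CharTwo.add_self_eq_zero]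
    · intro hc
      have h3 : c ^ q = c := by
        have h3 := eq_neg_of_add_eq_zero_right hc
        rw [h3, CharTwo.neg_eq]
      obtain ⟨t, ht⟩ := exists_trace_eq hF h3
      exact ⟨t, ht⟩
  have e3 : Nat.card F = Nat.card f.ker * Nat.card f.range := by
    have h1 := AddSubgroup.card_eq_card_quotient_mul_card_addSubgroup f.ker
    rw [Nat.card_congr (QuotientAddGroup.quotientKerEquivRange f).toEquiv] at h1
    rw [h1, mul_comm]
  rw [e2, Nat.card_eq_fintype_card, hF, ← e1] at e3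
  have : q * q = Nat.card (toFrame W).Adm * Nat.card (toFrame W).Adm := by rw [← sq]; exact e3
  exact (Nat.mul_self_inj.1 this).symm

end Unitary

/-- **`KfRow` for the unitary groups of even dimension `≥ 4`.** -/
theorem kfRow_even {F : Type*} [Field F] [Fintype F] [CharP F 2] {m q : ℕ} (hF : Fintype.card F = q ^ 2)
    (hm : 2 ≤ m) : KfRow.{u} (PSU (2 * m) F q) := by
  have hN : 3 ≤ 2 * m := by omega
  have : Fact (Nat.Prime 2) := ⟨Nat.prime_two⟩
  have : Finite (PSU (2 * m) F q) := Quotient.finite _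
  obtain ⟨W, hW⟩ := exists_wframe_even (N := 2 * m) hF rfl
  obtain ⟨p0, hp0, -⟩ := Nodes.WittU.exists_adm hF W
  set M := KInstU.model hF hN W with hM
  have hA1 : Amb (toFrame W) M.I := Nodes.WittU.amb_U hF W
  have hA : AmbT (toFrame W) 2 M.I := AmbT.of_amb hA1 2
  obtain ⟨k, hk⟩ : ∃ k, q = 2 ^ k := by
    obtain ⟨j, -, hj⟩ := FiniteField.card F 2
    rw [hF] at hj
    have h1 : q ∣ 2 ^ (j : ℕ) := by rw [← hj]; exact dvd_pow_self q two_ne_zero
    obtain ⟨k, -, hk⟩ := (Nat.dvd_prime_pow Nat.prime_two).1 h1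
    exact ⟨k, hk⟩
  have hk0 : 0 < k := by
    rcases Nat.eq_zero_or_pos k with h | h
    · exfalso
      have h1 := Fintype.one_lt_card (α := F)
      rw [hF, hk, h] at h1
      norm_num at h1
    · exact h
  have hcard := card_adm hF W hW
  refine ⟨m, CoxeterMatrix.B m, A m, isCartan m, Nodes.WittModel.T M, fun i => M.φ ⟨Nodes.WittRGD.nn (toFrame W) p0 i,
    nn_mem hA p0 i⟩, Nodes.WittModel.X M, ⟨finite_W (CoxeterMatrix.B m).toCoxeterSystem,
    rgdC_model M hA hp0 _, Nodes.WittModel.G1_eq_top _ (by omega) _, ?_, ?_⟩, ?_⟩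
  · -- `T` is abelian
    exact UOdd.T_comm M hA1 (d := 0) (Submodule.zero_mem _) fun w hw => ⟨0, by
      have h2 : w ∈ W.V0 := hw
      rw [hW] at h2
      rw [(Submodule.mem_bot F).1 h2, smul_zero]⟩
  · intro i u hu
    by_cases hi : (i : ℕ) + 1 < m
    · exact UOdd.sq_of_lt M hi hu
    · obtain ⟨p, rfl⟩ := (UOdd.mem_X_last M hi).1 hu
      rw [← Z_mul, (UOdd.sq_eq_one hA1).2 (w_zero hF W hW p), Z_one]
  · intro V _ _ ρ b a D X0 w R
    obtain ⟨h1, h3, i, hi, hK, hX⟩ := even_le M R hA (by omega) (htr hF W hW) hp0 hk0 (by rw [hcard, hk])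
    subst h1
    rw [pow_one] at hk
    subst hk
    have hm3 : m = 3 := by
      by_contra hne
      have hm2 : m = 2 := by omega
      subst hm2
      have hi1 : i = 1 := Fin.ext (by simp; omega)
      subst hi1
      have h4 := card_VJ_two M hA (cs := (CoxeterMatrix.B 2).toCoxeterSystem) (by
        rw [← hX]
        exact fun u hu v hv => Cov.comm_X0 R hu hv) (c := 4) (d := 2)
        (by rw [Nat.card_eq_fintype_card, hF]; norm_num) hcard
      rw [← hX, R.card_X] at h4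
      have h5 : 2 ^ 5 ≤ 2 ^ (w - 1) := Nat.pow_le_pow_right (by norm_num) (by have := R.six; omega)
      omega
    subst hm3
    have hi2 : i = 2 := Fin.ext (by simp; omega)
    subst hi2
    refine ⟨![4, 4, 2], 2, Good.C3, hX, ?_, ?_⟩
    · intro j hj
      by_contra hne
      have : j ∈ Mv ρ (fun i => M.φ ⟨Nodes.WittRGD.nn (toFrame W) p0 i, nn_mem hA p0 i⟩) a := hne
      rw [hK] at this
      exact hj this
    · have hF4 : Nat.card F = 4 := by rw [Nat.card_eq_fintype_card, hF]; norm_num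
      have key : ∀ j : Fin 3, (j : ℕ) + 1 < 3 → Nat.card (Nodes.WittModel.X M (sr j)) = 4 := by
        intro j hj
        rw [← hF4]
        refine card_short M hA (a := (j, true)) (b := (⟨j + 1, hj⟩, false)) (by simp [Fin.ext_iff]) ?_
        rw [ee_sr, bt, nx, dif_pos hj]
      intro j
      match j with
      | 0 => exact key 0 (by decide)
      | 1 => exact key 1 (by decide)
      | 2 =>
        rw [card_long M hA (a := ((2 : Fin 3), true)) (by rw [ee_sr, bt, nx, dif_neg (by decide)]), hcard]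
        rfl

/-- **The field `psuEven` of `Table.Rows`.** -/
theorem psuEven (F : Type) [Field F] [Fintype F] [CharP F 2] (m q : ℕ) (hF : Fintype.card F = q ^ 2) (hm : 2 ≤ m) :
    Main.Fam.{u} (PSU (2 * m) F q) := Or.inr (KfRow.toU (kfRow_even hF hm))

end Cfsg.Agent.Omega.EH3.Kf.TwUni

end
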