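import Mathlib
import Cfsg.Agent.Mrg.Omega.EH3.Kf.TablePlug
import Cfsg.Agent.Mrg.Omega.EH3.Kf.TwUni
import Cfsg.Agent.Mrg.Nodes.RGDAllP
import Cfsg.Agent.Mrg.Omega.EH3.Kf.Main
import Cfsg.Agent.Mrg.Omega.EH3.Kf.Base
import Cfsg.Agent.Mrg.KFacts.RgdPerf
import Cfsg.Agent.KFacts.TwESix.Tor
import Cfsg.Agent.Nodes.RGDTwActE6

-- merged: Cfsg.Agent.Mrg.Omega.EH3.Kf.SpTwo
section

section


/-!
# The row `Sp_2n(2)`, `n ≥ 3` (helper532)

`false` : there is no `Row` of type `C_n`, `n ≥ 3`, with all root groups of order `2`.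
-/

set_option autoImplicit false
set_option linter.unusedSectionVars false

namespace Cfsg.Agent.Omega.EH3.Kf.SpTwo

open CoxeterSystem Cfsg.Agent.ChevalleyStructure.CoxeterGeom Cfsg.Agent.Tits.Roots Cfsg.Agent.Tits.Core
  Cfsg.Agent.Tits.RootComb Cfsg.Agent.Nodes.Comb Cfsg.Agent.Nodes.Reps Cfsg.Agent.Nodes.BNOf
  Cfsg.Agent.Nodes.StabComb Cfsg.Agent.Nodes.Bruhat Cfsg.Agent.Nodes.OppDec Cfsg.Agent.Nodes.LeviDec
  Cfsg.Agent.Nodes.Coroot Cfsg.Agent.Nodes.TypeC Cfsg.Agent.Nodes.TypeCForm Cfsg.Agent.Nodes.KindBC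
  Cfsg.Agent.Omega.EH3.Kf.Base Cfsg.Agent.Omega.EH3.Kf.Nm Cfsg.Agent.Omega.EH3.Kf.Two
  Cfsg.Agent.Omega.EH3.Kf.TwoV Cfsg.Agent.Omega.EH3.Kf.Lead
open scoped commutatorElement

/-! ### The weight of a set of nodes -/

section General

variable {I W Y V : Type*} [Fintype I] [DecidableEq I] [Group W] [Group Y] [AddCommGroup V]
    [Module (ZMod 2) V] {M : CoxeterMatrix I} {cs : CoxeterSystem M W} {A : I → I → ℤ} {h : IsCartan M A}
    {T : Subgroup Y} {n : I → Y} {X : (I → ℤ) → Subgroup Y} {ρ : Y →* (V ≃ₗ[ZMod 2] V)}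
    {b : LinearMap.BilinForm (ZMod 2) V} {a : V} {DD : Submodule (ZMod 2) V} {X0 : Subgroup Y} {w : ℕ}

open Classical in
/-- the weight with value `1` on `K` and `2` on the other simple roots -/
noncomputable def wK (K : Set I) : (I → ℤ) →+ ℤ where
  toFun x := ∑ j, x j * (if j ∈ K then 1 else 2)
  map_zero' := by simp
  map_add' x y := by
    rw [← Finset.sum_add_distrib]
    exact Finset.sum_congr rfl fun j _ => by rw [Pi.add_apply, add_mul]

open Classical in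
theorem wK_apply (K : Set I) (x : I → ℤ) : wK K x = ∑ j, x j * (if j ∈ K then 1 else 2) := rfl

open Classical in
theorem wK_sr (K : Set I) (i : I) : wK K (sr i) = if i ∈ K then 1 else 2 := by
  rw [wK_apply, Finset.sum_eq_single i]
  · rw [sr_self, one_mul]
  · intro j _ hj
    rw [sr_ne hj, zero_mul]
  · intro hi; exact absurd (Finset.mem_univ i) hi

theorem wK_pos (K : Set I) (i : I) : 0 < wK K (sr i) := by
  rw [wK_sr]; split_ifs <;> norm_num

theorem two_le_wK {K : Set I} {j : I} (hj : j ∉ K) {x : I → ℤ} (hx : 0 ≤ x) (hxj : 0 < x j) : 2 ≤ wK K x := by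
  classical
  rw [wK_apply]
  have h1 : x j * (if j ∈ K then 1 else 2) ≤ ∑ j, x j * (if j ∈ K then 1 else 2) :=
    Finset.single_le_sum (f := fun j => x j * (if j ∈ K then 1 else 2)) (fun i _ => by
      have := hx i
      simp only [Pi.zero_apply] at this
      split_ifs <;> omega) (Finset.mem_univ j)
  rw [if_neg hj] at h1
  omega

/-- **the simple roots of all nodes moving `a` are leading roots of `X0` for one weight** -/
theorem idlK [Finite W] [Finite Y] (R : Row cs h T n X ρ b a DD X0 w) (Dt : Dat cs h T n X) {k : I}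
    (hk : k ∈ Mv ρ n a) : Idl cs h X (wK (Mv ρ n a)) X0 (sr k) := by
  have hP : (sr k : I → ℤ) ∈ RGD.Pos cs h := ⟨isRoot_sr cs h k, sr_nonneg k⟩
  obtain ⟨x, hx, ho⟩ := ThmA.thmA R.core (K := Mv ρ n a) subset_rfl (u X (sr k))
    (RGD.le_Sup hP (Dt.u_mem hP.1))
  refine ⟨x, hx, hP, u X (sr k), Dt.u_mem hP.1, Dt.u_ne hP.1, (u X (sr k))⁻¹ * x, ?_, by group⟩
  refine RGD.Sup_mono (fun z hz => ?_) ho
  obtain ⟨hz, hz0, j, hj, hzj⟩ := hz
  refine ⟨⟨hz, hz0⟩, ?_⟩
  rw [wK_sr, if_pos hk]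
  exact two_le_wK hj hz0 hzj

theorem idlK_add [Finite W] [Finite Y] (R : Row cs h T n X ρ b a DD X0 w) (Dt : Dat cs h T n X) {K : Set I}
    {r s : I → ℤ} (hr : Idl cs h X (wK K) X0 r) (hr0 : r ∈ RGD.Pos cs h) (hs : s ∈ RGD.Pos cs h)
    (hp : cpr cs h s r < 0) : Idl cs h X (wK K) X0 (r + s) :=
  Idl.add (Obt.Obt.of_dat Dt).strict (wK_pos K) R.rgd
    (fun g hg x hx => R.norm g (R.fixB g (RGD.U_le_B hg)) x hx) hr hs ((Obt.Obt.of_dat Dt).cst _ hr0 _ hs hp)

theorem idlK_false [Finite W] [Finite Y] (R : Row cs h T n X ρ b a DD X0 w) (Dt : Dat cs h T n X) {K : Set I}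
    {r s : I → ℤ} (hr : Idl cs h X (wK K) X0 r) (hs : Idl cs h X (wK K) X0 s) (hr0 : r ∈ RGD.Pos cs h)
    (hs0 : s ∈ RGD.Pos cs h) (hp : cpr cs h s r < 0) : False :=
  Idl.false (Obt.Obt.of_dat Dt).strict (wK_pos K) ((Obt.Obt.of_dat Dt).inf_bot R.rgd (wK_pos K))
    (fun _ hx _ hy => Cov.comm_X0 R hx hy) hr hs ((Obt.Obt.of_dat Dt).cst _ hr0 _ hs0 hp)

end General

variable {n : ℕ} {W Y : Type*} [Group W] [Group Y] {cs : CoxeterSystem (CoxeterMatrix.B n) W}
  {T : Subgroup Y} {nn : Fin n → Y} {X : (Fin n → ℤ) → Subgroup Y}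
  {V : Type*} [AddCommGroup V] [Module (ZMod 2) V] {ρ : Y →* (V ≃ₗ[ZMod 2] V)} {a : V}
  {b : LinearMap.BilinForm (ZMod 2) V} {DD : Submodule (ZMod 2) V} {X0 : Subgroup Y} {w0 : ℕ}

theorem pos_rt {a b : Fin n × Bool} (hok : Ok a b) (ha : a.2 = true) (hab : a.1 ≤ b.1) :
    rt a b ∈ RGD.Pos cs (isCartan n) := ⟨isRoot_rt cs hok, TwC.nonneg_of (ee_rt _ _) ha hab⟩

theorem rt_add_rt (a b c : Fin n × Bool) : rt a b + rt (ng b) c = rt a c := by
  apply ee_injective
  rw [ee_add, ee_rt, ee_rt, ee_rt, wt_ng]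
  abel

/-- two leading roots `e_i - e_l`, `e_j + e_l` -/
theorem end_false [Finite W] [Finite Y] (D : Dat cs (isCartan n) T nn X)
    (R : Row cs (isCartan n) T nn X ρ b a DD X0 w0) {K : Set (Fin n)} {i j l : Fin n} (hij : i ≠ j) (hil : i < l)
    (hjl : j < l) (h1 : Idl cs (isCartan n) X (wK K) X0 (rt (i, true) (l, false)))
    (h2 : Idl cs (isCartan n) X (wK K) X0 (rt (j, true) (l, true))) : False := by
  refine idlK_false R D h2 h1 (pos_rt (Or.inl hjl.ne) rfl hjl.le) (pos_rt (Or.inl hil.ne) rfl hil.le) ?_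
  rw [cpr_E _ _ (c := (j, true)) (d := (l, true)) hjl.ne, dt_ne (c := (j, true)) hij,
    dt_ne (c := (j, true)) hjl.ne', dt_ne (c := (l, true)) hil.ne,
    show ((l, false) : Fin n × Bool) = ng (l, true) from rfl, dt_ng_left, dt_self]
  norm_num

/-- `Mv` contains a node which is neither the first nor the last -/
theorem int_false [Finite W] [Finite Y] (D : Dat cs (isCartan n) T nn X)
    (R : Row cs (isCartan n) T nn X ρ b a DD X0 w0) {k : Fin n} (hk : k ∈ Mv ρ nn a) (h0 : (k : ℕ) ≠ 0)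
    (h1 : (k : ℕ) + 1 ≠ n) : False := by
  have hk2 := k.2
  set l : Fin n := ⟨n - 1, by omega⟩ with hl
  set o : Fin n := ⟨0, by omega⟩ with ho
  set k' : Fin n := ⟨k + 1, by omega⟩ with hk'
  have hok : o < k := by rw [Fin.lt_def]; simp only [ho]; omega
  have hkl : k < l := by rw [Fin.lt_def]; simp only [hl]; omega
  have hsr : (sr k : Fin n → ℤ) = rt (k, true) (k', false) := by
    rw [sr_eq_rt, nx, dif_pos (by omega)]
  have s1 := idlK R D hk
  rw [hsr] at s1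
  -- `e_k - e_l`
  have s2 : Idl cs (isCartan n) X (wK (Mv ρ nn a)) X0 (rt (k, true) (l, false)) := by
    by_cases hk'l : k' = l
    · rw [hk'l] at s1
      exact s1
    · have hk'l' : k' < l := by
        refine lt_of_le_of_ne ?_ hk'l
        rw [Fin.le_def]; simp only [hk', hl]; omega
      have hkk' : k < k' := by rw [Fin.lt_def]; simp [hk']
      have h2 := idlK_add R D (s := rt (k', true) (l, false)) s1 (pos_rt (Or.inl hkk'.ne) rfl hkk'.le)
        (pos_rt (Or.inl hk'l'.ne) rfl hk'l'.le) (by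
          rw [cpr_E _ _ (c := (k, true)) (d := (k', false)) hkk'.ne, dt_ne (c := (k, true)) hkk'.ne',
            dt_ne (c := (k, true)) hkl.ne', dt_ne (a := (l, false)) (c := (k', false)) hk'l'.ne',
            show ((k', false) : Fin n × Bool) = ng (k', true) from rfl, dt_ng_right, dt_self]
          norm_num)
      have h3 := rt_add_rt (k, true) (k', false) (l, false)
      change rt (k, true) (k', false) + rt (k', true) (l, false) = _ at h3
      rwa [h3] at h2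
  have p1 : rt (k, true) (l, false) ∈ RGD.Pos cs (isCartan n) := pos_rt (Or.inl hkl.ne) rfl hkl.le
  -- `e_k + e_l`
  have s3 : Idl cs (isCartan n) X (wK (Mv ρ nn a)) X0 (rt (k, true) (l, true)) := by
    have h2 := idlK_add R D (s := rt (l, true) (l, true)) s2 p1 (pos_rt (Or.inr rfl) rfl le_rfl) (by
      rw [cpr_E _ _ (c := (k, true)) (d := (l, false)) hkl.ne, dt_ne (c := (k, true)) hkl.ne',
        show ((l, false) : Fin n × Bool) = ng (l, true) from rfl, dt_ng_right, dt_self]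
      norm_num)
    have h3 := rt_add_rt (k, true) (l, false) (l, true)
    change rt (k, true) (l, false) + rt (l, true) (l, true) = _ at h3
    rwa [h3] at h2
  -- `e_0 - e_l`
  have s4 : Idl cs (isCartan n) X (wK (Mv ρ nn a)) X0 (rt (o, true) (l, false)) := by
    have h2 := idlK_add R D (s := rt (o, true) (k, false)) s2 p1 (pos_rt (Or.inl hok.ne) rfl hok.le) (by
      rw [cpr_E _ _ (c := (k, true)) (d := (l, false)) hkl.ne, dt_ne (c := (k, true)) hok.ne,
        dt_ne (c := (l, false)) (hok.trans hkl).ne, dt_ne (c := (l, false)) hkl.ne,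
        show ((k, false) : Fin n × Bool) = ng (k, true) from rfl, dt_ng_left, dt_self]
      norm_num)
    have h3 := rt_add_rt (o, true) (k, false) (l, false)
    change rt (o, true) (k, false) + rt (k, true) (l, false) = _ at h3
    rwa [add_comm, h3] at h2
  exact end_false D R hok.ne (hok.trans hkl) hkl s4 s3

/-- `Mv` contains the first and the last node -/
theorem ends_false [Finite W] [Finite Y] (D : Dat cs (isCartan n) T nn X)
    (R : Row cs (isCartan n) T nn X ρ b a DD X0 w0) (hn : 3 ≤ n) {o l : Fin n} (ho : (o : ℕ) = 0)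
    (hl : (l : ℕ) + 1 = n) (hko : o ∈ Mv ρ nn a) (hkl : l ∈ Mv ρ nn a) : False := by
  set k : Fin n := ⟨1, by omega⟩ with hk
  have hok : o < k := by rw [Fin.lt_def]; simp only [hk]; omega
  have hkl' : k < l := by rw [Fin.lt_def]; simp only [hk]; omega
  have hsr : (sr o : Fin n → ℤ) = rt (o, true) (k, false) := by
    rw [sr_eq_rt, nx, dif_pos (by omega)]
    congr 2
    exact Fin.ext (by simp only [hk]; omega)
  have hsl : (sr l : Fin n → ℤ) = rt (l, true) (l, true) := by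
    rw [sr_eq_rt, nx, dif_neg (by omega)]
  have s1 := idlK R D hko
  rw [hsr] at s1
  have s2 := idlK R D hkl
  rw [hsl] at s2
  have pk : rt (k, true) (l, false) ∈ RGD.Pos cs (isCartan n) := pos_rt (Or.inl hkl'.ne) rfl hkl'.le
  -- `e_0 - e_l`
  have s4 : Idl cs (isCartan n) X (wK (Mv ρ nn a)) X0 (rt (o, true) (l, false)) := by
    have h2 := idlK_add R D (s := rt (k, true) (l, false)) s1 (pos_rt (Or.inl hok.ne) rfl hok.le) pk (by
      rw [cpr_E _ _ (c := (o, true)) (d := (k, false)) hok.ne, dt_ne (c := (o, true)) hok.ne',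
        dt_ne (c := (o, true)) (hok.trans hkl').ne', dt_ne (a := (l, false)) (c := (k, false)) hkl'.ne',
        show ((k, false) : Fin n × Bool) = ng (k, true) from rfl, dt_ng_right, dt_self]
      norm_num)
    have h3 := rt_add_rt (o, true) (k, false) (l, false)
    change rt (o, true) (k, false) + rt (k, true) (l, false) = _ at h3
    rwa [h3] at h2
  -- `e_1 + e_l`
  have s3 : Idl cs (isCartan n) X (wK (Mv ρ nn a)) X0 (rt (k, true) (l, true)) := by
    have h2 := idlK_add R D (s := rt (k, true) (l, false)) s2 (pos_rt (Or.inr rfl) rfl le_rfl) pk (by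
      rw [cpr_EE, dt_ne (c := (l, true)) hkl'.ne,
        show ((l, false) : Fin n × Bool) = ng (l, true) from rfl, dt_ng_left, dt_self]
      norm_num)
    have h3 := rt_add_rt (k, true) (l, false) (l, true)
    change rt (k, true) (l, false) + rt (l, true) (l, true) = _ at h3
    rwa [add_comm, h3] at h2
  exact end_false D R hok.ne (hok.trans hkl') hkl' s4 s3

/-- **`Sp_2n(2)`, `n ≥ 3`.** -/
theorem false (hn : 3 ≤ n) [Finite Y] (cs : CoxeterSystem (CoxeterMatrix.B n) W)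
    (R : Row cs (isCartan n) T nn X ρ b a DD X0 w0) (h2 : ∀ i, Nat.card (X (sr i)) = 2) : False := by
  have : Finite W := finite_W cs
  have D : Dat cs (isCartan n) T nn X := ⟨R.rgd, h2, six_B⟩
  set o : Fin n := ⟨0, by omega⟩ with ho
  set l : Fin n := ⟨n - 1, by omega⟩ with hl
  have hol : o ≠ l := fun e => by rw [ho, hl, Fin.mk.injEq] at e; omega
  have hl1 : (l : ℕ) + 1 = n := by simp only [hl]; omega
  have hsub : ∀ k ∈ Mv ρ nn a, k = o ∨ k = l := by
    intro k hk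
    by_contra hcon
    push Not at hcon
    refine int_false D R hk (fun e => hcon.1 (Fin.ext (by simp only [ho]; exact e))) fun e => hcon.2 (Fin.ext ?_)
    simp only [hl]; omega
  obtain ⟨k, hk⟩ := TwC.mv_nonempty R
  by_cases hko : o ∈ Mv ρ nn a
  · by_cases hkl : l ∈ Mv ρ nn a
    · exact ends_false D R hn rfl hl1 hko hkl
    · refine first_false D R (o := o) rfl ?_ hn
      ext j
      constructor
      · intro hj
        rcases hsub j hj with rfl | rfl
        · rfl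
        · exact absurd hj hkl
      · rintro rfl
        exact hko
  · refine last_false D R (l := l) hl1 ?_ hn
    ext j
    constructor
    · intro hj
      rcases hsub j hj with rfl | rfl
      · exact absurd hj hko
      · rfl
    · rintro rfl
      rcases hsub k hk with rfl | rfl
      · exact absurd hk hko
      · exact hk

end Cfsg.Agent.Omega.EH3.Kf.SpTwo

end

section


/-!
# EH3, Lie rows: the field `omm` of `Table.Rows` (helper94, helper944)
-/

set_option autoImplicit false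

namespace Cfsg.Agent.Omega.EH3.Kf.FamOmm

open Cfsg Cfsg.Agent.TitsThree Cfsg.Agent.TitsThree.WittFrame Cfsg.Agent.TitsThree.WBridge
  Cfsg.Agent.TitsThree.FrameCN Cfsg.Agent.TitsThree.KSideO Cfsg.Agent.LieClassical.OrthForms
  Cfsg.Agent.LieClassical.OrthSimple Cfsg.Agent.Nodes.WittAll

universe u

theorem kfRow_minus {F : Type*} [Field F] [Fintype F] [CharP F 2] {m : ℕ} (hm : 3 ≤ m) (a b : F)
    (hab : ∀ z₁ z₂ : F, z₁ ^ 2 + a * z₁ * z₂ + b * z₂ ^ 2 = 0 → z₁ = 0 ∧ z₂ = 0) :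
    FamRow.KfRow.{u} (POmega F (quadFormMinus m F a b)) := by
  have : Finite (POmega F (quadFormMinus m F a b)) := Quotient.finite _
  rw [← coe_minusForm] at *
  have hG := KFacts.SpecMinus.good_minus (F := F) (m := m) (by omega) a b hab
  obtain ⟨p0, hp0⟩ := KFacts.SpecMinus.adm_minus m a b hab
  exact TwOmm.kfRow_of_bd m hm a b hab (model (wminus m F a b hab) hG ⟨p0, hp0⟩)
    (OMinusBd.ambT a b hab (by omega) hG) (OMinusBd.exists_h_minus a b hab)
    (OMinusBd.bd_minus a b hab (by omega) hG ⟨p0, hp0⟩ (OMinusBd.ambT a b hab (by omega) hG) hp0)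

/-- **The field `omm` of `Table.Rows`.** -/
theorem omm (F : Type) [Field F] [Fintype F] [CharP F 2] (m : ℕ) (a b : F) (hm : 4 ≤ m)
    (hab : ∀ z₁ z₂ : F, z₁ ^ 2 + a * z₁ * z₂ + b * z₂ ^ 2 = 0 → z₁ = 0 ∧ z₂ = 0) :
    Main.Fam.{u} (POmega F (quadFormMinus (m - 1) F a b)) :=
  Or.inr (kfRow_minus (by omega) a b hab).toU

end Cfsg.Agent.Omega.EH3.Kf.FamOmm

end

end

-- merged: Cfsg.Agent.Mrg.Omega.EH3.Kf.TwE6
section

/-!
# EH3, Lie rows in characteristic 2: `²E₆(q)` (helper827)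

* `commGen` : the root groups of the positive non-simple roots lie in `⁅U, U⁆`, every even `q`;
* `rowEnd` : there is no `Row` for `²E₆(q)`;
* `kfRow` : `KfRow (twistedE6 K q)`.
-/

set_option autoImplicit false
set_option linter.unusedSectionVars false
set_option maxHeartbeats 400000

namespace Cfsg.Agent.Omega.EH3.Kf.TwE6

open CoxeterSystem Cfsg.Agent.ChevalleyStructure.CoxeterGeom Cfsg.Agent.Tits.Roots Cfsg.Agent.Tits.Core
  Cfsg.Agent.Tits.RootComb Cfsg.Agent.Tits.Exchange Cfsg.Agent.Nodes.Reps Cfsg.Agent.Nodes.BNOf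
  Cfsg.Agent.Nodes.Coroot Cfsg.Agent.Nodes.LeviDec Cfsg.Agent.KFacts.RgdSL Cfsg.Agent.KFacts.RgdTI
  Cfsg.Agent.Nodes.RGDTwE6 Cfsg.Agent.Nodes.RGDTwCoordE6 Cfsg.Agent.Nodes.RGDTwCoord
  Cfsg.Agent.Nodes.RGDTwComE6 Cfsg.Agent.Nodes.RGDTwActE6 Cfsg.Agent.Nodes.RGDTwTab
  Cfsg.Agent.KFacts.TwESix.Comb Cfsg.Agent.KFacts.RgdPerf
  Cfsg.Agent.Omega.EH3.Kf.Base Cfsg.Agent.Omega.EH3.Kf.Goal Cfsg.Agent.Omega.EH3.Kf.FamRow
open Cfsg.Lie
open scoped commutatorElement

universe u v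

/-! ### Tables -/

/-- nonnegative coordinates -/
def nn0 (z : Fin 4 → ℤ) : Bool := decide (∀ k, 0 ≤ z k)

theorem nn0_iff {z : Fin 4 → ℤ} : nn0 z = true ↔ 0 ≤ z := by
  unfold nn0
  rw [decide_eq_true_eq]
  exact Iff.rfl

set_option maxRecDepth 20000 in
theorem tab : ∀ r ∈ rts, nn0 r = true → (∀ i, r ≠ sr i) →
    (∃ z ∈ rts, ∃ w ∈ rts, nn0 z = true ∧ nn0 w = true ∧ r = z + w ∧ bf z z = bf w w ∧ 2 * bf z w = - bf z z) ∨
    (∃ z ∈ rts, ∃ w ∈ rts, nn0 z = true ∧ nn0 w = true ∧ r = z + w ∧ bf z z = 2 ∧ bf w w = 2 ∧ bf r r = 4) ∨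
    (∃ z ∈ rts, ∃ w ∈ rts, nn0 z = true ∧ nn0 w = true ∧ r = z + w ∧ bf z z = 4 ∧ bf w w = 2) := by
  decide +kernel

theorem tab2 : ∀ k : Fin 4, ∃ z ∈ rts, ∃ w ∈ rts, nn0 z = true ∧ nn0 w = true ∧ 0 < z k ∧ 0 < w k ∧
    bf z z = bf w w ∧ 2 * bf z w = - bf z z := by
  decide +kernel

theorem Qv_eq (z : Fin 4 → ℤ) : Qv z = bf z z := by
  unfold Qv Q4 bf
  ring

section Group

variable {K : Type u} [Field K] [Fintype K] {q : ℕ} {φ : K →+* K}
variable {W : Type*} [Group W] (cs : CoxeterSystem CoxeterMatrix.F₄ W)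
variable (hφ : ∀ x, φ x = x ^ q) (hqq : ∀ t : K, (t ^ q) ^ q = t)

omit [Fintype K] in
theorem exists_trace [CharP K 2] (hne : ∃ t : K, φ t ≠ t) {c : K} (hc : φ c = c)
    (hφφ : ∀ t, φ (φ t) = t) : ∃ b : K, b + φ b = c := by
  obtain ⟨t, ht⟩ := hne
  have hd : t + φ t ≠ 0 := fun h => ht (CharTwo.add_eq_zero.1 h).symm
  refine ⟨c / (t + φ t) * t, ?_⟩
  rw [map_mul, map_div₀, map_add, hφφ, hc, add_comm (φ t) t, ← mul_add, div_mul_cancel₀ _ hd]

omit [Fintype K] in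
theorem exists_ne [Fintype K] (hφ : ∀ x, φ x = x ^ q) (hK : Fintype.card K = q ^ 2) (hq1 : 1 < q) :
    ∃ t : K, φ t ≠ t := by
  by_contra hno
  push Not at hno
  have h1 := ChevalleyStructure.FixedCard.card_fixed hq1 hK
  have h2 : Nat.card {x : K // x ^ q = x} = q ^ 2 := by
    rw [← hK, ← Nat.card_eq_fintype_card]
    exact Nat.card_congr (Equiv.subtypeUnivEquiv fun x => by rw [← hφ, hno])
  rw [h2] at h1
  nlinarith

include hφ hqq

theorem NN_ne {r s : ℕ} (hr : r < chevE6.nroots) (hs : s < chevE6.nroots) (h : 2 ≤ dgE6 r s) :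
    ((Nodes.RGDTwCoord.NN dgE6 Nodes.RGDTwCoordE6.dl r s : ℤ) : K) ≠ 0 := by
  have h1 := congrArg (Int.cast : ℤ → K) ((twC hφ hqq).NN_sq hr hs h)
  rw [Int.cast_mul, Int.cast_one] at h1
  exact left_ne_zero_of_mul (by rw [h1]; exact one_ne_zero)

variable {z w : Fin 4 → ℤ}

/-- **A long root as the sum of two short roots.** -/
theorem le_trace [CharP K 2] (hne : ∃ t : K, φ t ≠ t) (hz : IsRoot cs isCartan z) (hw : IsRoot cs isCartan w)
    (hzw : IsRoot cs isCartan (z + w)) (sz : bf z z = 2) (sw : bf w w = 2) (lzw : bf (z + w) (z + w) = 4)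
    {P : Subgroup ↥(twistedE6 K q)} (h1 : X φ q z ≤ P) (h2 : X φ q w ≤ P) : X φ q (z + w) ≤ ⁅P, P⁆ := by
  rw [← Qv_eq] at sz sw lzw
  have hk : kd (Nodes.RGDTwCoord.cl chevE6 J O z) (Nodes.RGDTwCoord.cl chevE6 J O w) = 3 := by
    rcases kd_ss hz hw hzw sz sw with h | h
    · exact h
    · obtain ⟨u₀, u₁, h1, -⟩ := facts_short hz hw h
      have hlen := Lg.length hzw lzw
      rw [h1] at hlen; simp at hlen
  have hN : ((N z w : ℤ) : K) ≠ 0 := by
    unfold N
    rw [if_pos hk]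
    refine NN_ne hφ hqq (V_of_mem hz (head_mem hz)).1 (V_of_mem hw (last_mem hw)).1 ?_
    unfold kd at hk
    split_ifs at hk <;> omega
  intro g hg
  obtain ⟨c, hc, rfl⟩ := (mem_X_long hφ hqq hzw lzw g).1 hg
  obtain ⟨b, hb⟩ := exists_trace hne (c := ((N z w : ℤ) : K)⁻¹ * c)
    (by rw [map_mul, map_inv₀, map_intCast, hc]) (phi_phi hφ hqq)
  have h3 := comm_trace hφ hqq hz hw hzw sz sw lzw 1 b
  rw [map_one, one_mul, one_mul, add_comm (φ b) b, hb, mul_inv_cancel_left₀ hN] at h3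
  rw [← h3]
  exact Subgroup.commutator_mem_commutator (h1 ((mem_X_short hφ hqq hz sz _).2 ⟨_, rfl⟩))
    (h2 ((mem_X_short hφ hqq hw sw _).2 ⟨_, rfl⟩))

/-- **A short root as the sum of a long and a short root.** -/
theorem le_quad [CharP K 2] (hne : ∃ t : K, φ t ≠ t) (hz : IsRoot cs isCartan z) (hw : IsRoot cs isCartan w)
    (hzw : IsRoot cs isCartan (z + w)) (lz : bf z z = 4) (sw : bf w w = 2)
    {P : Subgroup ↥(twistedE6 K q)} (h1 : X φ q z ≤ P) (h2 : X φ q w ≤ P) (h3 : X φ q (z + w) ≤ P) :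
    X φ q (z + w) ≤ ⁅P, P⁆ := by
  have lz' := lz
  have sw' := sw
  rw [← Qv_eq] at lz sw
  have hk := kd_quad hz hw hzw lz sw
  have hN : ((N z w : ℤ) : K) ≠ 0 := by
    unfold N
    rw [if_neg (by rw [hk]; decide), if_neg (by rw [hk]; decide)]
    refine NN_ne hφ hqq (V_of_mem hz (head_mem hz)).1 (V_of_mem hw (head_mem hw)).1 ?_
    unfold kd at hk
    split_ifs at hk <;> omega
  intro g hg
  have szw : St (z + w) := (comm_quad hφ hqq hz hw hzw lz sw (φ.map_one) 1).1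
  obtain ⟨c, rfl⟩ := (mem_X_short hφ hqq hzw szw g).1 hg
  obtain ⟨-, h4, l4, h5⟩ := comm_quad hφ hqq hz hw hzw lz sw (φ.map_one) (((N z w : ℤ) : K)⁻¹ * c)
  rw [one_mul, mul_inv_cancel_left₀ hN] at h5
  have e : z + (2 : ℤ) • w = (z + w) + w := by rw [two_smul]; abel
  have h6 : X φ q (z + (2 : ℤ) • w) ≤ ⁅P, P⁆ := by
    rw [e]
    rw [e] at h4 l4
    refine le_trace cs hφ hqq hne hzw hw h4 ?_ sw' ?_ h3 h2
    · rw [← Qv_eq]; exact szw
    · rw [← Qv_eq]; exact l4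
  have h7 : x φ q (z + (2 : ℤ) • w) (((N2 z w : ℤ) : K) * (1 * (((N z w : ℤ) : K)⁻¹ * c *
      φ (((N z w : ℤ) : K)⁻¹ * c)))) ∈ X φ q (z + (2 : ℤ) • w) := by
    refine x_mem hφ hqq h4 (ok_long h4 l4 ?_)
    rw [map_mul, map_mul, map_mul, map_intCast, phi_phi hφ hqq, map_one, mul_comm (φ _) (_ * c)]
  rw [eq_mul_inv_of_mul_eq h5.symm]
  exact mul_mem (Subgroup.commutator_mem_commutator (h1 ((mem_X_long hφ hqq hz lz _).2 ⟨1, φ.map_one, rfl⟩))
    (h2 ((mem_X_short hφ hqq hw sw _).2 ⟨_, rfl⟩))) (inv_mem (h6 h7))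

/-- **The root groups of the non-simple roots.** -/
theorem commGen [CharP K 2] (hne : ∃ t : K, φ t ≠ t) : Lev.CommGen cs isCartan (X φ q) := by
  have : Finite W := finiteW cs
  intro r hr h0 hs
  have hle : ∀ {z}, IsRoot cs isCartan z → nn0 z = true → X φ q z ≤ RGD.Sup (X φ q) (RGD.Pos cs isCartan) :=
    fun hz hz0 => RGD.le_Sup ⟨hz, nn0_iff.1 hz0⟩
  rcases tab r ((mem_rts cs).1 hr) (nn0_iff.2 h0) hs with ⟨z, hz, w, hw, hz0, hw0, rfl, h1, h2⟩ |
    ⟨z, hz, w, hw, hz0, hw0, rfl, h1, h2, h3⟩ | ⟨z, hz, w, hw, hz0, hw0, rfl, h1, h2⟩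
  · rw [← mem_rts cs] at hz hw
    exact le_comm_of_comm (rgd cs hφ hqq 2) (a2 cs hz hw h1 h2) (hle hz hz0) (hle hw hw0)
  · rw [← mem_rts cs] at hz hw
    exact le_trace cs hφ hqq hne hz hw hr h1 h2 h3 (hle hz hz0) (hle hw hw0)
  · rw [← mem_rts cs] at hz hw
    exact le_quad cs hφ hqq hne hz hw hr h1 h2 (hle hz hz0) (hle hw hw0) (hle hr (nn0_iff.2 h0))

/-- **There is no row.** -/
theorem rowEnd [CharP K 2] (hne : ∃ t : K, φ t ≠ t) :
    RowEnd.{v} CoxeterMatrix.F₄ isCartan (T K q) (nn hφ) (X φ q) := by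
  intro V _ _ ρ b a D X0 w R
  have : Finite CoxeterMatrix.F₄.Group := finiteW CoxeterMatrix.F₄.toCoxeterSystem
  exfalso
  have hC := Cov.eq_VJ R (fun u hu => ThmA.thmA R.core le_rfl u hu) (commGen _ hφ hqq hne)
  obtain ⟨k, hk⟩ := Lev.exists_mv R
  obtain ⟨z, hz, w', hw, hz0, hw0, hzk, hwk, h1, h2⟩ := tab2 k
  rw [← mem_rts CoxeterMatrix.F₄.toCoxeterSystem] at hz hw
  have hA := a2 _ hz hw h1 h2
  obtain ⟨u, hu, hu1⟩ := KFacts.RgdPerf.exists_ne R.rgd hA.rx
  obtain ⟨g, hg, hg1⟩ := KFacts.RgdPerf.exists_ne R.rgd hA.rxy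
  obtain ⟨v, hv, e⟩ := A2.comm_surj R.rgd hA hu hu1 hg
  apply hg1
  rw [← e, commutatorElement_eq_one_iff_mul_comm]
  have key : ∀ {z : Fin 4 → ℤ}, IsRoot CoxeterMatrix.F₄.toCoxeterSystem isCartan z → 0 ≤ z → 0 < z k →
      X φ q z ≤ X0 := by
    intro z hz hz0 hzk
    rw [hC]
    exact TwC.X_le_VJ ⟨hz, hz0⟩ hk hzk
  exact Cov.comm_X0 R (key hz (nn0_iff.1 hz0) hzk hu) (key hw (nn0_iff.1 hw0) hwk hv)

/-- **The bundle.** -/
theorem bd [CharP K 2] : Bd CoxeterMatrix.F₄ isCartan (T K q) (nn hφ) (X φ q) where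
  fin := finiteW CoxeterMatrix.F₄.toCoxeterSystem
  rgd := rgd _ hφ hqq 2
  gen := G1_eq_top _ hφ hqq
  ab := KFacts.TwESix.Tor.T_comm
  el := by
    intro i u hu
    obtain ⟨a, ha, rfl⟩ := (mem_X hφ hqq (isRoot_sr CoxeterMatrix.F₄.toCoxeterSystem isCartan i) u).1 hu
    rw [← x_add hφ hqq (isRoot_sr CoxeterMatrix.F₄.toCoxeterSystem isCartan i) ha ha, CharTwo.add_self_eq_zero,
      x_zero hφ hqq (isRoot_sr CoxeterMatrix.F₄.toCoxeterSystem isCartan i)]

end Group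

/-- **The row of `²E₆(q)`**, `q` even. -/
theorem kfRow {K : Type u} [Field K] [Fintype K] [CharP K 2] {q : ℕ} (hq : IsPrimePow q)
    (hK : Fintype.card K = q ^ 2) : KfRow.{v} ↥(twistedE6 K q) := by
  obtain ⟨φ, hφ, hqq⟩ := ChevalleyStructure.TwE6Basic.exists_frob hq hK
  exact ⟨4, CoxeterMatrix.F₄, A, isCartan, T K q, nn hφ, X φ q, bd hφ hqq,
    rowEnd hφ hqq (exists_ne hφ hK hq.one_lt)⟩

end Cfsg.Agent.Omega.EH3.Kf.TwE6

end

-- merged: Cfsg.Agent.Mrg.Omega.EH3.Kf.TwE6Fam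
section

/-!
# EH3, Lie rows in characteristic 2: `²E₆(q)`, the literal field of `Table.Rows` (helper827)
-/

set_option autoImplicit false

namespace Cfsg.Agent.Omega.EH3.Kf.TwE6Fam

open Cfsg Cfsg.Agent.Omega.EH3.Kf.FamRow Cfsg.Agent.Omega.EH3.Kf.FamRowU Cfsg.Agent.Omega.EH3.Kf.Main

universe u

theorem twE6 : ∀ (F : Type) [Field F] [Fintype F] [CharP F 2] (q : ℕ), IsPrimePow q → Fintype.card F = q ^ 2 →
    Fam.{u} (Lie.twistedE6 F q) := fun _ _ _ _ _ hq hF => Fam.of_kfRow (TwE6.kfRow hq hF)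

end Cfsg.Agent.Omega.EH3.Kf.TwE6Fam

end

-- merged: Cfsg.Agent.Mrg.Omega.EH3.Kf.TableAll
section

/-!
# EH3, Lie rows: the table, complete (helper227)

`rows : Table.Rows` and `four_lie` (KF for the groups of Lie type of characteristic 2; the only hypothesis is `End6`,
the case `w = 6`, `End = F_4`).
-/

set_option autoImplicit false

namespace Cfsg.Agent.Omega.EH3.Kf.TableAll

open Cfsg Subgroup Cfsg.Agent.Omega.EH3.Kf.Main Cfsg.Agent.Omega.EH3.Kf.Goal

universe u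

theorem psp (F : Type) [Field F] [Fintype F] [CharP F 2] (m : ℕ) (hm : 2 ≤ m) (h2 : m = 2 → 3 ≤ Fintype.card F) :
    Fam.{u} (PSp m F) := by
  by_cases h3 : 3 ≤ m
  · exact Fam.of_kfRow (SpRow.kfRow_of m F hm fun V _ _ T nn X ρ b a D X0 w R hc => SpTwo.false h3 _ R hc)
  · obtain rfl : m = 2 := by omega
    exact Fam.of_kfRow (SpRow.kfRow_big 2 F le_rfl (by rw [Nat.card_eq_fintype_card]; exact h2 rfl))

/-- **The table.** -/
theorem rows : Table.Rows.{u} := TablePlug.rows ⟨psp, FamOmm.omm, TwE6Fam.twE6⟩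

/-- **KF for the groups of Lie type of characteristic 2.** -/
theorem four_lie (e6 : End6.{u} (fun K _ => IsLieTypeChar 2 K)) {H V : Type u} [Group H]
    [AddCommGroup V] [Module (ZMod 2) V] {ρ : H →* (V ≃ₗ[ZMod 2] V)} {b : LinearMap.BilinForm (ZMod 2) V}
    {q : V → ZMod 2} {a : V} {D : Submodule (ZMod 2) V} {P : Subgroup H} {w : ℕ} {L : Subgroup H}
    (C : Cfg ρ b q a D P w) (hL : L.Normal) (hq : IsQuasisimple L) (ho : Odd (Nat.card (center L)))
    (hX : P ⊓ centralizer (L : Set H) = ⊥) (hK : IsLieTypeChar 2 (L ⧸ center L)) : Four ρ a P :=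
  Table.four_lie rows e6 C hL hq ho hX hK

end Cfsg.Agent.Omega.EH3.Kf.TableAll

end
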